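import Mathlib
import Cfsg.Agent.Mrg.Omega.FFOne.Alg
import Cfsg.Agent.Omega.NatPair.Mod

section


/-!
# Closings of type `L₃(q)`, `Sp₄(q)`: the input

`Co3`, `Co4`: coordinates on `S₀ = Q₁Q₂`; `Lin`: the parabolic subgroup `P` on `Q` (lines `D^p`);
`CT y R`: `R = O₂(C_G(y)) ≥ C_{C_G(y)}(R)`.
-/

set_option autoImplicit false

namespace Cfsg.Agent.Omega.CloseA

variable {G : Type*} [Group G]

/-- `Q₁Q₂` is a Sylow 2-subgroup of `L₃(F)`: `D = Q₁ ∩ Q₂`, `[u,v] ↔ x(u) y(v)`. -/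
structure Co3 {F : Type*} [Field F] (Q₁ Q₂ D : Subgroup G) (x y z : G → F) : Prop where
  sq₁ : ∀ u ∈ Q₁, u * u = 1
  sq₂ : ∀ u ∈ Q₂, u * u = 1
  inf : ∀ u, u ∈ D ↔ u ∈ Q₁ ∧ u ∈ Q₂
  x_mul : ∀ u ∈ Q₁, ∀ v ∈ Q₁, x (u * v) = x u + x v
  x_surj : ∀ a, ∃ u ∈ Q₁, x u = a
  x_ker : ∀ u ∈ Q₁, x u = 0 ↔ u ∈ D
  y_mul : ∀ u ∈ Q₂, ∀ v ∈ Q₂, y (u * v) = y u + y v
  y_surj : ∀ a, ∃ u ∈ Q₂, y u = a
  y_ker : ∀ u ∈ Q₂, y u = 0 ↔ u ∈ D
  z_mul : ∀ u ∈ D, ∀ v ∈ D, z (u * v) = z u + z v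
  z_surj : ∀ a, ∃ u ∈ D, z u = a
  z_inj : ∀ u ∈ D, z u = 0 → u = 1
  mem : ∀ u ∈ Q₁, ∀ v ∈ Q₂, u * v * u⁻¹ * v⁻¹ ∈ D
  com : ∀ u ∈ Q₁, ∀ v ∈ Q₂, z (u * v * u⁻¹ * v⁻¹) = x u * y v

/-- `Q₁Q₂` is a Sylow 2-subgroup of `Sp₄(F)`: `D = Q₁ ∩ Q₂`, `[u,v] ↔ (x(u) y(v), x(u)² y(v))`. -/
structure Co4 {F : Type*} [Field F] (Q₁ Q₂ D C₁ C₂ : Subgroup G) (x y z z' : G → F) : Prop where
  sq₁ : ∀ u ∈ Q₁, u * u = 1
  sq₂ : ∀ u ∈ Q₂, u * u = 1
  inf : ∀ u, u ∈ D ↔ u ∈ Q₁ ∧ u ∈ Q₂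
  x_mul : ∀ u ∈ Q₁, ∀ v ∈ Q₁, x (u * v) = x u + x v
  x_surj : ∀ a, ∃ u ∈ Q₁, x u = a
  x_ker : ∀ u ∈ Q₁, x u = 0 ↔ u ∈ D
  y_mul : ∀ u ∈ Q₂, ∀ v ∈ Q₂, y (u * v) = y u + y v
  y_surj : ∀ a, ∃ u ∈ Q₂, y u = a
  y_ker : ∀ u ∈ Q₂, y u = 0 ↔ u ∈ D
  z_mul : ∀ u ∈ D, ∀ v ∈ D, z (u * v) = z u + z v
  z'_mul : ∀ u ∈ D, ∀ v ∈ D, z' (u * v) = z' u + z' v
  z_surj : ∀ a a', ∃ u ∈ D, z u = a ∧ z' u = a'
  z_inj : ∀ u ∈ D, z u = 0 → z' u = 0 → u = 1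
  z_ker : ∀ u ∈ D, z u = 0 ↔ u ∈ C₁
  z'_ker : ∀ u ∈ D, z' u = 0 ↔ u ∈ C₂
  mem : ∀ u ∈ Q₁, ∀ v ∈ Q₂, u * v * u⁻¹ * v⁻¹ ∈ D
  com : ∀ u ∈ Q₁, ∀ v ∈ Q₂, z (u * v * u⁻¹ * v⁻¹) = x u * y v
  com' : ∀ u ∈ Q₁, ∀ v ∈ Q₂, z' (u * v * u⁻¹ * v⁻¹) = x u * x u * y v

/-- The parabolic subgroup `P ≤ N_G(Q)`: `L ⊴ P` with `L ∩ S = S₀`, `Q` is the union of the lines
`D^p`, two lines meet in `C`. -/
structure Lin (S S0 D Q P L C : Subgroup G) : Prop where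
  SP : S ≤ P
  PQ : ∀ p ∈ P, ∀ a ∈ Q, p * a * p⁻¹ ∈ Q
  PL : ∀ p ∈ P, ∀ l ∈ L, p * l * p⁻¹ ∈ L
  PC : ∀ p ∈ P, ∀ c ∈ C, p * c * p⁻¹ ∈ C
  CD : C ≤ D
  LS : ∀ s ∈ S, s ∈ L ↔ s ∈ S0
  cov : ∀ a ∈ Q, ∃ p ∈ P, p * a * p⁻¹ ∈ D
  line : ∀ p ∈ P, (∃ d ∈ D, p * d * p⁻¹ ∉ D) → ∀ d ∈ D, p * d * p⁻¹ ∈ D → d ∈ C
  cen : ∀ g : G, (∀ a ∈ Q, g * a = a * g) → g ∈ Q

/-- `R = O₂(C_G(y))` contains its centralizer in `C_G(y)`. -/
structure CT (y : G) (R : Subgroup G) : Prop where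
  le : ∀ r ∈ R, r * y = y * r
  nrm : ∀ g, g * y = y * g → ∀ r ∈ R, g * r * g⁻¹ ∈ R
  two : IsPGroup 2 R
  cen : ∀ g, g * y = y * g → (∀ r ∈ R, g * r = r * g) → g ∈ R
  max : ∀ K : Subgroup G, (∀ k ∈ K, k * y = y * k) → (∀ g, g * y = y * g → ∀ k ∈ K, g * k * g⁻¹ ∈ K) →
    IsPGroup 2 K → K ≤ R

end Cfsg.Agent.Omega.CloseA

end

section


/-!
# OMEGA / SQT, node SQ2 = FF-1: input of the closings `L₃(q)`, `Sp₄(q)` (bb #12688)

`LThree.co3`, `SpFour.co4`: the coordinates; `NatLin`: `L = ⟨A^P⟩ Q` induces `SL₂(F)` on `V / C_V(L)`;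
`Mut.lin`, `Mut.lin'`: the structures `Lin` for the two parabolic subgroups; `Mut.faith`, `Mut.faith'`.
-/

set_option autoImplicit false

open Subgroup

namespace Cfsg.Agent.Omega.FFOne

open Cfsg.Agent.Omega.CloseA

variable {G : Type*} [Group G]

theorem LThree.co3 {F : Type*} [Field F] {Q₁ Q₂ : Subgroup G} {x y z : G → F} {t₁ t₂ : G} {ω₁ ω₂ : F}
    (l : LThree Q₁ Q₂ (Q₁ ⊓ Q₂) x y z t₁ t₂ ω₁ ω₂) (b : Base Q₁ Q₂ (Q₁ ⊓ Q₂)) :
    Co3 Q₁ Q₂ (Q₁ ⊓ Q₂) x y z where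
  sq₁ := b.sq₁
  sq₂ := b.sq₂
  inf := fun _ => mem_inf
  x_mul := l.x_mul
  x_surj := l.x_surj
  x_ker := l.x_ker
  y_mul := l.y_mul
  y_surj := l.y_surj
  y_ker := l.y_ker
  z_mul := l.z_mul
  z_surj := l.z_surj
  z_inj := l.z_inj
  mem := b.mem
  com := l.com

theorem SpFour.co4 {F : Type*} [Field F] {Q₁ Q₂ C₁ C₂ : Subgroup G} {x y z z' : G → F} {t₁ t₂ : G} {ω₁ ω₂ : F}
    (l : SpFour Q₁ Q₂ (Q₁ ⊓ Q₂) C₁ C₂ x y z z' t₁ t₂ ω₁ ω₂) (b : Base Q₁ Q₂ (Q₁ ⊓ Q₂)) :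
    Co4 Q₁ Q₂ (Q₁ ⊓ Q₂) C₁ C₂ x y z z' where
  sq₁ := b.sq₁
  sq₂ := b.sq₂
  inf := fun _ => mem_inf
  x_mul := l.x_mul
  x_surj := l.x_surj
  x_ker := l.x_ker
  y_mul := l.y_mul
  y_surj := l.y_surj
  y_ker := l.y_ker
  z_mul := l.z_mul
  z'_mul := l.z'_mul
  z_surj := l.z_surj
  z_inj := l.z_inj
  z_ker := l.z_ker
  z'_ker := l.z'_ker
  mem := b.mem
  com := l.com
  com' := l.com'

/-- `L = ⟨A^P⟩ Q` induces `SL₂(F)` on `V / C_V(L)`, with respect to the coordinates `x, z`. -/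
structure NatLin {F : Type*} [Field F] (P Q V A L : Subgroup G) (x z : G → F) : Prop where
  AL : A ≤ L
  QL : Q ≤ L
  LP : L ≤ P
  Ln : ∀ p ∈ P, ∀ l ∈ L, p * l * p⁻¹ ∈ L
  lin : ∀ l ∈ L, ∃ a b c d : F, a * d - b * c = 1 ∧
    ∀ v ∈ V, x (l * v * l⁻¹) = a * x v + b * z v ∧ z (l * v * l⁻¹) = c * x v + d * z v
  all : ∀ a b : F, (a ≠ 0 ∨ b ≠ 0) → ∃ l ∈ L, ∀ v ∈ V, x (l * v * l⁻¹) = a * x v + b * z v

/-- every element of `P` is `l s` with `l ∈ L`, `s ∈ S` -/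
theorem dec_LS {P S Q V A L : Subgroup G} {a : ℕ} (o : Off P S Q V A a) (SP : S ≤ P) (AL : A ≤ L)
    (Ln : ∀ p ∈ P, ∀ l ∈ L, p * l * p⁻¹ ∈ L) {p : G} (hp : p ∈ P) : ∃ l ∈ L, ∃ s ∈ S, p = l * s := by
  let K : Subgroup G :=
    { carrier := {g | ∃ l ∈ L, ∃ s ∈ S, g = l * s}
      one_mem' := ⟨1, one_mem _, 1, one_mem _, by simp⟩
      mul_mem' := by
        rintro _ _ ⟨l, hl, s, hs, rfl⟩ ⟨l', hl', s', hs', rfl⟩
        exact ⟨l * (s * l' * s⁻¹), mul_mem hl (Ln s (SP hs) l' hl'), s * s', mul_mem hs hs', by group⟩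
      inv_mem' := by
        rintro _ ⟨l, hl, s, hs, rfl⟩
        refine ⟨s⁻¹ * l⁻¹ * s⁻¹⁻¹, Ln s⁻¹ (inv_mem (SP hs)) l⁻¹ (inv_mem hl), s⁻¹, inv_mem hs, by group⟩ }
  have h1 : P ≤ K := o.gen K (fun s hs => ⟨1, one_mem _, s, hs, by simp⟩) fun g hg w hw =>
    ⟨g * w * g⁻¹, Ln g hg w (AL hw), 1, one_mem _, by simp⟩
  exact h1 hp

namespace Mut

variable {P₁ P₂ S Q₁ Q₂ V₁ V₂ L : Subgroup G} {a : ℕ} {F : Type*} [Field F] {x y z X Y Z : G → F} {t : G} {ω : F}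

/-- `[Q₁, s] ≤ D`, `s ∈ S`, implies `s ∈ S₀` -/
theorem faith (h : Mut P₁ P₂ S Q₁ Q₂ V₁ V₂ a) {s : G} (hs : s ∈ S)
    (hc : ∀ u ∈ Q₁, s * u * s⁻¹ * u⁻¹ ∈ Q₁ ⊓ Q₂) : s ∈ Q₁ ⊔ Q₂ := by
  obtain ⟨w, hw, q, hq, e⟩ := h.o₁.act s hs fun v hv => by
    have h1 := hc v (h.s₁.VQ hv)
    rw [mem_centralizer_iff]
    intro w hw
    exact (h.comm₂ h1.2 (h.s₂.VQ hw)).symm
  rw [e]
  exact mul_mem (mem_sup_right (h.s₂.VQ hw)) (mem_sup_left hq)

theorem faith₂ (h : Mut P₁ P₂ S Q₁ Q₂ V₁ V₂ a) {s : G} (hs : s ∈ S)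
    (hc : ∀ u ∈ Q₂, s * u * s⁻¹ * u⁻¹ ∈ Q₁ ⊓ Q₂) : s ∈ Q₁ ⊔ Q₂ := by
  rw [sup_comm]
  exact h.symm.faith hs fun u hu => by rw [inf_comm]; exact hc u hu

/-- the form of `faith` without an inverse -/
theorem faith' (h : Mut P₁ P₂ S Q₁ Q₂ V₁ V₂ a) {s : G} (hs : s ∈ S)
    (hc : ∀ u ∈ Q₁, s * u * s⁻¹ * u ∈ Q₁ ⊓ Q₂) : s ∈ Q₁ ⊔ Q₂ :=
  h.faith hs fun u hu => by rw [h.inv₁ hu]; exact hc u hu

theorem faith₂' (h : Mut P₁ P₂ S Q₁ Q₂ V₁ V₂ a) {s : G} (hs : s ∈ S)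
    (hc : ∀ u ∈ Q₂, s * u * s⁻¹ * u ∈ Q₁ ⊓ Q₂) : s ∈ Q₁ ⊔ Q₂ :=
  h.faith₂ hs fun u hu => by rw [h.symm.inv₁ hu]; exact hc u hu

theorem S_norm₁ (h : Mut P₁ P₂ S Q₁ Q₂ V₁ V₂ a) : ∀ s ∈ S, ∀ u ∈ Q₁, s * u * s⁻¹ ∈ Q₁ :=
  fun s hs => h.s₁.Qn s (h.s₁.SP hs)

theorem S_norm₂ (h : Mut P₁ P₂ S Q₁ Q₂ V₁ V₂ a) : ∀ s ∈ S, ∀ u ∈ Q₂, s * u * s⁻¹ ∈ Q₂ :=
  fun s hs => h.s₂.Qn s (h.s₂.SP hs)

theorem S_normD (h : Mut P₁ P₂ S Q₁ Q₂ V₁ V₂ a) : ∀ s ∈ S, ∀ u ∈ Q₁ ⊓ Q₂, s * u * s⁻¹ ∈ Q₁ ⊓ Q₂ :=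
  fun s hs u hu => ⟨h.S_norm₁ s hs u hu.1, h.S_norm₂ s hs u hu.2⟩

/-- `S₀ = Q₁Q₂ ≤ L` -/
theorem sup_le_L (h : Mut P₁ P₂ S Q₁ Q₂ V₁ V₂ a) (n : NatLin P₁ Q₁ V₁ V₂ L x z) : Q₁ ⊔ Q₂ ≤ L := by
  refine sup_le n.QL fun w hw => ?_
  obtain ⟨v, hv, d, hd, rfl⟩ := h.dec₂ hw
  exact mul_mem (n.AL hv) (n.QL hd.1)

variable [Finite G] {y' : G → F}

/-- the structure `Lin` for `(P₁, C₁)` -/
theorem lin (h : Mut P₁ P₂ S Q₁ Q₂ V₁ V₂ a) (hS : IsPGroup 2 S) (hcen : ∀ g : G, (∀ u ∈ Q₁, g * u = u * g) → g ∈ Q₁)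
    (hX : ∀ v ∈ V₁, X v = x v ∧ Z v = z v) (co : Co Q₁ Q₂ (Q₁ ⊓ Q₂) (CC P₁ Q₁ V₂) X Y Z t ω)
    (n : NatLin P₁ Q₁ V₁ V₂ L x z) : Lin S (Q₁ ⊔ Q₂) (Q₁ ⊓ Q₂) Q₁ P₁ L (CC P₁ Q₁ V₂) := by
  have hCn := h.C_norm
  have hVD : ∀ v ∈ V₁, v ∈ Q₁ ⊓ Q₂ ↔ x v = 0 := fun v hv => by
    rw [← (hX v hv).1]; exact (co.x_ker v (h.s₁.VQ hv)).symm
  have hVC : ∀ v ∈ V₁, v ∈ Q₁ ⊓ Q₂ → (v ∈ CC P₁ Q₁ V₂ ↔ z v = 0) := fun v hv hvD => by
    rw [← (hX v hv).2]; exact (co.z_ker v hvD).symm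
  have hLP : ∀ l ∈ L, l ∈ P₁ := fun l hl => n.LP hl
  -- `l ∈ L`, `l v c l⁻¹ ∈ D ↔ l v l⁻¹ ∈ D`
  have hmem : ∀ l ∈ L, ∀ v ∈ V₁, ∀ c ∈ CC P₁ Q₁ V₂, (l * (v * c) * l⁻¹ ∈ Q₁ ⊓ Q₂ ↔ x (l * v * l⁻¹) = 0) := by
    intro l hl v hv c hc
    rw [← hVD _ (h.s₁.Vn l (hLP l hl) v hv)]
    have e : l * (v * c) * l⁻¹ = (l * v * l⁻¹) * (l * c * l⁻¹) := by group
    rw [e]
    exact mul_mem_cancel_right (h.C_le (hCn l (hLP l hl) c hc))
  -- lines for `l ∈ L`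
  have hline : ∀ l ∈ L, (∃ d ∈ Q₁ ⊓ Q₂, l * d * l⁻¹ ∉ Q₁ ⊓ Q₂) → ∀ d ∈ Q₁ ⊓ Q₂, l * d * l⁻¹ ∈ Q₁ ⊓ Q₂ →
      d ∈ CC P₁ Q₁ V₂ := by
    rintro l hl ⟨d₀, hd₀, hnd⟩ d hd hd'
    obtain ⟨a, b, c, e, -, hl'⟩ := n.lin l hl
    obtain ⟨v₀, hv₀, c₀, hc₀, rfl⟩ := h.decC hd₀.1
    obtain ⟨v, hv, c₁, hc₁, rfl⟩ := h.decC hd.1
    rw [hmem l hl _ hv₀ _ hc₀, (hl' v₀ hv₀).1] at hnd
    rw [hmem l hl _ hv _ hc₁, (hl' v hv).1] at hd'
    have h0 : x v₀ = 0 := (hVD _ hv₀).1 ((mul_mem_cancel_right (h.C_le hc₀)).1 hd₀)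
    have hvD : v ∈ Q₁ ⊓ Q₂ := (mul_mem_cancel_right (h.C_le hc₁)).1 hd
    have h1 : x v = 0 := (hVD _ hv).1 hvD
    rw [h0, mul_zero, zero_add] at hnd
    rw [h1, mul_zero, zero_add] at hd'
    have hb : b ≠ 0 := fun hb => hnd (by rw [hb, zero_mul])
    have h2 : z v = 0 := (mul_eq_zero.1 hd').resolve_left hb
    exact mul_mem ((hVC _ hv hvD).2 h2) hc₁
  refine ⟨h.s₁.SP, h.s₁.Qn, n.Ln, hCn, h.C_le, ?_, ?_, ?_, hcen⟩
  · -- `S ∩ L = S₀`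
    intro s hs
    refine ⟨fun hsL => ?_, fun hs0 => h.sup_le_L n hs0⟩
    obtain ⟨a', b, c, d, hdet, hl⟩ := n.lin s hsL
    -- `b = 0`
    have hb : b = 0 := by
      obtain ⟨u, hu, hu1⟩ := co.z_surj 1
      obtain ⟨v, hv, c₁, hc₁, rfl⟩ := h.decC hu.1
      have hvD : v ∈ Q₁ ⊓ Q₂ := (mul_mem_cancel_right (h.C_le hc₁)).1 hu
      have h1 : x v = 0 := (hVD _ hv).1 hvD
      have h2 : z v = 1 := by
        rw [co.z_mul _ hvD _ (h.C_le hc₁), (co.z_ker _ (h.C_le hc₁)).2 hc₁, add_zero, (hX v hv).2] at hu1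
        exact hu1
      have h3 := (hVD _ (h.s₁.Vn s (h.s₁.SP hs) v hv)).1 (h.S_normD s hs v hvD)
      rw [(hl v hv).1, h1, h2, mul_zero, mul_one, zero_add] at h3
      exact h3
    have hx : ∀ v ∈ V₁, x (s * v * s⁻¹) = a' * x v := fun v hv => by
      rw [(hl v hv).1, hb, zero_mul, add_zero]
    -- `a = 1`
    have hpow : ∀ k : ℕ, ∀ v ∈ V₁, x (s ^ k * v * (s ^ k)⁻¹) = a' ^ k * x v := by
      intro k
      induction k with
      | zero => intro v _; simp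
      | succ k ih =>
        intro v hv
        have e : s ^ (k + 1) * v * (s ^ (k + 1))⁻¹ = s * (s ^ k * v * (s ^ k)⁻¹) * s⁻¹ := by
          rw [pow_succ']; group
        rw [e, hx _ (h.s₁.Vn _ (pow_mem (h.s₁.SP hs) k) v hv), ih v hv, pow_succ']
        ring
    obtain ⟨k, hk⟩ := hS ⟨s, hs⟩
    have hk' : s ^ 2 ^ k = 1 := by simpa using congrArg Subtype.val hk
    have hchar : CharP F 2 := co.charTwo h.base
    have ha : a' = 1 := by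
      obtain ⟨u, hu, hu1⟩ := co.x_surj 1
      obtain ⟨v, hv, c₁, hc₁, rfl⟩ := h.decC hu
      have h1 : x v = 1 := by
        rw [co.x_mul _ (h.s₁.VQ hv) _ hc₁.1, (co.x_ker _ hc₁.1).2 (h.C_le hc₁), add_zero, (hX v hv).1] at hu1
        exact hu1
      have h2 := hpow (2 ^ k) v hv
      rw [hk', h1] at h2
      have h3 : a' ^ 2 ^ k = 1 := by
        simp only [one_mul, inv_one, mul_one, h1] at h2
        exact h2.symm
      have h4 : (a' - 1) ^ 2 ^ k = 0 := by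
        rw [sub_pow_char_pow, h3, one_pow, sub_self]
      exact sub_eq_zero.1 (pow_eq_zero_iff (pow_ne_zero k two_ne_zero) |>.1 h4)
    obtain ⟨w, hw, q, hq, e⟩ := h.o₁.act s hs fun v hv => by
      have hv' := h.s₁.Vn s (h.s₁.SP hs) v hv
      have h1 : s * v * s⁻¹ * v⁻¹ ∈ Q₁ ⊓ Q₂ := by
        have h2 : X (s * v * s⁻¹ * v⁻¹) = 0 := by
          rw [co.x_mul _ (h.s₁.VQ hv') _ (h.s₁.VQ (inv_mem hv)), add_inv' co.x_mul (h.s₁.VQ hv), (hX _ hv').1,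
            (hX v hv).1, hx v hv, ha, one_mul, add_neg_cancel]
        exact (co.x_ker _ (h.s₁.VQ (mul_mem hv' (inv_mem hv)))).1 h2
      rw [mem_centralizer_iff]
      intro w hw
      exact (h.comm₂ h1.2 (h.s₂.VQ hw)).symm
    rw [e]
    exact mul_mem (mem_sup_right (h.s₂.VQ hw)) (mem_sup_left hq)
  · -- the lines cover `Q₁`
    intro u hu
    obtain ⟨v, hv, c, hc, rfl⟩ := h.decC hu
    by_cases h0 : x v = 0 ∧ z v = 0
    · refine ⟨1, one_mem _, ?_⟩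
      have := (hmem 1 (one_mem _) v hv c hc).2 (by simpa using h0.1)
      exact this
    · have h1 : z v ≠ 0 ∨ -x v ≠ 0 := by
        by_contra hc'
        push Not at hc'
        exact h0 ⟨neg_eq_zero.1 hc'.2, hc'.1⟩
      obtain ⟨l, hl, hl'⟩ := n.all _ _ h1
      refine ⟨l, hLP l hl, (hmem l hl v hv c hc).2 ?_⟩
      rw [hl' v hv]; ring
  · -- two lines meet in `C₁`
    rintro p hp ⟨d₀, hd₀, hnd⟩ d hd hd'
    obtain ⟨l, hl, s, hs, rfl⟩ := dec_LS h.o₁ h.s₁.SP n.AL n.Ln hp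
    have e : ∀ u : G, l * s * u * (l * s)⁻¹ = l * (s * u * s⁻¹) * l⁻¹ := fun u => by group
    rw [e] at hnd hd'
    have h1 := hline l hl ⟨_, h.S_normD s hs _ hd₀, hnd⟩ _ (h.S_normD s hs _ hd) hd'
    have h2 := hCn s⁻¹ (inv_mem (h.s₁.SP hs)) _ h1
    have e2 : s⁻¹ * (s * d * s⁻¹) * s⁻¹⁻¹ = d := by group
    rwa [e2] at h2

omit [Finite G] in
/-- normal 2-subgroups of `N_G(S₀)` lie in the Sylow 2-subgroup `S` -/
theorem normal_le (S : Sylow 2 G) {S₀ : Subgroup G} (hS₀ : ∀ s ∈ (S : Subgroup G), ∀ u ∈ S₀, s * u * s⁻¹ ∈ S₀)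
    (R : Subgroup G) (hR : IsPGroup 2 R)
    (hn : ∀ g ∈ normalizer (S₀ : Set G), ∀ r ∈ R, g * r * g⁻¹ ∈ R) : R ≤ S := by
  have hSN : (S : Subgroup G) ≤ normalizer (S₀ : Set G) := by
    intro s hs
    rw [mem_normalizer_iff]
    intro u
    refine ⟨hS₀ s hs u, fun hu => ?_⟩
    have h1 := hS₀ s⁻¹ (inv_mem hs) _ hu
    have e : s⁻¹ * (s * u * s⁻¹) * s⁻¹⁻¹ = u := by group
    rwa [e] at h1
  have hSR : (S : Subgroup G) ≤ normalizer (R : Set G) := by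
    intro s hs
    rw [mem_normalizer_iff]
    intro r
    refine ⟨hn s (hSN hs) r, fun hr => ?_⟩
    have h1 := hn s⁻¹ (inv_mem (hSN hs)) _ hr
    have e : s⁻¹ * (s * r * s⁻¹) * s⁻¹⁻¹ = r := by group
    rwa [e] at h1
  have h1 : IsPGroup 2 (R ⊔ S : Subgroup G) := hR.to_sup_of_normal_left' S.2 hSR
  have h2 := S.is_maximal' h1 le_sup_right
  rw [← h2]
  exact le_sup_left

variable {S : Sylow 2 G} {L₁ L₂ : Subgroup G} [Finite F] {x₂ z₂ y₂ : G → F} {t₁ t₂ : G} {ω₁ ω₂ : F}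

/-- **#9675 (1)-(5)**: the input of the closings `L₃(q)` and `Sp₄(q)`. -/
theorem toClose (h : Mut P₁ P₂ S Q₁ Q₂ V₁ V₂ a) (hcen₁ : ∀ g : G, (∀ u ∈ Q₁, g * u = u * g) → g ∈ Q₁)
    (hcen₂ : ∀ g : G, (∀ u ∈ Q₂, g * u = u * g) → g ∈ Q₂)
    (n₁ : NatCo P₁ Q₁ V₁ V₂ x z y t₁ ω₁) (n₂ : NatCo P₂ Q₂ V₂ V₁ x₂ z₂ y₂ t₂ ω₂)
    (l₁ : NatLin P₁ Q₁ V₁ V₂ L₁ x z) (l₂ : NatLin P₂ Q₂ V₂ V₁ L₂ x₂ z₂) :
    (∃ X Y Z : G → F, Co3 Q₁ Q₂ (Q₁ ⊓ Q₂) X Y Z ∧ Lin S (Q₁ ⊔ Q₂) (Q₁ ⊓ Q₂) Q₁ P₁ L₁ ⊥ ∧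
        Lin S (Q₁ ⊔ Q₂) (Q₁ ⊓ Q₂) Q₂ P₂ L₂ ⊥) ∨
      ∃ (X Y Z Z' : G → F), Co4 Q₁ Q₂ (Q₁ ⊓ Q₂) (CC P₁ Q₁ V₂) (CC P₂ Q₂ V₁) X Y Z Z' ∧
        Lin S (Q₁ ⊔ Q₂) (Q₁ ⊓ Q₂) Q₁ P₁ L₁ (CC P₁ Q₁ V₂) ∧
        Lin S (Q₁ ⊔ Q₂) (Q₁ ⊓ Q₂) Q₂ P₂ L₂ (CC P₂ Q₂ V₁) := by
  obtain ⟨X, Y, Z, h1, h2, co₁⟩ := h.exists_co n₁
  obtain ⟨X₂, Y₂, Z₂, h3, h4, co₂⟩ := h.symm.exists_co n₂
  have m₁ := h.lin S.2 hcen₁ h1 co₁ l₁
  have m₂ := h.symm.lin S.2 hcen₂ h3 co₂ l₂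
  rw [inf_comm] at co₂
  rw [inf_comm Q₂, sup_comm Q₂] at m₂
  have hS₀ : ∀ s ∈ (S : Subgroup G), ∀ u ∈ Q₁ ⊔ Q₂, s * u * s⁻¹ ∈ Q₁ ⊔ Q₂ := by
    intro s hs u hu
    obtain ⟨v, hv, w, hw, rfl⟩ := h.mem_S₀.1 hu
    have e : s * (v * w) * s⁻¹ = (s * v * s⁻¹) * (s * w * s⁻¹) := by group
    rw [e]
    exact mul_mem (mem_sup_left (h.S_norm₁ s hs v hv)) (mem_sup_right (h.S_norm₂ s hs w hw))
  have hN : ∀ R : Subgroup G, IsPGroup 2 R → R ≤ normalizer ((Q₁ ⊔ Q₂ : Subgroup G) : Set G) →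
      (∀ g ∈ normalizer ((Q₁ ⊔ Q₂ : Subgroup G) : Set G), ∀ r ∈ R, g * r * g⁻¹ ∈ R) → R ≤ S :=
    fun R hR _ hn => normal_le S hS₀ R hR hn
  have hc : ∀ g : G, (∀ s ∈ Q₁ ⊔ Q₂, g * s = s * g) → g ∈ Q₁ ⊔ Q₂ := fun g hg =>
    mem_sup_left (hcen₁ g fun u hu => hg u (mem_sup_left hu))
  rcases five h.base co₁ co₂ h.C_inf (h.hR hN hc) with ⟨hC₁, hC₂, ω, hl⟩ | ⟨Z', ω, hl⟩
  · rw [hC₁] at m₁
    rw [hC₂] at m₂
    exact Or.inl ⟨X, Y, Z, hl.co3 h.base, m₁, m₂⟩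
  · exact Or.inr ⟨X, Y, Z, Z', hl.co4 h.base, m₁, m₂⟩

end Mut

end Cfsg.Agent.Omega.FFOne

end

section


/-!
# OMEGA / SQT, node SQ2 = FF-1: `NatCo`, `NatLin` from a natural `SL₂(F)`-module `V / D`

`NatTwo P V D e` : `e : V → F²` with kernel `D` identifies `V / D` with the natural module for `SL₂(F)`, normal in the
group induced by `P` (the fields of `FrameFF.NatOver`); `QuadOver V A e w` : `A` induces the full stabiliser of the vector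
`w` in `SL₂(F)` and centralises the preimage of the line of `w` (cf. `NatMod.Quad`).
-/

set_option autoImplicit false

open Subgroup

namespace Cfsg.Agent.Omega.FFOne

open Cfsg.Agent.Omega.NatPair Cfsg.Agent.Omega.CloseA Cfsg.Agent.Lib.SL2Mat

variable {G : Type*} [Group G]

/-- `V / D` is the natural module `F²` for a normal subgroup `SL₂(F)` of the group induced by `P`. -/
structure NatTwo {F : Type*} [Field F] (P V D : Subgroup G) (e : G → Fin 2 → F) : Prop where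
  mul : ∀ v ∈ V, ∀ w ∈ V, e (v * w) = e v + e w
  surj : ∀ x : Fin 2 → F, ∃ v ∈ V, e v = x
  ker : ∀ v ∈ V, e v = 0 ↔ v ∈ D
  lift : ∀ A : Matrix.SpecialLinearGroup (Fin 2) F, ∃ g ∈ P, ∀ v ∈ V, e (g * v * g⁻¹) = ap A (e v)
  norm : ∀ g ∈ P, ∀ h ∈ P, ∀ A : Matrix.SpecialLinearGroup (Fin 2) F, (∀ v ∈ V, e (h * v * h⁻¹) = ap A (e v)) →
    ∃ B : Matrix.SpecialLinearGroup (Fin 2) F, ∀ v ∈ V, e (g * h * g⁻¹ * v * (g * h * g⁻¹)⁻¹) = ap B (e v)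

/-- `A` induces the full stabiliser of `w` in `SL₂(F)` on `V / D` and centralises the preimage of the line of `w`. -/
structure QuadOver {F : Type*} [Field F] (V A : Subgroup G) (e : G → Fin 2 → F) (w : Fin 2 → F) : Prop where
  ne : w ≠ 0
  lin : ∀ a ∈ A, ∃ B : Matrix.SpecialLinearGroup (Fin 2) F, ap B w = w ∧ ∀ v ∈ V, e (a * v * a⁻¹) = ap B (e v)
  full : ∀ B : Matrix.SpecialLinearGroup (Fin 2) F, ap B w = w → ∃ a ∈ A, ∀ v ∈ V, e (a * v * a⁻¹) = ap B (e v)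
  cent : ∀ v ∈ V, (∃ c : F, e v = c • w) → ∀ a ∈ A, v * a = a * v

/-- `⟨A^P⟩ Q` -/
def LL (P Q A : Subgroup G) : Subgroup G := closure {x | ∃ h ∈ P, ∃ w ∈ A, x = h * w * h⁻¹} ⊔ Q

theorem LL_norm {P Q A : Subgroup G} (hQ : ∀ p ∈ P, ∀ x ∈ Q, p * x * p⁻¹ ∈ Q) :
    ∀ p ∈ P, ∀ l ∈ LL P Q A, p * l * p⁻¹ ∈ LL P Q A := by
  intro p hp l hl
  have h1 : LL P Q A ≤ (LL P Q A).comap (MulAut.conj p).toMonoidHom := by
    conv_lhs => rw [LL]
    refine sup_le ?_ fun q hq => ?_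
    · rw [closure_le]
      rintro _ ⟨h, hh, w, hw, rfl⟩
      change p * (h * w * h⁻¹) * p⁻¹ ∈ LL P Q A
      exact mem_sup_left (subset_closure ⟨p * h, mul_mem hp hh, w, hw, by group⟩)
    · exact mem_sup_right (hQ p hp q hq)
  exact h1 hl

/-- `SL₂(F)` is generated by the lower and the upper transvections -/
theorem mem_of_lo_up {F : Type*} [Field F] (K : Subgroup (Matrix.SpecialLinearGroup (Fin 2) F))
    (h1 : ∀ b, lo b ∈ K) (h2 : ∀ b, up b ∈ K) (A : Matrix.SpecialLinearGroup (Fin 2) F) : A ∈ K := by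
  obtain ⟨a, b, c, d, rfl⟩ := exists_up_lo A
  exact mul_mem (mul_mem (mul_mem (h2 _) (h1 _)) (h2 _)) (h1 _)

theorem eq_lo_of_fix {F : Type*} [Field F] {B : Matrix.SpecialLinearGroup (Fin 2) F} (h : ap B ![0, 1] = ![0, 1]) :
    B = lo (ent B 1 0) := by
  have h0 := congrFun h 0
  have h1 := congrFun h 1
  rw [ap_zero'] at h0
  rw [ap_one'] at h1
  simp only [Matrix.cons_val_zero, Matrix.cons_val_one, mul_one, mul_zero, zero_add] at h0 h1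
  have hd := det_eq B
  rw [h0, h1] at hd
  refine ext_ent ?_ ?_ ?_ ?_
  · rw [lo_00]; linear_combination hd
  · rw [lo_01, h0]
  · rw [lo_10]
  · rw [lo_11, h1]

theorem ap_lo_e {F : Type*} [Field F] (b : F) : ap (lo b) ![0, 1] = ![0, 1] := by
  apply ext2
  · rw [ap_zero']; simp
  · rw [ap_one']; simp

/-- a Sylow subgroup of `G` inside `M S` absorbs 2-subgroups up to conjugation by `M` -/
theorem exists_conj_le {G : Type*} [Group G] [Finite G] (S : Sylow 2 G) {M : Subgroup G}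
    (hM : ∀ s ∈ (S : Subgroup G), ∀ m ∈ M, s * m * s⁻¹ ∈ M) {T : Subgroup G} (hT : IsPGroup 2 T)
    (hTM : ∀ x ∈ T, ∃ m ∈ M, ∃ s ∈ (S : Subgroup G), x = m * s) : ∃ m ∈ M, ∀ x ∈ T, m * x * m⁻¹ ∈ (S : Subgroup G) := by
  let H : Subgroup G :=
    { carrier := {g | ∃ m ∈ M, ∃ s ∈ (S : Subgroup G), g = m * s}
      one_mem' := ⟨1, one_mem _, 1, one_mem _, by simp⟩
      mul_mem' := by
        rintro _ _ ⟨l, hl, s, hs, rfl⟩ ⟨l', hl', s', hs', rfl⟩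
        exact ⟨l * (s * l' * s⁻¹), mul_mem hl (hM s hs l' hl'), s * s', mul_mem hs hs', by group⟩
      inv_mem' := by
        rintro _ ⟨l, hl, s, hs, rfl⟩
        refine ⟨s⁻¹ * l⁻¹ * s⁻¹⁻¹, hM s⁻¹ (inv_mem hs) l⁻¹ (inv_mem hl), s⁻¹, inv_mem hs, by group⟩ }
  have hSH : (S : Subgroup G) ≤ H := fun s hs => ⟨1, one_mem _, s, hs, by simp⟩
  have hTH : T ≤ H := hTM
  let S' : Sylow 2 H := S.subtype hSH
  have hT' : IsPGroup 2 (T.subgroupOf H) := hT.comap_of_injective _ (subtype_injective H)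
  obtain ⟨R, hR⟩ := hT'.exists_le_sylow
  obtain ⟨g, hg⟩ := MulAction.exists_smul_eq H R S'
  obtain ⟨m, hm, s, hs, e⟩ := (g : H).2
  -- `g = m s`; use `s⁻¹`-twist
  have key : ∀ x ∈ T, (g : G) * x * (g : G)⁻¹ ∈ (S : Subgroup G) := by
    intro x hx
    have h1 : (⟨x, hTH hx⟩ : H) ∈ (R : Subgroup H) := hR (mem_subgroupOf.2 hx)
    have h2 : g * ⟨x, hTH hx⟩ * g⁻¹ ∈ ((g • R : Sylow 2 H) : Subgroup H) := by
      rw [Sylow.coe_subgroup_smul, mem_pointwise_smul_iff_inv_smul_mem]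
      have e3 : (MulAut.conj g)⁻¹ • (g * ⟨x, hTH hx⟩ * g⁻¹) = ⟨x, hTH hx⟩ := by
        rw [← map_inv, MulAut.smul_def, MulAut.conj_apply]
        group
      rw [e3]
      exact h1
    rw [hg] at h2
    exact h2
  -- `g = s' m'`
  refine ⟨s⁻¹ * m * s⁻¹⁻¹, hM s⁻¹ (inv_mem hs) m hm, fun x hx => ?_⟩
  have h1 := key x hx
  rw [e] at h1
  have h2 := mul_mem (mul_mem (inv_mem hs) h1) hs
  have e2 : s⁻¹ * (m * s * x * (m * s)⁻¹) * s = s⁻¹ * m * s⁻¹⁻¹ * x * (s⁻¹ * m * s⁻¹⁻¹)⁻¹ := by group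
  rwa [e2] at h2

namespace Mut

variable {P₁ P₂ Q₁ Q₂ V₁ V₂ D : Subgroup G} {a : ℕ} {F : Type*} [Field F] {e : G → Fin 2 → F} {w : Fin 2 → F}

/-- every element of `⟨A^P⟩ Q` acts on `V / D` as an element of `SL₂(F)` -/
theorem LL_lin {S : Subgroup G} (h : Mut P₁ P₂ S Q₁ Q₂ V₁ V₂ a) (n : NatTwo P₁ V₁ D e) (q : QuadOver V₁ V₂ e w) :
    ∀ l ∈ LL P₁ Q₁ V₂, ∃ B : Matrix.SpecialLinearGroup (Fin 2) F, ∀ v ∈ V₁, e (l * v * l⁻¹) = ap B (e v) := by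
  have hA : ∀ w ∈ V₂, w ∈ P₁ := fun w hw => h.s₁.SP (h.s₂.QS (h.s₂.VQ hw))
  have hQP : ∀ u ∈ Q₁, u ∈ P₁ := fun u hu => h.s₁.SP (h.s₁.QS hu)
  let K : Subgroup G :=
    { carrier := {g | g ∈ P₁ ∧ ∃ B : Matrix.SpecialLinearGroup (Fin 2) F, ∀ v ∈ V₁, e (g * v * g⁻¹) = ap B (e v)}
      one_mem' := ⟨one_mem _, 1, fun v _ => by rw [ap_one]; simp⟩
      mul_mem' := by
        rintro g g' ⟨hg, B, hB⟩ ⟨hg', B', hB'⟩
        refine ⟨mul_mem hg hg', B * B', fun v hv => ?_⟩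
        have e1 : g * g' * v * (g * g')⁻¹ = g * (g' * v * g'⁻¹) * g⁻¹ := by group
        rw [e1, hB _ (h.s₁.Vn g' hg' v hv), hB' v hv, ap_mul]
      inv_mem' := by
        rintro g ⟨hg, B, hB⟩
        refine ⟨inv_mem hg, B⁻¹, fun v hv => ?_⟩
        have h1 := hB _ (h.s₁.Vn g⁻¹ (inv_mem hg) v hv)
        have e1 : g * (g⁻¹ * v * g⁻¹⁻¹) * g⁻¹ = v := by group
        rw [e1] at h1
        rw [h1, ap_inv_ap] }
  have hK : LL P₁ Q₁ V₂ ≤ K := by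
    refine sup_le ?_ fun u hu => ?_
    · rw [closure_le]
      rintro _ ⟨p, hp, w', hw', rfl⟩
      obtain ⟨B, -, hB⟩ := q.lin w' hw'
      exact ⟨mul_mem (mul_mem hp (hA w' hw')) (inv_mem hp), n.norm p hp w' (hA w' hw') B hB⟩
    · refine ⟨hQP u hu, 1, fun v hv => ?_⟩
      rw [ap_one, h.s₁.com u hu v hv, mul_inv_cancel_right]
  exact fun l hl => (hK hl).2

theorem LL_le {S : Subgroup G} (h : Mut P₁ P₂ S Q₁ Q₂ V₁ V₂ a) : LL P₁ Q₁ V₂ ≤ P₁ := by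
  refine sup_le ?_ fun u hu => h.s₁.SP (h.s₁.QS hu)
  rw [closure_le]
  rintro _ ⟨p, hp, w', hw', rfl⟩
  exact mul_mem (mul_mem hp (h.s₁.SP (h.s₂.QS (h.s₂.VQ hw')))) (inv_mem hp)

theorem V_le_LL {S : Subgroup G} (_ : Mut P₁ P₂ S Q₁ Q₂ V₁ V₂ a) : V₂ ≤ LL P₁ Q₁ V₂ := fun w hw =>
  mem_sup_left (subset_closure ⟨1, one_mem _, w, hw, by simp⟩)

/-- `L = ⟨A^P⟩ Q` centralises `C_Q(⟨A^P⟩)` -/
theorem LL_cen {S : Subgroup G} (h : Mut P₁ P₂ S Q₁ Q₂ V₁ V₂ a) : ∀ l ∈ LL P₁ Q₁ V₂, ∀ c ∈ CC P₁ Q₁ V₂, l * c = c * l := by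
  intro l hl c hc
  have h1 : LL P₁ Q₁ V₂ ≤ centralizer ({c} : Set G) := by
    refine sup_le ?_ fun u hu => ?_
    · rw [closure_le]
      rintro _ ⟨p, hp, w', hw', rfl⟩
      rw [SetLike.mem_coe, mem_centralizer_singleton_iff]
      exact ((mem_CC.1 hc).2 p hp w' hw').symm
    · rw [mem_centralizer_singleton_iff]
      exact h.comm₁ hu (mem_CC.1 hc).1
  exact mem_centralizer_singleton_iff.1 (h1 hl)

/-- `SL₂(F)` is induced by `⟨A^P⟩ Q` -/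
theorem LL_full {S : Subgroup G} (h : Mut P₁ P₂ S Q₁ Q₂ V₁ V₂ a) (n : NatTwo P₁ V₁ D e) (q : QuadOver V₁ V₂ e w) :
    ∀ B : Matrix.SpecialLinearGroup (Fin 2) F, ∃ l ∈ LL P₁ Q₁ V₂, ∀ v ∈ V₁, e (l * v * l⁻¹) = ap B (e v) := by
  let K : Subgroup (Matrix.SpecialLinearGroup (Fin 2) F) :=
    { carrier := {B | ∃ l ∈ LL P₁ Q₁ V₂, ∀ v ∈ V₁, e (l * v * l⁻¹) = ap B (e v)}
      one_mem' := ⟨1, one_mem _, fun v _ => by rw [ap_one]; simp⟩
      mul_mem' := by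
        rintro B B' ⟨g, hg, hB⟩ ⟨g', hg', hB'⟩
        refine ⟨g * g', mul_mem hg hg', fun v hv => ?_⟩
        have e1 : g * g' * v * (g * g')⁻¹ = g * (g' * v * g'⁻¹) * g⁻¹ := by group
        rw [e1, hB _ (h.s₁.Vn g' (h.LL_le hg') v hv), hB' v hv, ap_mul]
      inv_mem' := by
        rintro B ⟨g, hg, hB⟩
        refine ⟨g⁻¹, inv_mem hg, fun v hv => ?_⟩
        have h1 := hB _ (h.s₁.Vn g⁻¹ (inv_mem (h.LL_le hg)) v hv)
        have e1 : g * (g⁻¹ * v * g⁻¹⁻¹) * g⁻¹ = v := by group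
        rw [e1] at h1
        rw [h1, ap_inv_ap] }
  -- `K` contains the conjugates of the stabiliser of `w`
  have hK : ∀ C B : Matrix.SpecialLinearGroup (Fin 2) F, ap B w = w → C * B * C⁻¹ ∈ K := by
    intro C B hB
    obtain ⟨g, hg, hg'⟩ := n.lift C
    obtain ⟨w', hw', hw''⟩ := q.full B hB
    have hgi : ∀ v ∈ V₁, e (g⁻¹ * v * g⁻¹⁻¹) = ap C⁻¹ (e v) := by
      intro v hv
      have h1 := hg' _ (h.s₁.Vn g⁻¹ (inv_mem hg) v hv)
      have e1 : g * (g⁻¹ * v * g⁻¹⁻¹) * g⁻¹ = v := by group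
      rw [e1] at h1
      rw [h1, ap_inv_ap]
    refine ⟨g * w' * g⁻¹, mem_sup_left (subset_closure ⟨g, hg, w', hw', rfl⟩), fun v hv => ?_⟩
    have hv1 := h.s₁.Vn g⁻¹ (inv_mem hg) v hv
    have hv2 := h.s₁.Vn w' (h.s₁.SP (h.s₂.QS (h.s₂.VQ hw'))) _ hv1
    have e1 : g * w' * g⁻¹ * v * (g * w' * g⁻¹)⁻¹ = g * (w' * (g⁻¹ * v * g⁻¹⁻¹) * w'⁻¹) * g⁻¹ := by group
    rw [e1, hg' _ hv2, hw'' _ hv1, hgi v hv, ap_mul, ap_mul]
  -- `lo`, `up`
  have he0 : (![0, 1] : Fin 2 → F) ≠ 0 := fun h => by simpa using congrFun h 1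
  have he1 : (![1, 0] : Fin 2 → F) ≠ 0 := fun h => by simpa using congrFun h 0
  have hlo : ∀ b, lo b ∈ K := by
    intro b
    obtain ⟨C, hC⟩ := exists_ap q.ne he0
    have h1 := hK C (C⁻¹ * lo b * C) (by rw [ap_mul, hC, ap_mul, ap_lo_e, ← hC, ap_inv_ap])
    have e1 : C * (C⁻¹ * lo b * C) * C⁻¹ = lo b := by group
    rwa [e1] at h1
  have hup : ∀ b, up b ∈ K := by
    intro b
    obtain ⟨C, hC⟩ := exists_ap q.ne he1
    have h1 := hK C (C⁻¹ * up b * C) (by rw [ap_mul, hC, ap_mul, ap_up_e, ← hC, ap_inv_ap])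
    have e1 : C * (C⁻¹ * up b * C) * C⁻¹ = up b := by group
    rwa [e1] at h1
  exact fun B => mem_of_lo_up K hlo hup B

/-- **`NatCo` and `NatLin` from the natural module** -/
theorem exists_nat [Finite G] [Finite F] {S : Sylow 2 G} (h : Mut P₁ P₂ S Q₁ Q₂ V₁ V₂ a) (n : NatTwo P₁ V₁ D e)
    (q : QuadOver V₁ V₂ e w) (DV : D ≤ V₁) (Dn : ∀ p ∈ P₁, ∀ d ∈ D, p * d * p⁻¹ ∈ D)
    (hF : ∃ c : F, c ≠ 0 ∧ c ≠ 1) :
    ∃ (x z y : G → F) (t : G) (ω : F) (L : Subgroup G), NatCo P₁ Q₁ V₁ V₂ x z y t ω ∧ NatLin P₁ Q₁ V₁ V₂ L x z := by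
  classical
  have he0 : (![0, 1] : Fin 2 → F) ≠ 0 := fun h => by simpa using congrFun h 1
  obtain ⟨C, hC⟩ := exists_ap q.ne he0
  have hA : ∀ w ∈ V₂, w ∈ P₁ := fun w hw => h.s₁.SP (h.s₂.QS (h.s₂.VQ hw))
  have DA : ∀ d ∈ D, ∀ w ∈ V₂, d * w = w * d := fun d hd w' hw' =>
    q.cent d (DV hd) ⟨0, by rw [(n.ker d (DV hd)).2 hd, zero_smul]⟩ w' hw'
  -- coordinates
  set e' : G → Fin 2 → F := fun v => ap C (e v) with he'
  have hmul : ∀ u ∈ V₁, ∀ v ∈ V₁, e' (u * v) = e' u + e' v := fun u hu v hv => by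
    simp only [he']; rw [n.mul u hu v hv, ap_add]
  have hact : ∀ g : G, ∀ B : Matrix.SpecialLinearGroup (Fin 2) F, (∀ v ∈ V₁, e (g * v * g⁻¹) = ap B (e v)) →
      ∀ v ∈ V₁, e' (g * v * g⁻¹) = ap (C * B * C⁻¹) (e' v) := by
    intro g B hB v hv
    simp only [he']
    rw [hB v hv, ap_mul, ap_mul, ap_inv_ap]
  have hfull : ∀ B : Matrix.SpecialLinearGroup (Fin 2) F, ∃ l ∈ LL P₁ Q₁ V₂, ∀ v ∈ V₁, e' (l * v * l⁻¹) = ap B (e' v) := by
    intro B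
    obtain ⟨l, hl, hl'⟩ := h.LL_full n q (C⁻¹ * B * C)
    refine ⟨l, hl, fun v hv => ?_⟩
    have h1 := hact l _ hl' v hv
    have e1 : C * (C⁻¹ * B * C) * C⁻¹ = B := by group
    rwa [e1] at h1
  have hap0 : ∀ B : Matrix.SpecialLinearGroup (Fin 2) F, ap B 0 = 0 := fun B => by
    apply ext2
    · rw [ap_zero']; simp
    · rw [ap_one']; simp
  have hker : ∀ v ∈ V₁, e' v = 0 ↔ v ∈ D := by
    intro v hv
    rw [← n.ker v hv]
    constructor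
    · intro h1
      have h2 : ap C⁻¹ (e' v) = e v := by simp only [he']; rw [ap_inv_ap]
      rw [← h2, h1, hap0]
    · intro h1
      simp only [he']
      rw [h1, hap0]
  have hsurj : ∀ u : Fin 2 → F, ∃ v ∈ V₁, e' v = u := by
    intro u
    obtain ⟨v, hv, hv'⟩ := n.surj (ap C⁻¹ u)
    exact ⟨v, hv, by simp only [he']; rw [hv', ap_ap_inv]⟩
  have hxm : ∀ u ∈ V₁, ∀ v ∈ V₁, e' (u * v) 0 = e' u 0 + e' v 0 := fun u hu v hv => by rw [hmul u hu v hv]; rfl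
  -- the action of `A`
  have hAact : ∀ w' ∈ V₂, ∃ b : F, ∀ v ∈ V₁, e' (w' * v * w'⁻¹) = ap (lo b) (e' v) := by
    intro w' hw'
    obtain ⟨B, hB, hB'⟩ := q.lin w' hw'
    have h1 : ap (C * B * C⁻¹) ![0, 1] = ![0, 1] := by rw [← hC, ap_mul, ap_mul, ap_inv_ap, hB]
    refine ⟨ent (C * B * C⁻¹) 1 0, fun v hv => ?_⟩
    rw [hact w' B hB' v hv, ← eq_lo_of_fix h1]
  choose! y hy using hAact
  have hyz : ∀ w' ∈ V₂, ∀ v ∈ V₁, e' (w' * v * w'⁻¹) 1 = e' v 1 + y w' * e' v 0 := by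
    intro w' hw' v hv
    rw [hy w' hw' v hv, ap_one', lo_10, lo_11]; ring
  have hyx : ∀ w' ∈ V₂, ∀ v ∈ V₁, e' (w' * v * w'⁻¹) 0 = e' v 0 := by
    intro w' hw' v hv
    rw [hy w' hw' v hv, ap_zero', lo_00, lo_01]; ring
  have hy_surj : ∀ b, ∃ w' ∈ V₂, y w' = b := by
    intro b
    obtain ⟨w', hw', hw''⟩ := q.full (C⁻¹ * lo b * C) (by rw [ap_mul, hC, ap_mul, ap_lo_e, ← hC, ap_inv_ap])
    refine ⟨w', hw', ?_⟩
    obtain ⟨v, hv, hv'⟩ := hsurj ![1, 0]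
    have h1 := hact w' _ hw'' v hv
    have e1 : C * (C⁻¹ * lo b * C) * C⁻¹ = lo b := by group
    rw [e1, hy w' hw' v hv, hv'] at h1
    have h2 := congrFun h1 1
    rw [ap_one', ap_one'] at h2
    simpa using h2
  -- `C_{V₁}(V₂)`
  have hcent : ∀ v ∈ V₁, e' v 0 = 0 → ∀ w' ∈ V₂, v * w' = w' * v := by
    intro v hv h0
    refine q.cent v hv ⟨e' v 1, ?_⟩
    have h1 : e v = ap C⁻¹ (e' v) := by simp only [he']; rw [ap_inv_ap]
    have h2 : e' v = e' v 1 • ![0, 1] := by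
      apply ext2
      · rw [h0]; simp
      · simp
    rw [h1]
    nth_rewrite 1 [h2]
    rw [ap_smul, ← hC, ap_inv_ap]
  have hF' : a = Nat.card F := by
    rw [← h.o₁.idx]
    refine relIndex_ker' (f := fun v => e' v 0) hxm (fun b => ?_) fun v hv => ?_
    · obtain ⟨v, hv, hv'⟩ := hsurj ![b, 0]
      exact ⟨v, hv, by rw [hv']; rfl⟩
    · rw [mem_inf_cen]
      constructor
      · rintro ⟨-, hc⟩
        obtain ⟨w', hw', hyw⟩ := hy_surj 1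
        have h1 := hyz w' hw' v hv
        have h2 : w' * v * w'⁻¹ = v := by rw [← hc w' hw', mul_inv_cancel_right]
        rw [h2, hyw, one_mul] at h1
        exact left_eq_add.1 h1
      · intro h0
        exact ⟨hv, hcent v hv h0⟩
  -- elements of `V₂` with `y = 0`
  have hym : ∀ u ∈ V₂, ∀ w' ∈ V₂, y (u * w') = y u + y w' := by
    intro u hu w' hw'
    obtain ⟨v, hv, hv'⟩ := hsurj ![1, 0]
    have h1 := hyz (u * w') (mul_mem hu hw') v hv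
    have hwv : w' * v * w'⁻¹ ∈ V₁ := h.s₁.Vn w' (hA w' hw') v hv
    have h2 := hyz u hu _ hwv
    rw [hyz w' hw' v hv, hyx w' hw' v hv] at h2
    have e1 : u * w' * v * (u * w')⁻¹ = u * (w' * v * w'⁻¹) * u⁻¹ := by group
    rw [e1, h2, hv'] at h1
    simp only [Matrix.cons_val_zero, Matrix.cons_val_one, mul_one, zero_add] at h1
    linear_combination -h1
  have hy0 : ∀ w' ∈ V₂, y w' = 0 → w' ∈ Q₁ := by
    intro w' hw' h0
    let K : Subgroup G :=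
      { carrier := {u | u ∈ V₂ ∧ y u = 0}
        one_mem' := ⟨one_mem _, add_one' hym⟩
        mul_mem' := fun {a b} ha hb => ⟨mul_mem ha.1 hb.1, by rw [hym _ ha.1 _ hb.1, ha.2, hb.2, add_zero]⟩
        inv_mem' := fun {a} ha => ⟨inv_mem ha.1, by rw [add_inv' hym ha.1, ha.2, neg_zero]⟩ }
    have hKQ : K ≤ V₂ := fun u hu => hu.1
    have hDK : V₂ ⊓ centralizer (V₁ : Set G) ≤ K := by
      intro u hu
      rw [mem_inf_cen] at hu
      refine ⟨hu.1, ?_⟩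
      obtain ⟨v, hv, hv'⟩ := hsurj ![1, 0]
      have h1 := hyz u hu.1 v hv
      have h2 : u * v * u⁻¹ = v := by rw [hu.2 v hv, mul_inv_cancel_right]
      rw [h2, hv'] at h1
      simpa using h1.symm
    have h1 : K.relIndex V₂ = Nat.card F := relIndex_ker' hym hy_surj fun u hu => ⟨fun h => h.2, fun h => ⟨hu, h⟩⟩
    have h2 := relIndex_mul_relIndex _ _ _ hDK hKQ
    rw [h1, h.o₂.idx, ← hF'] at h2
    have h4 : (V₂ ⊓ centralizer (V₁ : Set G)).relIndex K = 1 := by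
      have := h.a_pos
      exact Nat.eq_of_mul_eq_mul_right this (by rw [h2, one_mul])
    have h5 : K ≤ V₂ ⊓ centralizer (V₁ : Set G) := relIndex_eq_one.1 h4
    have h6 := h5 ⟨hw', h0⟩
    rw [mem_inf_cen] at h6
    exact h.s₁.cen w' (h.s₂.QS (h.s₂.VQ hw')) h6.2
  -- the kernel on `V / D`
  let K₀ : Subgroup G :=
    { carrier := {l | l ∈ LL P₁ Q₁ V₂ ∧ ∀ v ∈ V₁, l * v * l⁻¹ * v⁻¹ ∈ D}
      one_mem' := ⟨one_mem _, fun v _ => by simp⟩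
      mul_mem' := by
        rintro l l' ⟨hl, hl1⟩ ⟨hl', hl1'⟩
        refine ⟨mul_mem hl hl', fun v hv => ?_⟩
        have h1 := mul_mem (hl1 _ (h.s₁.Vn l' (h.LL_le hl') v hv)) (hl1' v hv)
        have e1 : l * (l' * v * l'⁻¹) * l⁻¹ * (l' * v * l'⁻¹)⁻¹ * (l' * v * l'⁻¹ * v⁻¹) = l * l' * v * (l * l')⁻¹ * v⁻¹ := by
          group
        rwa [e1] at h1
      inv_mem' := by
        rintro l ⟨hl, hl1⟩
        refine ⟨inv_mem hl, fun v hv => ?_⟩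
        have h1 := inv_mem (hl1 _ (h.s₁.Vn l⁻¹ (inv_mem (h.LL_le hl)) v hv))
        have e1 : (l * (l⁻¹ * v * l⁻¹⁻¹) * l⁻¹ * (l⁻¹ * v * l⁻¹⁻¹)⁻¹)⁻¹ = l⁻¹ * v * l⁻¹⁻¹ * v⁻¹ := by group
        rwa [e1] at h1 }
  have hK₀n : ∀ s ∈ (S : Subgroup G), ∀ m ∈ K₀, s * m * s⁻¹ ∈ K₀ := by
    rintro s hs m ⟨hm, hm1⟩
    refine ⟨LL_norm h.s₁.Qn s (h.s₁.SP hs) m hm, fun v hv => ?_⟩
    have h1 := Dn s (h.s₁.SP hs) _ (hm1 _ (h.s₁.Vn s⁻¹ (inv_mem (h.s₁.SP hs)) v hv))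
    have e1 : s * (m * (s⁻¹ * v * s⁻¹⁻¹) * m⁻¹ * (s⁻¹ * v * s⁻¹⁻¹)⁻¹) * s⁻¹ = s * m * s⁻¹ * v * (s * m * s⁻¹)⁻¹ * v⁻¹ := by
      group
    rwa [e1] at h1
  have hK₀S : ∀ s ∈ (S : Subgroup G), s ∈ K₀ → s ∈ Q₁ := by
    rintro s hs ⟨hsL, hsD⟩
    obtain ⟨w', hw', q', hq', rfl⟩ := h.o₁.act s hs fun v hv => by
      rw [mem_centralizer_iff]
      exact fun w' hw' => (DA _ (hsD v hv) w' hw').symm
    refine mul_mem (hy0 w' hw' ?_) hq'
    obtain ⟨v, hv, hv'⟩ := hsurj ![1, 0]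
    have h1 := hsD v hv
    have h2 : w' * q' * v * (w' * q')⁻¹ = w' * v * w'⁻¹ := by
      calc w' * q' * v * (w' * q')⁻¹ = w' * (q' * v) * q'⁻¹ * w'⁻¹ := by group
        _ = w' * (v * q') * q'⁻¹ * w'⁻¹ := by rw [h.s₁.com q' hq' v hv]
        _ = _ := by group
    rw [h2] at h1
    have hwv : w' * v * w'⁻¹ ∈ V₁ := h.s₁.Vn w' (hA w' hw') v hv
    have h3 := (hker _ (mul_mem hwv (inv_mem hv))).2 h1
    have h4 : e' (w' * v * w'⁻¹) = e' v := by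
      have h5 := hmul _ (mul_mem hwv (inv_mem hv)) v hv
      rw [inv_mul_cancel_right, h3, zero_add] at h5
      exact h5
    have h5 := hyz w' hw' v hv
    rw [h4, hv'] at h5
    simpa using h5.symm
  -- the torus
  obtain ⟨c, hc0, hc1⟩ := hF
  obtain ⟨g, hg⟩ := IsCyclic.exists_generator (α := Fˣ)
  set ω : F := (g : F) with hω
  have hω0 : ω ≠ 0 := g.ne_zero
  have hgen : ∀ b : F, b ≠ 0 → ∃ m : ℕ, b = ω ^ m := by
    intro b hb
    have h1 := hg (Units.mk0 b hb)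
    rw [← mem_powers_iff_mem_zpowers] at h1
    obtain ⟨m, hm⟩ := h1
    refine ⟨m, ?_⟩
    have h2 := congrArg Units.val hm
    rw [Units.val_pow_eq_pow_val, Units.val_mk0] at h2
    exact h2.symm
  have hω1 : ω ≠ 1 := by
    intro h1
    obtain ⟨m, hm⟩ := hgen c hc0
    exact hc1 (by rw [hm, h1, one_pow])
  obtain ⟨t, ht, htact⟩ := hfull (dg ω⁻¹ (inv_ne_zero hω0))
  have hT : IsPGroup 2 (V₂.map (MulAut.conj t).toMonoidHom) :=
    (S.2.to_le (h.s₂.VQ.trans h.s₂.QS)).map _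
  -- `t w t⁻¹ = k w'`, `k ∈ K₀`
  have hdecT : ∀ w' ∈ V₂, ∃ k ∈ K₀, ∃ w'' ∈ V₂, t * w' * t⁻¹ = k * w'' := by
    intro w' hw'
    obtain ⟨w'', hw'', hyw⟩ := hy_surj (ω ^ 2 * y w')
    refine ⟨t * w' * t⁻¹ * w''⁻¹, ⟨?_, fun v hv => ?_⟩, w'', hw'', by group⟩
    · exact mul_mem (LL_norm h.s₁.Qn t (h.LL_le ht) w' (h.V_le_LL hw')) (inv_mem (h.V_le_LL hw''))
    · have hgP : t * w' * t⁻¹ * w''⁻¹ ∈ P₁ := mul_mem (mul_mem (mul_mem (h.LL_le ht) (hA w' hw'))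
        (inv_mem (h.LL_le ht))) (inv_mem (hA w'' hw''))
      have hgv := h.s₁.Vn _ hgP v hv
      rw [← hker _ (mul_mem hgv (inv_mem hv))]
      -- action of `t⁻¹`, `w''⁻¹`
      have hv1 := h.s₁.Vn w''⁻¹ (inv_mem (hA w'' hw'')) v hv
      have hv2 := h.s₁.Vn t⁻¹ (inv_mem (h.LL_le ht)) _ hv1
      have hv3 := h.s₁.Vn w' (hA w' hw') _ hv2
      have a1 := hy w'' hw'' _ hv1
      have e1 : w'' * (w''⁻¹ * v * w''⁻¹⁻¹) * w''⁻¹ = v := by group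
      rw [e1] at a1
      have a2 := htact _ hv2
      have e2 : t * (t⁻¹ * (w''⁻¹ * v * w''⁻¹⁻¹) * t⁻¹⁻¹) * t⁻¹ = w''⁻¹ * v * w''⁻¹⁻¹ := by group
      rw [e2] at a2
      have a3 := hy w' hw' _ hv2
      have a4 := htact _ hv3
      have e3 : t * (w' * (t⁻¹ * (w''⁻¹ * v * w''⁻¹⁻¹) * t⁻¹⁻¹) * w'⁻¹) * t⁻¹ =
          t * w' * t⁻¹ * w''⁻¹ * v * (t * w' * t⁻¹ * w''⁻¹)⁻¹ := by group
      rw [e3] at a4
      generalize e' (t⁻¹ * (w''⁻¹ * v * w''⁻¹⁻¹) * t⁻¹⁻¹) = u at a2 a3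
      have h5 : e' (t * w' * t⁻¹ * w''⁻¹ * v * (t * w' * t⁻¹ * w''⁻¹)⁻¹) = e' v := by
        rw [a4, a3, a1, a2, ← ap_mul, ← ap_mul, hyw]
        congr 1
        refine ext_ent ?_ ?_ ?_ ?_ <;> simp only [ent_mul, dg_00, dg_01, dg_10, dg_11, lo_00, lo_01, lo_10, lo_11] <;>
          field_simp <;> ring
      have h6 := hmul _ (mul_mem hgv (inv_mem hv)) v hv
      rw [inv_mul_cancel_right, h5] at h6
      exact left_eq_add.1 (h6.trans (add_comm _ _))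
  obtain ⟨m, hm, hmS⟩ := exists_conj_le S hK₀n hT (by
    rintro _ ⟨w', hw', rfl⟩
    obtain ⟨k, hk, w'', hw'', e1⟩ := hdecT w' hw'
    exact ⟨k, hk, w'', h.s₂.QS (h.s₂.VQ hw''), e1⟩)
  have hmact : ∀ v ∈ V₁, e' (m * v * m⁻¹) = e' v := by
    intro v hv
    have hmv := h.s₁.Vn m (h.LL_le hm.1) v hv
    have h3 := (hker _ (mul_mem hmv (inv_mem hv))).2 (hm.2 v hv)
    have h5 := hmul _ (mul_mem hmv (inv_mem hv)) v hv
    rw [inv_mul_cancel_right, h3, zero_add] at h5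
    exact h5
  have htL : m * t ∈ LL P₁ Q₁ V₂ := mul_mem hm.1 ht
  have hmt : ∀ v ∈ V₁, e' (m * t * v * (m * t)⁻¹) = ap (dg ω⁻¹ (inv_ne_zero hω0)) (e' v) := by
    intro v hv
    have e1 : m * t * v * (m * t)⁻¹ = m * (t * v * t⁻¹) * m⁻¹ := by group
    rw [e1, hmact _ (h.s₁.Vn t (h.LL_le ht) v hv), htact v hv]
  refine ⟨fun v => e' v 0, fun v => e' v 1, y, m * t, ω, LL P₁ Q₁ V₂,
    { x_mul := hxm
      z_mul := fun u hu v hv => by rw [hmul u hu v hv]; rfl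
      surj := fun b c => by
        obtain ⟨v, hv, hv'⟩ := hsurj ![b, c]
        exact ⟨v, hv, by rw [hv']; rfl, by rw [hv']; rfl⟩
      ker := fun v hv h0 h1 p hp w' hw' => by
        have hvD : v ∈ D := (hker v hv).1 (ext2 h0 h1)
        have h2 := DA _ (Dn p⁻¹ (inv_mem hp) v hvD) w' hw'
        calc v * (p * w' * p⁻¹) = p * (p⁻¹ * v * p⁻¹⁻¹ * w') * p⁻¹ := by group
          _ = p * (w' * (p⁻¹ * v * p⁻¹⁻¹)) * p⁻¹ := by rw [h2]
          _ = _ := by group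
      ker' := fun v hv hc => by
        have hvC : v ∈ CC P₁ Q₁ V₂ := mem_CC.2 ⟨h.s₁.VQ hv, hc⟩
        obtain ⟨l, hl, hl'⟩ := hfull (lo 1)
        obtain ⟨r, hr, hr'⟩ := hfull (up 1)
        have h1 := hl' v hv
        rw [h.LL_cen l hl v hvC, mul_inv_cancel_right] at h1
        have h2 := hr' v hv
        rw [h.LL_cen r hr v hvC, mul_inv_cancel_right] at h2
        have h3 := congrFun h1 1
        have h4 := congrFun h2 0
        rw [ap_one', lo_10, lo_11, one_mul, one_mul] at h3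
        rw [ap_zero', up_00, up_01, one_mul, one_mul] at h4
        exact ⟨right_eq_add.1 h3, left_eq_add.1 h4⟩
      yx := hyx
      yz := hyz
      y_surj := hy_surj
      fix := hcent
      tP := h.LL_le htL
      tA := fun w' hw' => by
        obtain ⟨k, hk, w'', hw'', e1⟩ := hdecT w' hw'
        have h1 := hmS _ ⟨w', hw', rfl⟩
        have e2 : m * ((MulAut.conj t).toMonoidHom w') * m⁻¹ = m * k * (w'' * m⁻¹ * w''⁻¹) * w'' := by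
          have : (MulAut.conj t).toMonoidHom w' = t * w' * t⁻¹ := rfl
          rw [this, e1]; group
        have hw''S : w'' ∈ (S : Subgroup G) := h.s₂.QS (h.s₂.VQ hw'')
        have h3 : m * k * (w'' * m⁻¹ * w''⁻¹) ∈ K₀ := mul_mem (mul_mem hm hk) (hK₀n w'' hw''S _ (inv_mem hm))
        rw [e2] at h1
        have h4 : m * k * (w'' * m⁻¹ * w''⁻¹) ∈ (S : Subgroup G) := ((S : Subgroup G).mul_mem_cancel_right hw''S).1 h1
        have h5 := hK₀S _ h4 h3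
        refine ⟨w'', hw'', w''⁻¹ * (m * k * (w'' * m⁻¹ * w''⁻¹)) * w''⁻¹⁻¹,
          h.s₁.Qn w''⁻¹ (inv_mem (hA w'' hw'')) _ h5, ?_⟩
        have e3 : m * t * w' * (m * t)⁻¹ = m * (t * w' * t⁻¹) * m⁻¹ := by group
        rw [e3, e1]; group
      tC := fun c hc => by rw [h.LL_cen _ htL c hc, mul_inv_cancel_right]
      tx := fun v hv => by
        rw [hmt v hv, ap_zero', dg_00, dg_01]; ring
      tz := fun v hv => by
        rw [hmt v hv, ap_one', dg_10, dg_11, inv_inv]; ring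
      gen := hgen
      ω0 := hω0
      ω1 := hω1 },
    { AL := h.V_le_LL
      QL := le_sup_right
      LP := h.LL_le
      Ln := LL_norm h.s₁.Qn
      lin := fun l hl => by
        obtain ⟨B, hB⟩ := h.LL_lin n q l hl
        refine ⟨_, _, _, _, det_eq (C * B * C⁻¹), fun v hv => ?_⟩
        rw [hact l B hB v hv]
        exact ⟨rfl, rfl⟩
      all := fun b c hbc => by
        by_cases hb : b = 0
        · have hc : c ≠ 0 := hbc.resolve_left (fun h => h hb)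
          obtain ⟨l, hl, hl'⟩ := hfull (Cfsg.Agent.Lib.SL2Mat.mk b c (-c⁻¹) 0 (by field_simp; ring))
          refine ⟨l, hl, fun v hv => ?_⟩
          rw [hl' v hv, ap_zero', mk_00, mk_01]
        · obtain ⟨l, hl, hl'⟩ := hfull (Cfsg.Agent.Lib.SL2Mat.mk b c 0 b⁻¹ (by field_simp; ring))
          refine ⟨l, hl, fun v hv => ?_⟩
          rw [hl' v hv, ap_zero', mk_00, mk_01] }⟩

/-- `a = |F|` -/
theorem card_field [Finite G] {S : Subgroup G} (h : Mut P₁ P₂ S Q₁ Q₂ V₁ V₂ a) (n : NatTwo P₁ V₁ D e)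
    (q : QuadOver V₁ V₂ e w) : a = Nat.card F := by
  have hdm : ∀ u ∈ V₁, ∀ v ∈ V₁, dt w (e (u * v)) = dt w (e u) + dt w (e v) := fun u hu v hv => by
    rw [n.mul u hu v hv, dt_add]
  rw [← h.o₁.idx]
  refine relIndex_ker' (f := fun v => dt w (e v)) hdm (fun b => ?_) fun v hv => ?_
  · obtain ⟨x, hx⟩ : ∃ x : Fin 2 → F, dt w x = b := by
      by_cases h0 : w 0 = 0
      · have h1 : w 1 ≠ 0 := fun h1 => q.ne (ext2 h0 h1)
        exact ⟨![-b / w 1, 0], by simp [dt, h0]; field_simp⟩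
      · exact ⟨![0, b / w 0], by simp [dt]; field_simp⟩
    obtain ⟨v, hv, hv'⟩ := n.surj x
    exact ⟨v, hv, by rw [hv']; exact hx⟩
  · rw [mem_inf_cen]
    constructor
    · rintro ⟨-, hc⟩
      -- a transvection `x ↦ x + dt w x • w`
      obtain ⟨C, hC⟩ := exists_ap_e q.ne
      obtain ⟨w', hw', hw''⟩ := q.full (C * up 1 * C⁻¹) (by
        rw [ap_mul, ap_mul, ← hC, ap_inv_ap, ap_up_e])
      have h1 := hw'' v hv
      have h2 : w' * v * w'⁻¹ = v := by rw [← hc w' hw', mul_inv_cancel_right]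
      rw [h2, ap_mul, ap_mul] at h1
      have h3 : ap C⁻¹ (e v) = ap (up 1) (ap C⁻¹ (e v)) := by
        conv_lhs => rw [h1, ap_inv_ap]
      have h4 := congrFun h3 0
      rw [ap_zero' (up 1), up_00, up_01, one_mul, one_mul] at h4
      have h5 : ap C⁻¹ (e v) 1 = 0 := left_eq_add.1 h4
      have h6 : e v = ap C⁻¹ (e v) 0 • w := by
        have h7 : ap C⁻¹ (e v) = ap C⁻¹ (e v) 0 • ![1, 0] := by
          apply ext2
          · simp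
          · rw [h5]; simp
        calc e v = ap C (ap C⁻¹ (e v)) := (ap_ap_inv _ _).symm
          _ = ap C (ap C⁻¹ (e v) 0 • ![1, 0]) := by rw [← h7]
          _ = _ := by rw [ap_smul, hC]
      rw [h6, dt_smul]
      simp [dt, mul_comm]
    · intro h0
      exact ⟨hv, q.cent v hv (exists_smul_of_dt q.ne h0)⟩

end Mut

/-! ### Change of the field -/

section field

variable {F F' : Type*} [Field F] [Field F'] (σ : F ≃+* F')

/-- image of a matrix -/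
def mapSL (A : Matrix.SpecialLinearGroup (Fin 2) F) : Matrix.SpecialLinearGroup (Fin 2) F' :=
  Cfsg.Agent.Lib.SL2Mat.mk (σ (ent A 0 0)) (σ (ent A 0 1)) (σ (ent A 1 0)) (σ (ent A 1 1)) (by
    rw [← map_mul, ← map_mul, ← map_sub, det_eq, map_one])

theorem ap_mapSL (A : Matrix.SpecialLinearGroup (Fin 2) F) (x : Fin 2 → F) :
    ap (mapSL σ A) (fun i => σ (x i)) = fun i => σ (ap A x i) := by
  apply ext2
  · rw [ap_zero', ap_zero', mapSL, mk_00, mk_01, map_add, map_mul, map_mul]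
  · rw [ap_one', ap_one', mapSL, mk_10, mk_11, map_add, map_mul, map_mul]

theorem mapSL_symm (A : Matrix.SpecialLinearGroup (Fin 2) F') : mapSL σ (mapSL σ.symm A) = A := by
  refine ext_ent ?_ ?_ ?_ ?_ <;> simp [mapSL]

variable {P V D A : Subgroup G} {e : G → Fin 2 → F} {w : Fin 2 → F}

theorem NatTwo.map (n : NatTwo P V D e) : NatTwo P V D (fun g i => σ (e g i)) where
  mul := fun v hv w hw => by
    funext i
    rw [n.mul v hv w hw, Pi.add_apply, Pi.add_apply, map_add]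
  surj := fun x => by
    obtain ⟨v, hv, hv'⟩ := n.surj (fun i => σ.symm (x i))
    exact ⟨v, hv, by funext i; rw [hv']; simp⟩
  ker := fun v hv => by
    rw [← n.ker v hv]
    constructor
    · intro h
      funext i
      have := congrFun h i
      simpa using this
    · intro h
      funext i
      simp [h]
  lift := fun A => by
    obtain ⟨g, hg, hg'⟩ := n.lift (mapSL σ.symm A)
    refine ⟨g, hg, fun v hv => ?_⟩
    have h1 := hg' v hv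
    have h2 : (fun i => σ (e (g * v * g⁻¹) i)) = ap A (fun i => σ (e v i)) := by
      rw [h1, ← ap_mapSL, mapSL_symm]
    exact h2
  norm := fun g hg h hh A hA => by
    obtain ⟨B, hB⟩ := n.norm g hg h hh (mapSL σ.symm A) fun v hv => by
      have h1 := hA v hv
      have h2 : (fun i => σ (e (h * v * h⁻¹) i)) = fun i => σ (ap (mapSL σ.symm A) (e v) i) := by
        rw [← ap_mapSL, mapSL_symm]
        exact h1
      funext i
      exact σ.injective (congrFun h2 i)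
    refine ⟨mapSL σ B, fun v hv => ?_⟩
    rw [ap_mapSL, hB v hv]

theorem QuadOver.map (q : QuadOver V A e w) : QuadOver V A (fun g i => σ (e g i)) (fun i => σ (w i)) where
  ne := fun h => q.ne (by
    funext i
    have := congrFun h i
    simpa using this)
  lin := fun a ha => by
    obtain ⟨B, hB, hB'⟩ := q.lin a ha
    refine ⟨mapSL σ B, by rw [ap_mapSL, hB], fun v hv => ?_⟩
    rw [ap_mapSL, hB' v hv]
  full := fun B hB => by
    obtain ⟨a, ha, ha'⟩ := q.full (mapSL σ.symm B) (by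
      have h2 : (fun i => σ (ap (mapSL σ.symm B) w i)) = fun i => σ (w i) := by
        rw [← ap_mapSL, mapSL_symm]
        exact hB
      funext i
      exact σ.injective (congrFun h2 i))
    refine ⟨a, ha, fun v hv => ?_⟩
    have h2 : (fun i => σ (e (a * v * a⁻¹) i)) = ap B (fun i => σ (e v i)) := by
      rw [ha' v hv, ← ap_mapSL, mapSL_symm]
    exact h2
  cent := fun v hv hc => q.cent v hv (by
    obtain ⟨c, hc⟩ := hc
    refine ⟨σ.symm c, ?_⟩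
    funext i
    have h1 := congrFun hc i
    simp only [Pi.smul_apply, smul_eq_mul] at h1 ⊢
    apply σ.injective
    rw [h1, map_mul, RingEquiv.apply_symm_apply])

end field

namespace Mut

variable {P₁ P₂ Q₁ Q₂ V₁ V₂ D₁ D₂ : Subgroup G} {a : ℕ} {F₁ F₂ : Type} [Field F₁] [Field F₂]
  {e₁ : G → Fin 2 → F₁} {w₁ : Fin 2 → F₁} {e₂ : G → Fin 2 → F₂} {w₂ : Fin 2 → F₂}

/-- **#9675 (1)-(5) from natural modules** (`q ≥ 4`): the input of the closings `L₃(q)`, `Sp₄(q)`. -/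
theorem close [Finite G] [Finite F₁] [Finite F₂] {S : Sylow 2 G} (h : Mut P₁ P₂ S Q₁ Q₂ V₁ V₂ a)
    (hcen₁ : ∀ g : G, (∀ u ∈ Q₁, g * u = u * g) → g ∈ Q₁) (hcen₂ : ∀ g : G, (∀ u ∈ Q₂, g * u = u * g) → g ∈ Q₂)
    (n₁ : NatTwo P₁ V₁ D₁ e₁) (q₁ : QuadOver V₁ V₂ e₁ w₁) (DV₁ : D₁ ≤ V₁) (Dn₁ : ∀ p ∈ P₁, ∀ d ∈ D₁, p * d * p⁻¹ ∈ D₁)
    (n₂ : NatTwo P₂ V₂ D₂ e₂) (q₂ : QuadOver V₂ V₁ e₂ w₂) (DV₂ : D₂ ≤ V₂) (Dn₂ : ∀ p ∈ P₂, ∀ d ∈ D₂, p * d * p⁻¹ ∈ D₂)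
    (hF : 2 < Nat.card F₁) :
    (∃ (X Y Z : G → F₁) (L₁ L₂ : Subgroup G), Co3 Q₁ Q₂ (Q₁ ⊓ Q₂) X Y Z ∧
        Lin S (Q₁ ⊔ Q₂) (Q₁ ⊓ Q₂) Q₁ P₁ L₁ ⊥ ∧ Lin S (Q₁ ⊔ Q₂) (Q₁ ⊓ Q₂) Q₂ P₂ L₂ ⊥) ∨
      ∃ (X Y Z Z' : G → F₁) (L₁ L₂ : Subgroup G), Co4 Q₁ Q₂ (Q₁ ⊓ Q₂) (CC P₁ Q₁ V₂) (CC P₂ Q₂ V₁) X Y Z Z' ∧
        Lin S (Q₁ ⊔ Q₂) (Q₁ ⊓ Q₂) Q₁ P₁ L₁ (CC P₁ Q₁ V₂) ∧
        Lin S (Q₁ ⊔ Q₂) (Q₁ ⊓ Q₂) Q₂ P₂ L₂ (CC P₂ Q₂ V₁) := by
  classical
  have c₁ := h.card_field n₁ q₁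
  have c₂ := h.symm.card_field n₂ q₂
  have : Fintype F₁ := Fintype.ofFinite F₁
  have : Fintype F₂ := Fintype.ofFinite F₂
  let σ : F₂ ≃+* F₁ := FiniteField.ringEquivOfCardEq (by
    rw [← Nat.card_eq_fintype_card, ← Nat.card_eq_fintype_card, ← c₁, ← c₂])
  have hF' : ∃ c : F₁, c ≠ 0 ∧ c ≠ 1 := by
    by_contra hc
    push Not at hc
    have h1 : (Finset.univ : Finset F₁) ⊆ {0, 1} := fun c _ => by
      by_cases h0 : c = 0
      · simp [h0]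
      · simp [hc c h0]
    have h2 := Finset.card_le_card h1
    have h3 : ({0, 1} : Finset F₁).card ≤ 2 := Finset.card_le_two
    rw [Finset.card_univ, ← Nat.card_eq_fintype_card] at h2
    omega
  obtain ⟨x, z, y, t, ω, L₁, m₁, l₁⟩ := h.exists_nat n₁ q₁ DV₁ Dn₁ hF'
  obtain ⟨x₂, z₂, y₂, t₂, ω₂, L₂, m₂, l₂⟩ := h.symm.exists_nat (n₂.map σ) (q₂.map σ) DV₂ Dn₂ hF'
  rcases h.toClose hcen₁ hcen₂ m₁ m₂ l₁ l₂ with ⟨X, Y, Z, h1, h2, h3⟩ | ⟨X, Y, Z, Z', h1, h2, h3⟩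
  · exact Or.inl ⟨X, Y, Z, L₁, L₂, h1, h2, h3⟩
  · exact Or.inr ⟨X, Y, Z, Z', L₁, L₂, h1, h2, h3⟩

end Mut

end Cfsg.Agent.Omega.FFOne

end

section


/-!
# Semilinear maps in the closings of type `L₃(q)`, `Sp₄(q)`

Field automorphisms `σ` of order two of a finite field of characteristic two, the maps `a ↦ c σ(a)` of
order two (`c σ(c) = 1`), coordinates `φ : V → F` of an abelian section and the maps induced by
conjugation.
-/

set_option autoImplicit false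

namespace Cfsg.Agent.Omega.CloseA

section Alg

variable {F : Type*} [Field F]

/-- Involutory automorphisms of a finite field of characteristic two are unique. -/
theorem invol_unique [Finite F] [CharP F 2] {σ τ : F →+* F} (hσ : ∀ a, σ (σ a) = a)
    (hτ : ∀ a, τ (τ a) = a) (h1 : ∃ a, σ a ≠ a) (h2 : ∃ a, τ a ≠ a) : σ = τ := by
  classical
  let _ : Algebra (ZMod 2) F := ZMod.algebra F 2
  have hb : ∀ {ρ : F →+* F}, (∀ a, ρ (ρ a) = a) → Function.Bijective ρ := fun {ρ} h =>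
    ⟨ρ.injective, fun a => ⟨ρ a, h a⟩⟩
  let e : ∀ ρ : F →+* F, (∀ a, ρ (ρ a) = a) → (F ≃ₐ[ZMod 2] F) := fun ρ h =>
    AlgEquiv.ofRingEquiv (f := RingEquiv.ofBijective ρ (hb h)) (fun r =>
      RingHom.congr_fun (RingHom.ext_zmod (ρ.comp (algebraMap (ZMod 2) F)) (algebraMap (ZMod 2) F)) r)
  have he : ∀ (ρ : F →+* F) (h : ∀ a, ρ (ρ a) = a) (a : F), e ρ h a = ρ a := fun _ _ _ => rfl
  have hord : ∀ (ρ : F →+* F) (h : ∀ a, ρ (ρ a) = a), (∃ a, ρ a ≠ a) → orderOf (e ρ h) = 2 := by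
    intro ρ h hne
    refine orderOf_eq_prime ?_ ?_
    · ext a
      rw [pow_two, AlgEquiv.mul_apply, he ρ h, he ρ h]
      exact h a
    · intro hc
      obtain ⟨a, ha⟩ := hne
      apply ha
      rw [← he ρ h, hc]
      rfl
  have _ : Fintype (F ≃ₐ[ZMod 2] F) := Fintype.ofFinite _
  have hcyc : IsCyclic (F ≃ₐ[ZMod 2] F) := inferInstance
  have hd : 2 ∣ Fintype.card (F ≃ₐ[ZMod 2] F) := by
    have h3 := orderOf_dvd_card (x := e σ hσ)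
    have h4 := hord σ hσ h1
    exact (dvd_of_eq h4.symm).trans h3
  have hcard := IsCyclic.card_orderOf_eq_totient hd
  rw [Nat.totient_two, Finset.card_eq_one] at hcard
  obtain ⟨g, hg⟩ := hcard
  have m1 : e σ hσ ∈ Finset.univ.filter (fun a : F ≃ₐ[ZMod 2] F => orderOf a = 2) :=
    Finset.mem_filter.2 ⟨Finset.mem_univ _, hord σ hσ h1⟩
  have m2 : e τ hτ ∈ Finset.univ.filter (fun a : F ≃ₐ[ZMod 2] F => orderOf a = 2) :=
    Finset.mem_filter.2 ⟨Finset.mem_univ _, hord τ hτ h2⟩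
  rw [hg, Finset.mem_singleton] at m1 m2
  ext a
  rw [← he σ hσ, ← he τ hτ, m1, m2]

/-- In a field with four elements every automorphism has order at most two. -/
theorem sq_of_card_four [Finite F] [CharP F 2] (hF : Nat.card F = 4) (σ : F →+* F) (a : F) :
    σ (σ a) = a := by
  have key : ∀ t : F, t ≠ 0 → t ≠ 1 → t * t + t + 1 = 0 := by
    intro t h0 h1
    have _ : Fintype F := Fintype.ofFinite F
    have h3 : t ^ 4 = t := by
      have := FiniteField.pow_card t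
      rwa [← Nat.card_eq_fintype_card, hF] at this
    have h4 : t * (t - 1) * (t * t + t + 1) = 0 := by
      linear_combination h3
    rcases mul_eq_zero.1 h4 with h5 | h5
    · rcases mul_eq_zero.1 h5 with h6 | h6
      · exact absurd h6 h0
      · exact absurd (sub_eq_zero.1 h6) h1
    · exact h5
  by_cases h0 : a = 0
  · rw [h0, map_zero, map_zero]
  by_cases h1 : a = 1
  · rw [h1, map_one, map_one]
  have h2 : σ a = a ∨ σ a = a + 1 := by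
    have e1 := key a h0 h1
    have e2 : σ a * σ a + σ a + 1 = 0 := by
      rw [← map_mul, ← map_add, ← map_one σ, ← map_add, e1, map_zero]
    have h2 : (2 : F) = 0 := CharTwo.two_eq_zero
    have e3 : (σ a - a) * (σ a - (a + 1)) = 0 := by
      linear_combination e2 - e1 + (- σ a * a - σ a + a * a + a) * h2
    rcases mul_eq_zero.1 e3 with h5 | h5
    · exact Or.inl (sub_eq_zero.1 h5)
    · exact Or.inr (sub_eq_zero.1 h5)
  rcases h2 with h3 | h3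
  · rw [h3, h3]
  · rw [h3, map_add, map_one, h3, add_assoc, CharTwo.add_self_eq_zero, add_zero]

/-- The data of a semilinear map of order two. -/
structure Inv2 (σ : F →+* F) (c : F) : Prop where
  inv : ∀ a, σ (σ a) = a
  ne : ∃ a, σ a ≠ a
  c1 : c * σ c = 1

variable {σ : F →+* F} {c : F}

theorem Inv2.c0 (h : Inv2 σ c) : c ≠ 0 := by
  rintro rfl
  have := h.c1
  simp at this

theorem Inv2.sq (h : Inv2 σ c) (a : F) : c * σ (c * σ a) = a := by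
  rw [map_mul, h.inv, ← mul_assoc, h.c1, one_mul]

/-- Hilbert 90: fixed points are norms. -/
theorem Inv2.hilbert [CharP F 2] (h : Inv2 σ c) {a : F} (ha : c * σ a = a) :
    ∃ e, c * σ e + e = a := by
  obtain ⟨θ, hθ⟩ := h.ne
  have h1 : σ θ + θ ≠ 0 := by
    intro hc
    apply hθ
    rw [add_eq_zero_iff_eq_neg, CharTwo.neg_eq] at hc
    exact hc
  have h2 : σ (σ θ + θ) = σ θ + θ := by
    rw [map_add, h.inv, add_comm]
  refine ⟨θ / (σ θ + θ) * a, ?_⟩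
  rw [map_mul, map_div₀, h2]
  have h3 : c * (σ θ / (σ θ + θ) * σ a) = σ θ / (σ θ + θ) * a := by
    calc c * (σ θ / (σ θ + θ) * σ a) = σ θ / (σ θ + θ) * (c * σ a) := by ring
      _ = _ := by rw [ha]
  rw [h3]
  field_simp

/-- A nonzero fixed point. -/
theorem Inv2.exists_fix [CharP F 2] (h : Inv2 σ c) : ∃ a, a ≠ 0 ∧ c * σ a = a := by
  obtain ⟨b, hb⟩ : ∃ b, c * σ b ≠ b := by
    by_contra hc
    push Not at hc
    have h1 := hc 1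
    rw [map_one, mul_one] at h1
    obtain ⟨θ, hθ⟩ := h.ne
    apply hθ
    have := hc θ
    rwa [h1, one_mul] at this
  refine ⟨c * σ b + b, ?_, ?_⟩
  · intro h0
    apply hb
    rw [add_eq_zero_iff_eq_neg, CharTwo.neg_eq] at h0
    exact h0
  · rw [map_add, mul_add, h.sq, add_comm]

/-- A fixed element of `σ` different from `0, 1`. -/
theorem Inv2.exists_lam [Finite F] [CharP F 2] (h : Inv2 σ c) (hF : 4 < Nat.card F) :
    ∃ l, l ≠ 0 ∧ l ≠ 1 ∧ σ l = l := by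
  by_contra hc
  push Not at hc
  have h2 : (2 : F) = 0 := CharTwo.two_eq_zero
  have key : ∀ t : F, t = 0 ∨ t = 1 ∨ t * t + t + 1 = 0 := by
    intro t
    have e1 : σ (σ t + t) = σ t + t := by rw [map_add, h.inv, add_comm]
    have e2 : σ (σ t * t) = σ t * t := by rw [map_mul, h.inv, mul_comm]
    have a1 : σ t + t = 0 ∨ σ t + t = 1 := by
      by_contra hh
      push Not at hh
      exact hc _ hh.1 hh.2 e1
    have a2 : σ t * t = 0 ∨ σ t * t = 1 := by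
      by_contra hh
      push Not at hh
      exact hc _ hh.1 hh.2 e2
    -- `t` is a root of `X² + (σt + t) X + σt t`
    have e3 : t * t + (σ t + t) * t + σ t * t = 0 := by
      linear_combination (t * t + σ t * t) * h2
    rcases a1 with a1 | a1 <;> rcases a2 with a2 | a2 <;> rw [a1, a2] at e3
    · left
      have : t * t = 0 := by linear_combination e3
      exact mul_self_eq_zero.1 this
    · right; left
      have : (t - 1) * (t - 1) = 0 := by linear_combination e3 - t * h2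
      exact sub_eq_zero.1 (mul_self_eq_zero.1 this)
    · have : t * (t - 1) = 0 := by linear_combination e3 - t * h2
      rcases mul_eq_zero.1 this with h5 | h5
      · exact Or.inl h5
      · exact Or.inr (Or.inl (sub_eq_zero.1 h5))
    · right; right
      linear_combination e3
  -- at most four elements
  have _ : Fintype F := Fintype.ofFinite F
  classical
  obtain ⟨θ, hθ0⟩ : ∃ θ : F, θ * θ + θ + 1 = 0 := by
    obtain ⟨θ, hθ⟩ := h.ne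
    refine ⟨θ, ?_⟩
    rcases key θ with h5 | h5 | h5
    · rw [h5, map_zero] at hθ; exact absurd rfl hθ
    · rw [h5, map_one] at hθ; exact absurd rfl hθ
    · exact h5
  have hall : (Finset.univ : Finset F) ⊆ {0, 1, θ, θ + 1} := by
    intro t _
    simp only [Finset.mem_insert, Finset.mem_singleton]
    rcases key t with h5 | h5 | h5
    · exact Or.inl h5
    · exact Or.inr (Or.inl h5)
    · right; right
      have : (t - θ) * (t - (θ + 1)) = 0 := by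
        linear_combination h5 - hθ0 + (- t * θ - t + θ * θ + θ) * h2
      rcases mul_eq_zero.1 this with h6 | h6
      · exact Or.inl (sub_eq_zero.1 h6)
      · exact Or.inr (sub_eq_zero.1 h6)
  have h6 := Finset.card_le_card hall
  rw [Finset.card_univ, ← Nat.card_eq_fintype_card] at h6
  have h7 := Finset.card_le_four (a := (0 : F)) (b := 1) (c := θ) (d := θ + 1)
  omega

/-- Two independent fixed points for `|F| > 4`. -/
theorem Inv2.exists_big [Finite F] [CharP F 2] (h : Inv2 σ c) (hF : 4 < Nat.card F) :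
    ∃ a b, a ≠ 0 ∧ b ≠ 0 ∧ a + b ≠ 0 ∧ c * σ a = a ∧ c * σ b = b := by
  obtain ⟨a, ha, hfa⟩ := h.exists_fix
  obtain ⟨l, hl0, hl1, hl⟩ := h.exists_lam hF
  refine ⟨a, l * a, ha, mul_ne_zero hl0 ha, ?_, hfa, ?_⟩
  · intro hc
    apply hl1
    have h1 : (l - 1) * a = 0 := by
      have h2 : (2 : F) = 0 := CharTwo.two_eq_zero
      linear_combination hc - a * h2
    rcases mul_eq_zero.1 h1 with h5 | h5
    · exact sub_eq_zero.1 h5
    · exact absurd h5 ha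
  · rw [map_mul, hl]
    calc c * (l * σ a) = l * (c * σ a) := by ring
      _ = _ := by rw [hfa]

/-- The number of fixed points for `|F| = 4`. -/
theorem Inv2.card_fix [Finite F] [CharP F 2] (h : Inv2 σ c) (hF : Nat.card F = 4) :
    Nat.card {a : F // c * σ a = a} = 2 := by
  have _ : Fintype F := Fintype.ofFinite F
  -- the additive map `a ↦ c σ(a) + a`
  let T : F →+ F := AddMonoidHom.mk' (fun a => c * σ a + a) fun a b => by
    rw [map_add]; ring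
  have h1 : T.ker = T.range := by
    ext a
    rw [AddMonoidHom.mem_ker, AddMonoidHom.mem_range]
    constructor
    · intro ha
      have ha' : c * σ a + a = 0 := ha
      rw [add_eq_zero_iff_eq_neg, CharTwo.neg_eq] at ha'
      obtain ⟨e, he⟩ := h.hilbert ha'
      exact ⟨e, he⟩
    · rintro ⟨e, rfl⟩
      show c * σ (c * σ e + e) + (c * σ e + e) = 0
      rw [map_add, mul_add, h.sq]
      have h2 : (2 : F) = 0 := CharTwo.two_eq_zero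
      linear_combination (e + c * σ e) * h2
  have h2 : Nat.card T.ker * Nat.card T.range = Nat.card F := by
    rw [← AddSubgroup.index_ker]
    exact T.ker.card_mul_index
  rw [← h1, hF] at h2
  have h3 : Nat.card T.ker = 2 := by nlinarith
  rw [← h3]
  refine Nat.card_congr (Equiv.subtypeEquivRight fun a => ?_)
  rw [AddMonoidHom.mem_ker]
  show c * σ a = a ↔ c * σ a + a = 0
  rw [add_eq_zero_iff_eq_neg, CharTwo.neg_eq]

/-- `C(ab) = A(a) B(b)` forces semilinearity. -/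
theorem exists_semi {A B C : F →+ F} (hA : A 1 ≠ 0) (hB : B 1 ≠ 0)
    (h : ∀ a b, C (a * b) = A a * B b) :
    ∃ σ : F →+* F, (∀ a, A a = A 1 * σ a) ∧ (∀ a, B a = B 1 * σ a) ∧
      ∀ a, C a = A 1 * B 1 * σ a := by
  have hCA : ∀ a, C a = A a * B 1 := fun a => by
    have := h a 1
    rwa [mul_one] at this
  have hCB : ∀ a, C a = A 1 * B a := fun a => by
    have := h 1 a
    rwa [one_mul] at this
  let σ : F →+* F :=
    { toFun := fun a => (A 1)⁻¹ * A a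
      map_one' := inv_mul_cancel₀ hA
      map_zero' := by simp
      map_add' := fun a b => by rw [map_add, mul_add]
      map_mul' := fun a b => by
        have h1 : A (a * b) * B 1 = A a * B b := by rw [← hCA, h]
        have h2 : A 1 * B b = A b * B 1 := by rw [← hCA, ← hCB]
        have h3 : A (a * b) * (A 1 * B 1) = A a * A b * B 1 := by
          calc A (a * b) * (A 1 * B 1) = A 1 * (A (a * b) * B 1) := by ring
            _ = A a * (A 1 * B b) := by rw [h1]; ring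
            _ = _ := by rw [h2]; ring
        have h4 : A (a * b) * A 1 = A a * A b := by
          apply mul_right_cancel₀ hB
          rw [← h3]; ring
        field_simp
        linear_combination h4 }
  have hσ : ∀ a, σ a = (A 1)⁻¹ * A a := fun _ => rfl
  refine ⟨σ, fun a => by rw [hσ]; field_simp, fun a => ?_, fun a => ?_⟩
  · rw [hσ]
    have h2 : A 1 * B a = A a * B 1 := by rw [← hCA, ← hCB]
    field_simp
    linear_combination h2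
  · rw [hσ, hCA]
    field_simp

end Alg

section Sect

variable {G : Type*} [Group G] {F : Type*} [Field F]

/-- A coordinate `φ : V → F` with kernel `W`. -/
structure Crd (V W : Subgroup G) (φ : G → F) : Prop where
  mul : ∀ u ∈ V, ∀ v ∈ V, φ (u * v) = φ u + φ v
  surj : ∀ a, ∃ u ∈ V, φ u = a
  ker : ∀ u ∈ V, φ u = 0 ↔ u ∈ W

variable {V W : Subgroup G} {φ : G → F}

theorem Crd.one (h : Crd V W φ) : φ 1 = 0 := by
  have := h.mul 1 (one_mem _) 1 (one_mem _)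
  rw [one_mul] at this
  simpa using this

theorem Crd.inv (h : Crd V W φ) {u : G} (hu : u ∈ V) : φ u⁻¹ = - φ u := by
  have := h.mul u hu u⁻¹ (inv_mem hu)
  rw [mul_inv_cancel, h.one] at this
  linear_combination - this

theorem Crd.eq_iff (h : Crd V W φ) {u v : G} (hu : u ∈ V) (hv : v ∈ V) :
    φ u = φ v ↔ u * v⁻¹ ∈ W := by
  rw [← h.ker _ (mul_mem hu (inv_mem hv)), h.mul _ hu _ (inv_mem hv), h.inv hv]
  constructor
  · intro e; rw [e]; ring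
  · intro e; linear_combination e

/-- `φ(sus⁻¹) = c σ(φ(u))`. -/
def SL (V : Subgroup G) (φ : G → F) (s : G) (c : F) (σ : F →+* F) : Prop :=
  ∀ u ∈ V, φ (s * u * s⁻¹) = c * σ (φ u)

/-- Conjugation induces an additive map. -/
theorem Crd.exists_push (h : Crd V W φ) {s : G} (hV : ∀ u ∈ V, s * u * s⁻¹ ∈ V)
    (hW : ∀ u ∈ W, s * u * s⁻¹ ∈ W) : ∃ A : F →+ F, ∀ u ∈ V, φ (s * u * s⁻¹) = A (φ u) := by
  choose f hf hφ using h.surj
  have key : ∀ u ∈ V, ∀ v ∈ V, φ u = φ v → φ (s * u * s⁻¹) = φ (s * v * s⁻¹) := by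
    intro u hu v hv huv
    rw [h.eq_iff hu hv] at huv
    rw [h.eq_iff (hV u hu) (hV v hv)]
    have := hW _ huv
    have e : s * u * s⁻¹ * (s * v * s⁻¹)⁻¹ = s * (u * v⁻¹) * s⁻¹ := by group
    rwa [e]
  refine ⟨AddMonoidHom.mk' (fun a => φ (s * f a * s⁻¹)) fun a b => ?_, fun u hu => ?_⟩
  · show φ (s * f (a + b) * s⁻¹) = φ (s * f a * s⁻¹) + φ (s * f b * s⁻¹)
    rw [← h.mul _ (hV _ (hf a)) _ (hV _ (hf b))]
    have e : s * f a * s⁻¹ * (s * f b * s⁻¹) = s * (f a * f b) * s⁻¹ := by group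
    rw [e]
    refine key _ (hf _) _ (mul_mem (hf _) (hf _)) ?_
    rw [h.mul _ (hf a) _ (hf b), hφ, hφ, hφ]
  · exact key u hu _ (hf _) (hφ _).symm

theorem Crd.push_ne (h : Crd V W φ) {s : G} (hV : ∀ u ∈ V, s * u * s⁻¹ ∈ V)
    (hW' : ∀ u, s * u * s⁻¹ ∈ W → u ∈ W) {A : F →+ F}
    (hA : ∀ u ∈ V, φ (s * u * s⁻¹) = A (φ u)) : A 1 ≠ 0 := by
  intro h0
  obtain ⟨u, hu, hu1⟩ := h.surj 1
  rw [← hu1, ← hA u hu, h.ker _ (hV u hu)] at h0
  have h2 := hW' u h0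
  rw [← h.ker u hu, hu1] at h2
  exact one_ne_zero h2

theorem SL.mul {s t : G} {c d : F} {σ τ : F →+* F} (ht : ∀ u ∈ V, t * u * t⁻¹ ∈ V)
    (h1 : SL V φ s c σ) (h2 : SL V φ t d τ) : SL V φ (s * t) (c * σ d) (σ.comp τ) := by
  intro u hu
  have e : s * t * u * (s * t)⁻¹ = s * (t * u * t⁻¹) * s⁻¹ := by group
  rw [e, h1 _ (ht u hu), h2 u hu, map_mul, RingHom.comp_apply]
  ring

theorem SL.uniq (h : Crd V W φ) {s : G} {c d : F} {σ τ : F →+* F} 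
    (h1 : SL V φ s c σ) (h2 : SL V φ s d τ) (hc : c ≠ 0) : c = d ∧ σ = τ := by
  have h3 : ∀ a, c * σ a = d * τ a := by
    intro a
    obtain ⟨u, hu, rfl⟩ := h.surj a
    rw [← h1 u hu, ← h2 u hu]
  have h4 : c = d := by
    have := h3 1
    rwa [map_one, map_one, mul_one, mul_one] at this
  refine ⟨h4, RingHom.ext fun a => ?_⟩
  have := h3 a
  rw [← h4] at this
  exact mul_left_cancel₀ hc this

end Sect

end Cfsg.Agent.Omega.CloseA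

end

section


/-!
# Field automorphisms in the closings of type `L₃(q)`, `Sp₄(q)`: the Sylow 2-subgroup

`S₀ = Q₀Q₁ ⊴ S`, `Q_i` elementary abelian and normal in `S`, `D = Q₀ ∩ Q₁`, elements of `Q₀ - D` and
`Q₁ - D` do not commute, `S / S₀` has at most one involution, and the elements `f ∈ S - S₀` with
`f² ∈ S₀` act freely on `Q_i / D` and on `D`.
-/

set_option autoImplicit false

namespace Cfsg.Agent.Omega.CloseA

variable {G : Type*} [Group G]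

/-- The situation inside the Sylow 2-subgroup. -/
structure Amb (S S0 D : Subgroup G) (Q : Bool → Subgroup G) : Prop where
  QS : ∀ i, Q i ≤ S
  Qn : ∀ i, ∀ s ∈ S, ∀ a ∈ Q i, s * a * s⁻¹ ∈ Q i
  sq : ∀ i, ∀ a ∈ Q i, a * a = 1
  inf : ∀ x, x ∈ D ↔ ∀ i, x ∈ Q i
  sup : ∀ x, x ∈ S0 ↔ ∃ a ∈ Q false, ∃ b ∈ Q true, x = a * b
  cen : ∀ a ∈ Q false, ∀ b ∈ Q true, a * b = b * a → a ∈ D ∨ b ∈ D
  faith : ∀ i, ∀ s ∈ S, (∀ a ∈ Q i, s * a * s⁻¹ * a ∈ D) → s ∈ S0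
  cyc : ∀ s ∈ S, ∀ t ∈ S, s * s ∈ S0 → t * t ∈ S0 → s ∉ S0 → t ∉ S0 → s * t ∈ S0
  frD : ∀ f ∈ S, f * f ∈ S0 → f ∉ S0 → ∀ d ∈ D, f * d * f⁻¹ = d → ∃ e ∈ D, f * e * f⁻¹ * e = d
  frQ : ∀ f ∈ S, f * f ∈ S0 → f ∉ S0 → ∀ i, ∀ a ∈ Q i, f * a * f⁻¹ * a ∈ D →
    ∃ e ∈ Q i, f * e * f⁻¹ * e * a ∈ D
  fixQ : ∀ f ∈ S, f * f ∈ S0 → f ∉ S0 → ∀ i, ∃ a ∈ Q i, a ∉ D ∧ f * a * f⁻¹ * a ∈ D
  card : Nat.card (Q false) = Nat.card (Q true)

namespace Amb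

variable {S S0 D : Subgroup G} {Q : Bool → Subgroup G}

theorem D_le (h : Amb S S0 D Q) (i : Bool) : D ≤ Q i := fun x hx => (h.inf x).1 hx i

theorem D_leS (h : Amb S S0 D Q) : D ≤ S := (h.D_le false).trans (h.QS false)

theorem memD (h : Amb S S0 D Q) {i : Bool} {x : G} (h1 : x ∈ Q i) (h2 : x ∈ Q (!i)) : x ∈ D := by
  rw [h.inf]
  intro j
  cases i <;> cases j <;> first | exact h1 | exact h2

theorem inv_eq (h : Amb S S0 D Q) {i : Bool} {a : G} (ha : a ∈ Q i) : a⁻¹ = a :=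
  inv_eq_of_mul_eq_one_right (h.sq i a ha)

theorem inv_eqD (h : Amb S S0 D Q) {a : G} (ha : a ∈ D) : a⁻¹ = a := h.inv_eq (h.D_le false ha)

theorem comm (h : Amb S S0 D Q) {i : Bool} {a b : G} (ha : a ∈ Q i) (hb : b ∈ Q i) :
    a * b = b * a := by
  have h1 := h.inv_eq (mul_mem ha hb)
  rw [mul_inv_rev, h.inv_eq ha, h.inv_eq hb] at h1
  exact h1.symm

theorem mulD (h : Amb S S0 D Q) {i : Bool} {a d : G} (ha : a ∈ Q i) (hd : d ∈ D) :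
    a * d = d * a := h.comm ha (h.D_le i hd)

theorem Q_le (h : Amb S S0 D Q) (i : Bool) : Q i ≤ S0 := by
  intro x hx
  rw [h.sup]
  cases i
  · exact ⟨x, hx, 1, one_mem _, by simp⟩
  · exact ⟨1, one_mem _, x, hx, by simp⟩

theorem D_le0 (h : Amb S S0 D Q) : D ≤ S0 := (h.D_le false).trans (h.Q_le false)

theorem S0_le (h : Amb S S0 D Q) : S0 ≤ S := by
  intro x hx
  obtain ⟨a, ha, b, hb, rfl⟩ := (h.sup x).1 hx
  exact mul_mem (h.QS _ ha) (h.QS _ hb)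

theorem S0n (h : Amb S S0 D Q) {s x : G} (hs : s ∈ S) (hx : x ∈ S0) : s * x * s⁻¹ ∈ S0 := by
  obtain ⟨a, ha, b, hb, rfl⟩ := (h.sup x).1 hx
  rw [h.sup]
  exact ⟨_, h.Qn _ s hs a ha, _, h.Qn _ s hs b hb, by group⟩

theorem Dn (h : Amb S S0 D Q) {s x : G} (hs : s ∈ S) (hx : x ∈ D) : s * x * s⁻¹ ∈ D := by
  rw [h.inf] at hx ⊢
  exact fun i => h.Qn i s hs x (hx i)

/-- Decomposition with the factors in either order. -/
theorem dec (h : Amb S S0 D Q) (i : Bool) {x : G} (hx : x ∈ S0) :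
    ∃ a ∈ Q i, ∃ b ∈ Q (!i), x = a * b := by
  obtain ⟨a, ha, b, hb, rfl⟩ := (h.sup x).1 hx
  cases i
  · exact ⟨a, ha, b, hb, rfl⟩
  · refine ⟨a * b * a⁻¹, h.Qn _ a (h.QS _ ha) b hb, a, ha, by group⟩

/-- Elements of `Q_i - D` and `Q_{1-i} - D` do not commute. -/
theorem cen' (h : Amb S S0 D Q) {i : Bool} {a b : G} (ha : a ∈ Q i) (hb : b ∈ Q (!i))
    (hab : a * b = b * a) : a ∈ D ∨ b ∈ D := by
  cases i
  · exact h.cen a ha b hb hab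
  · exact (h.cen b hb a ha hab.symm).symm

/-- `D` is central in `S₀`. -/
theorem central (h : Amb S S0 D Q) {x d : G} (hx : x ∈ S0) (hd : d ∈ D) : x * d = d * x := by
  obtain ⟨a, ha, b, hb, rfl⟩ := (h.sup x).1 hx
  rw [mul_assoc, h.mulD hb hd, ← mul_assoc, h.mulD ha hd, mul_assoc]

/-- Commutators of `Q₀` and `Q₁` lie in `D`. -/
theorem comm_mem (h : Amb S S0 D Q) {i : Bool} {a b : G} (ha : a ∈ Q i) (hb : b ∈ Q (!i)) :
    a * b * a⁻¹ * b⁻¹ ∈ D := by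
  refine h.memD (i := i) ?_ ?_
  · have : a * b * a⁻¹ * b⁻¹ = a * (b * a⁻¹ * b⁻¹) := by group
    rw [this]
    exact mul_mem ha (h.Qn _ b (h.QS _ hb) _ (inv_mem ha))
  · exact mul_mem (h.Qn _ a (h.QS _ ha) _ hb) (inv_mem hb)

/-- Commutators of `S₀` lie in `D`. -/
theorem comm_mem0 (h : Amb S S0 D Q) {x y : G} (hx : x ∈ S0) (hy : y ∈ S0) :
    x * y * x⁻¹ * y⁻¹ ∈ D := by
  -- commutators with one factor in some `Q_i`
  have key : ∀ i, ∀ a ∈ Q i, ∀ y ∈ S0, a * y * a⁻¹ * y⁻¹ ∈ D := by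
    intro i a ha y hy
    obtain ⟨b, hb, c, hc, rfl⟩ := h.dec i hy
    have h1 := h.comm_mem ha hc
    have h2 : a * b = b * a := h.comm ha hb
    have e : a * (b * c) * a⁻¹ * (b * c)⁻¹ = b * (a * c * a⁻¹ * c⁻¹) * b⁻¹ := by
      calc a * (b * c) * a⁻¹ * (b * c)⁻¹ = (a * b) * c * a⁻¹ * c⁻¹ * b⁻¹ := by group
        _ = _ := by rw [h2]; group
    rw [e]
    exact h.Dn (h.QS _ hb) h1
  obtain ⟨a, ha, b, hb, rfl⟩ := (h.sup x).1 hx
  have h1 := key _ b hb y hy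
  have h2 := key _ a ha y hy
  have e : a * b * y * (a * b)⁻¹ * y⁻¹ =
      (a * (b * y * b⁻¹ * y⁻¹) * a⁻¹) * (a * y * a⁻¹ * y⁻¹) := by group
  rw [e]
  exact mul_mem (h.Dn (h.QS _ ha) h1) h2

/-- `C_{S₀}(a) = Q_i` for `a ∈ Q_i - D`. -/
theorem mem_of_comm (h : Amb S S0 D Q) {i : Bool} {a x : G} (ha : a ∈ Q i) (haD : a ∉ D)
    (hx : x ∈ S0) (hax : a * x = x * a) : x ∈ Q i := by
  obtain ⟨b, hb, c, hc, rfl⟩ := h.dec i hx
  have h1 : a * c = c * a := by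
    have h2 : b * (a * c) = b * (c * a) := by
      rw [← mul_assoc, ← h.comm ha hb, mul_assoc, hax, mul_assoc]
    exact mul_left_cancel h2
  rcases h.cen' ha hc h1 with h2 | h2
  · exact absurd h2 haD
  · exact mul_mem hb (h.D_le _ h2)

/-- Involutions of `S₀` lie in `Q₀ ∪ Q₁`. -/
theorem mem_or (h : Amb S S0 D Q) {x : G} (hx : x ∈ S0) (h2 : x * x = 1) :
    x ∈ Q false ∨ x ∈ Q true := by
  obtain ⟨a, ha, b, hb, rfl⟩ := (h.sup x).1 hx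
  have h1 : a * b = b * a := by
    have h3 : (a * b)⁻¹ = a * b := inv_eq_of_mul_eq_one_right h2
    rw [mul_inv_rev, h.inv_eq ha, h.inv_eq hb] at h3
    exact h3.symm
  rcases h.cen a ha b hb h1 with h3 | h3
  · exact Or.inr (mul_mem (h.D_le _ h3) hb)
  · exact Or.inl (mul_mem ha (h.D_le _ h3))

theorem mem_D_of_central (h : Amb S S0 D Q) (hne : ∀ i, ∃ a ∈ Q i, a ∉ D) {x : G} (hx : x ∈ S0)
    (hc : ∀ y ∈ S0, x * y = y * x) : x ∈ D := by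
  rw [h.inf]
  intro i
  obtain ⟨a, ha, haD⟩ := hne i
  exact h.mem_of_comm ha haD hx (hc a (h.Q_le _ ha)).symm

/-! ### Elements `f ∈ S - S₀` with `f² ∈ S₀` -/

/-- `f ∈ S - S₀` with `f² ∈ S₀`. -/
structure Fld (S S0 : Subgroup G) (f : G) : Prop where
  mem : f ∈ S
  sq : f * f ∈ S0
  not : f ∉ S0

theorem Fld.mul (h : Amb S S0 D Q) {f a : G} (hf : Fld S S0 f) (ha : a ∈ S0) :
    Fld S S0 (f * a) := by
  refine ⟨mul_mem hf.mem (h.S0_le ha), ?_, fun hc => hf.not ?_⟩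
  · have e : f * a * (f * a) = (f * a * f⁻¹) * (f * f) * a := by group
    rw [e]
    exact mul_mem (mul_mem (h.S0n hf.mem ha) hf.sq) ha
  · exact (S0.mul_mem_cancel_right ha).1 hc

theorem Fld.conj (h : Amb S S0 D Q) {f s : G} (hf : Fld S S0 f) (hs : s ∈ S) :
    Fld S S0 (s * f * s⁻¹) := by
  refine ⟨mul_mem (mul_mem hs hf.mem) (inv_mem hs), ?_, fun hc => hf.not ?_⟩
  · have e : s * f * s⁻¹ * (s * f * s⁻¹) = s * (f * f) * s⁻¹ := by group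
    rw [e]
    exact h.S0n hs hf.sq
  · have := h.S0n (inv_mem hs) hc
    rw [inv_inv] at this
    have e : s⁻¹ * (s * f * s⁻¹) * s = f := by group
    rwa [e] at this

/-- A fixed element outside `D` in `Q_i / D` and a moved one. -/
theorem exists_move (h : Amb S S0 D Q) {f : G} (hf : Fld S S0 f) (i : Bool) :
    ∃ a ∈ Q i, f * a * f⁻¹ * a ∉ D := by
  by_contra hc
  push Not at hc
  exact hf.not (h.faith i f hf.mem hc)

/-- Some element of `D` is moved. -/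
theorem exists_moveD (h : Amb S S0 D Q) {f : G} (hf : Fld S S0 f) :
    ∃ d ∈ D, f * d * f⁻¹ ≠ d := by
  by_contra hc
  push Not at hc
  have hD : ∀ d ∈ D, d = 1 := by
    intro d hd
    obtain ⟨e, he, hed⟩ := h.frD f hf.mem hf.sq hf.not d hd (hc d hd)
    rw [← hed, hc e he, h.sq false e (h.D_le _ he)]
  obtain ⟨a, ha, haD, -⟩ := h.fixQ f hf.mem hf.sq hf.not false
  obtain ⟨b, hb, hbD, -⟩ := h.fixQ f hf.mem hf.sq hf.not true
  have h1 := hD _ (h.comm_mem ha (i := false) hb)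
  have h2 : a * b = b * a := by
    rw [mul_inv_eq_one, mul_inv_eq_iff_eq_mul] at h1
    exact h1
  rcases h.cen a ha b hb h2 with h3 | h3
  · exact haD h3
  · exact hbD h3

/-- There is an involution in the coset `f S₀`. -/
theorem exists_inv (h : Amb S S0 D Q) {f : G} (hf : Fld S S0 f) :
    ∃ y, Fld S S0 y ∧ y * y = 1 := by
  -- step 1: `(f e)² ∈ Q₀`
  obtain ⟨g, hg, hgQ⟩ : ∃ g, Fld S S0 g ∧ g * g ∈ Q false := by
    obtain ⟨a, ha, b, hb, hab⟩ := (h.sup _).1 hf.sq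
    have h1 : f * b * f⁻¹ * b ∈ D := by
      refine h.memD (i := false) ?_ (mul_mem (h.Qn _ f hf.mem b hb) hb)
      have e1 : f * (a * b) * f⁻¹ = a * b := by rw [← hab]; group
      have e2 : f * b * f⁻¹ = (f * a * f⁻¹)⁻¹ * (a * b) := by
        calc f * b * f⁻¹ = (f * a * f⁻¹)⁻¹ * (f * (a * b) * f⁻¹) := by group
          _ = _ := by rw [e1]
      rw [e2]
      have e3 : (f * a * f⁻¹)⁻¹ * (a * b) * b = (f * a * f⁻¹)⁻¹ * a * (b * b) := by group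
      rw [e3, h.sq _ b hb, mul_one]
      exact mul_mem (inv_mem (h.Qn _ f hf.mem a ha)) ha
    obtain ⟨e, he, heb⟩ := h.frQ f hf.mem hf.sq hf.not true b hb h1
    refine ⟨f * e, hf.mul h (h.Q_le _ he), ?_⟩
    have e1 : f * e * (f * e) = (f * e * f⁻¹) * a * (f * e * f⁻¹)⁻¹ * (f * e * f⁻¹ * e * b) := by
      have h2 : b * e = e * b := h.comm hb he
      calc f * e * (f * e) = (f * e * f⁻¹) * (f * f) * e := by group
        _ = (f * e * f⁻¹) * (a * b) * e := by rw [hab]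
        _ = (f * e * f⁻¹) * a * (b * e) := by group
        _ = (f * e * f⁻¹) * a * (e * b) := by rw [h2]
        _ = _ := by group
    rw [e1]
    have h3 : f * e * f⁻¹ ∈ S := mul_mem (mul_mem hf.mem (h.QS _ he)) (inv_mem hf.mem)
    exact mul_mem (h.Qn _ _ h3 a ha) (h.D_le _ heb)
  -- step 2: `(g e)² ∈ D`
  obtain ⟨k, hk, hkD⟩ : ∃ k, Fld S S0 k ∧ k * k ∈ D := by
    have h1 : g * (g * g) * g⁻¹ * (g * g) ∈ D := by
      have e : g * (g * g) * g⁻¹ = g * g := by group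
      rw [e, h.sq _ _ hgQ]
      exact one_mem _
    obtain ⟨e, he, heb⟩ := h.frQ g hg.mem hg.sq hg.not false _ hgQ h1
    refine ⟨g * e, hg.mul h (h.Q_le _ he), ?_⟩
    have e1 : g * e * (g * e) = g * e * g⁻¹ * e * (g * g) := by
      have h2 : g * g * e = e * (g * g) := h.comm hgQ he
      calc g * e * (g * e) = g * e * g⁻¹ * (g * g * e) := by group
        _ = _ := by rw [h2]; group
    rw [e1]
    exact heb
  -- step 3
  obtain ⟨e, he, hed⟩ := h.frD k hk.mem hk.sq hk.not _ hkD (by group)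
  refine ⟨k * e, hk.mul h (h.D_le0 he), ?_⟩
  have h2 : k * k * e = e * (k * k) := h.comm (h.D_le false hkD) (h.D_le false he)
  calc k * e * (k * e) = k * e * k⁻¹ * (k * k * e) := by group
    _ = (k * e * k⁻¹ * e) * (k * k) := by rw [h2]; group
    _ = 1 := by rw [hed]; exact h.sq false _ (h.D_le _ hkD)

/-- Involutions of `S - S₀` are `S₀`-conjugate. -/
theorem conj_inv (h : Amb S S0 D Q) {y y' : G} (hy : Fld S S0 y) (hy1 : y * y = 1)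
    (hy' : Fld S S0 y') (hy1' : y' * y' = 1) : ∃ s ∈ S0, s * y * s⁻¹ = y' := by
  have hi : ∀ {t : G}, t * t = 1 → t⁻¹ = t := fun ht => inv_eq_of_mul_eq_one_right ht
  have hg : y⁻¹ * y' ∈ S0 := by
    rw [hi hy1]
    exact h.cyc y hy.mem y' hy'.mem hy.sq hy'.sq hy.not hy'.not
  -- step 1
  obtain ⟨s1, hs1, hQ⟩ : ∃ s ∈ S0, (s * y * s⁻¹)⁻¹ * y' ∈ Q false := by
    obtain ⟨a, ha, b, hb, hab⟩ := (h.sup _).1 hg
    have hy'e : y' = y * (a * b) := by rw [← hab]; group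
    have h1 : y * b * y⁻¹ * b ∈ D := by
      refine h.memD (i := false) ?_ (mul_mem (h.Qn _ y hy.mem b hb) hb)
      have e0 : y * (a * b) * y⁻¹ * (a * b) = 1 := by
        rw [hi hy1]
        calc y * (a * b) * y * (a * b) = (y * (a * b)) * (y * (a * b)) := by group
          _ = 1 := by rw [← hy'e]; exact hy1'
      have e2 : y * b * y⁻¹ * b = (y * a * y⁻¹)⁻¹ * (y * (a * b) * y⁻¹ * (a * b)) *
          ((a * b)⁻¹ * b) := by group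
      have e3 : (a * b)⁻¹ * b = b⁻¹ * a⁻¹ * b := by group
      rw [e2, e0, mul_one, e3]
      have h5 := h.Qn _ b⁻¹ (inv_mem (h.QS _ hb)) _ (inv_mem ha)
      rw [inv_inv] at h5
      exact mul_mem (inv_mem (h.Qn _ y hy.mem a ha)) h5
    obtain ⟨e, he, heb⟩ := h.frQ y hy.mem hy.sq hy.not true b hb h1
    refine ⟨e, h.Q_le _ he, ?_⟩
    set w := y * e * y⁻¹ * e with hw
    have hwQ : w ∈ Q true := mul_mem (h.Qn _ y hy.mem e he) he
    have e1 : e * y * e⁻¹ = y * w := by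
      rw [hw, h.inv_eq he, hi hy1]
      calc e * y * e = (y * y) * (e * y * e) := by rw [hy1, one_mul]
        _ = _ := by group
    rw [e1, hy'e]
    have e2 : (y * w)⁻¹ * (y * (a * b)) = w⁻¹ * a * w * (w⁻¹ * b) := by group
    rw [e2, h.inv_eq hwQ]
    have h5 := h.Qn _ w (h.QS _ hwQ) _ ha
    rw [h.inv_eq hwQ] at h5
    exact mul_mem h5 (h.D_le _ heb)
  have hy2 := hy.conj h (h.S0_le hs1)
  set y2 := s1 * y * s1⁻¹ with hy2e
  have hy21 : y2 * y2 = 1 := by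
    rw [hy2e]
    calc s1 * y * s1⁻¹ * (s1 * y * s1⁻¹) = s1 * (y * y) * s1⁻¹ := by group
      _ = 1 := by rw [hy1]; group
  -- step 2
  obtain ⟨s2, hs2, hQ2⟩ : ∃ s ∈ S0, (s * y2 * s⁻¹)⁻¹ * y' ∈ D := by
    set a := y2⁻¹ * y' with ha
    have hy'e : y' = y2 * a := by rw [ha]; group
    have h1 : y2 * a * y2⁻¹ * a ∈ D := by
      have e0 : y2 * a * y2⁻¹ * a = 1 := by
        rw [hi hy21]
        calc y2 * a * y2 * a = (y2 * a) * (y2 * a) := by group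
          _ = 1 := by rw [← hy'e]; exact hy1'
      rw [e0]
      exact one_mem _
    obtain ⟨e, he, heb⟩ := h.frQ y2 hy2.mem hy2.sq hy2.not false a hQ h1
    refine ⟨e, h.Q_le _ he, ?_⟩
    set w := y2 * e * y2⁻¹ * e with hw
    have hwQ : w ∈ Q false := mul_mem (h.Qn _ y2 hy2.mem e he) he
    have e1 : e * y2 * e⁻¹ = y2 * w := by
      rw [hw, h.inv_eq he, hi hy21]
      calc e * y2 * e = (y2 * y2) * (e * y2 * e) := by rw [hy21, one_mul]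
        _ = _ := by group
    rw [e1, hy'e]
    have e2 : (y2 * w)⁻¹ * (y2 * a) = w⁻¹ * a := by group
    rw [e2, h.inv_eq hwQ]
    exact heb
  have hy3 := hy2.conj h (h.S0_le hs2)
  set y3 := s2 * y2 * s2⁻¹ with hy3e
  have hy31 : y3 * y3 = 1 := by
    rw [hy3e]
    calc s2 * y2 * s2⁻¹ * (s2 * y2 * s2⁻¹) = s2 * (y2 * y2) * s2⁻¹ := by group
      _ = 1 := by rw [hy21]; group
  -- step 3
  obtain ⟨s3, hs3, hQ3⟩ : ∃ s ∈ S0, s * y3 * s⁻¹ = y' := by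
    set d := y3⁻¹ * y' with hd
    have hy'e : y' = y3 * d := by rw [hd]; group
    have h1 : y3 * d * y3⁻¹ = d := by
      have e0 : y3 * d * y3⁻¹ * d = 1 := by
        rw [hi hy31]
        calc y3 * d * y3 * d = (y3 * d) * (y3 * d) := by group
          _ = 1 := by rw [← hy'e]; exact hy1'
      rw [eq_inv_of_mul_eq_one_left e0, h.inv_eqD hQ2]
    obtain ⟨e, he, hed⟩ := h.frD y3 hy3.mem hy3.sq hy3.not d hQ2 h1
    refine ⟨e, h.D_le0 he, ?_⟩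
    rw [hy'e, ← hed, h.inv_eqD he, hi hy31]
    calc e * y3 * e = (y3 * y3) * (e * y3 * e) := by rw [hy31, one_mul]
      _ = _ := by group
  refine ⟨s3 * s2 * s1, mul_mem (mul_mem hs3 hs2) hs1, ?_⟩
  rw [← hQ3, hy3e, hy2e]
  group

/-- Fixed elements of `Q_i / D` lift to fixed elements. -/
theorem lift_fix (h : Amb S S0 D Q) {y : G} (hy : Fld S S0 y) (hy1 : y * y = 1) {i : Bool} {a : G}
    (ha : a ∈ Q i) (hf : y * a * y⁻¹ * a ∈ D) : ∃ d ∈ D, y * (a * d) = a * d * y := by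
  set c := y * a * y⁻¹ * a with hc
  have hi : y⁻¹ = y := inv_eq_of_mul_eq_one_right hy1
  have h1 : y * a * y⁻¹ = c * a := by
    rw [hc, mul_assoc (y * a * y⁻¹), h.sq i a ha, mul_one]
  have h2 : y * c * y⁻¹ = c := by
    have e : y * c * y⁻¹ = (y * y) * a * (y * y)⁻¹ * (y * a * y⁻¹) := by rw [hc]; group
    rw [e, hy1, h1, one_mul, inv_one, mul_one]
    calc a * (c * a) = (c * a) * a := by rw [← mul_assoc, h.mulD ha hf]
      _ = c := by rw [mul_assoc, h.sq i a ha, mul_one]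
  obtain ⟨e, he, hec⟩ := h.frD y hy.mem hy.sq hy.not c hf h2
  refine ⟨e, he, ?_⟩
  have h3 : y * e * y⁻¹ = c * e := by
    rw [← hec, mul_assoc (y * e * y⁻¹), h.sq false e (h.D_le _ he), mul_one]
  have h4 : y * (a * e) * y⁻¹ = a * e := by
    calc y * (a * e) * y⁻¹ = (y * a * y⁻¹) * (y * e * y⁻¹) := by group
      _ = c * a * (c * e) := by rw [h1, h3]
      _ = c * (a * c) * e := by group
      _ = c * (c * a) * e := by rw [h.mulD ha hf]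
      _ = (c * c) * (a * e) := by group
      _ = a * e := by rw [h.sq false c (h.D_le _ hf), one_mul]
  rw [mul_inv_eq_iff_eq_mul] at h4
  exact h4

/-- `C_{Q_i}(y)` is not contained in `D`. -/
theorem exists_fix (h : Amb S S0 D Q) {y : G} (hy : Fld S S0 y) (hy1 : y * y = 1) (i : Bool) :
    ∃ a ∈ Q i, a ∉ D ∧ y * a = a * y := by
  obtain ⟨a, ha, haD, hf⟩ := h.fixQ y hy.mem hy.sq hy.not i
  obtain ⟨d, hd, e⟩ := h.lift_fix hy hy1 ha hf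
  exact ⟨a * d, mul_mem ha (h.D_le _ hd), fun hc => haD ((D.mul_mem_cancel_right hd).1 hc), e⟩

end Amb

end Cfsg.Agent.Omega.CloseA

end
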