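import Mathlib
import Cfsg.Agent.Mrg.Omega.CloseA.Coord
import Cfsg.Agent.MinSimple.Basic
import Cfsg.Agent.Mrg.Omega.HOne.PairP
import Cfsg.Agent.TwoFusion.SectionalRank

section


/-!
# Field automorphisms in the closings of type `L₃(q)`, `Sp₄(q)`: weak closure, `O₂(C_G(y)) ∩ S₀ = 1`
-/

set_option autoImplicit false

namespace Cfsg.Agent.Omega.CloseA

variable {G : Type*} [Group G]

/-- `C_S(u)` contains a conjugate in `C_G(u)` of every 2-subgroup of `C_G(u)`. -/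
def Extr (S : Subgroup G) (u : G) : Prop :=
  ∀ K : Subgroup G, IsPGroup 2 K → (∀ k ∈ K, k * u = u * k) →
    ∃ c, c * u = u * c ∧ ∀ k ∈ K, c * k * c⁻¹ ∈ S

theorem isPGroup_map' {T : Subgroup G} (hT : IsPGroup 2 T) (g : G) :
    IsPGroup 2 (T.map (MulAut.conj g).toMonoidHom : Subgroup G) :=
  hT.map _

theorem mem_map_conj {T : Subgroup G} {g x : G} :
    x ∈ T.map (MulAut.conj g).toMonoidHom ↔ g⁻¹ * x * g ∈ T := by
  constructor
  · rintro ⟨t, ht, rfl⟩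
    have e : g⁻¹ * (MulAut.conj g).toMonoidHom t * g = t := by
      show g⁻¹ * (g * t * g⁻¹) * g = t
      group
    rw [e]
    exact ht
  · intro h
    refine ⟨_, h, ?_⟩
    show g * (g⁻¹ * x * g) * g⁻¹ = x
    group

/-- A 2-subgroup of `H ≥ S` is conjugate in `H` into `S`. -/
theorem exists_conj_le [Finite G] (S : Sylow 2 G) {H T : Subgroup G} (hS : (S : Subgroup G) ≤ H)
    (hT : T ≤ H) (h2 : IsPGroup 2 T) : ∃ g ∈ H, ∀ t ∈ T, g * t * g⁻¹ ∈ (S : Subgroup G) := by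
  have h3 : IsPGroup 2 (T.subgroupOf H) := h2.comap_subtype
  obtain ⟨P, hP⟩ := h3.exists_le_sylow
  obtain ⟨g, hg⟩ := MulAction.exists_smul_eq H P (S.subtype hS)
  refine ⟨g, g.2, fun t ht => ?_⟩
  have h1 : (⟨t, hT ht⟩ : H) ∈ P := hP (Subgroup.mem_subgroupOf.2 ht)
  have h4 : g * (⟨t, hT ht⟩ : H) * g⁻¹ ∈ (S.subtype hS : Subgroup H) := by
    rw [← hg]
    exact Subgroup.smul_mem_pointwise_smul _ (MulAut.conj g) _ h1
  exact h4

/-- Existence of extremal conjugates. -/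
theorem exists_extr [Finite G] (S : Sylow 2 G) {y : G} {T : Subgroup G} (hT : IsPGroup 2 T)
    (hTy : ∀ t ∈ T, t * y = y * t) :
    ∃ g : G, (∀ t ∈ T, g * t * g⁻¹ ∈ (S : Subgroup G)) ∧ Extr (S : Subgroup G) (g * y * g⁻¹) := by
  set C := Subgroup.centralizer ({y} : Set G) with hC
  have hmem : ∀ {x : G}, x ∈ C ↔ x * y = y * x := by
    intro x
    rw [hC, Subgroup.mem_centralizer_singleton_iff]
  have hTC : T ≤ C := fun t ht => hmem.2 (hTy t ht)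
  have h3 : IsPGroup 2 (T.subgroupOf C) := hT.comap_subtype
  obtain ⟨P, hP⟩ := h3.exists_le_sylow
  have hP2 : IsPGroup 2 ((P : Subgroup C).map C.subtype) := P.isPGroup'.map _
  obtain ⟨g, -, hg⟩ := exists_conj_le S (H := ⊤) le_top le_top hP2
  refine ⟨g, fun t ht => hg t ⟨⟨t, hTC ht⟩, hP (Subgroup.mem_subgroupOf.2 ht), rfl⟩, ?_⟩
  intro K hK hKu
  have hK' : IsPGroup 2 (K.map (MulAut.conj g⁻¹).toMonoidHom : Subgroup G) := isPGroup_map' hK _
  set K' := K.map (MulAut.conj g⁻¹).toMonoidHom with hK'e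
  have hK'C : K' ≤ C := by
    rintro _ ⟨k, hk, rfl⟩
    rw [hmem]
    show g⁻¹ * k * g⁻¹⁻¹ * y = y * (g⁻¹ * k * g⁻¹⁻¹)
    have := hKu k hk
    calc g⁻¹ * k * g⁻¹⁻¹ * y = g⁻¹ * (k * (g * y * g⁻¹)) * g := by group
      _ = g⁻¹ * (g * y * g⁻¹ * k) * g := by rw [this]
      _ = _ := by group
  have h5 : IsPGroup 2 (K'.subgroupOf C) := hK'.comap_subtype
  obtain ⟨P', hP'⟩ := h5.exists_le_sylow
  obtain ⟨c, hc⟩ := MulAction.exists_smul_eq C P' P
  refine ⟨g * c * g⁻¹, ?_, fun k hk => ?_⟩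
  · have := hmem.1 c.2
    calc g * c * g⁻¹ * (g * y * g⁻¹) = g * (c * y) * g⁻¹ := by group
      _ = g * (y * c) * g⁻¹ := by rw [this]
      _ = _ := by group
  · have hkK : g⁻¹ * k * g ∈ K' := by
      rw [hK'e, mem_map_conj]
      have e : g⁻¹⁻¹ * (g⁻¹ * k * g) * g⁻¹ = k := by group
      rwa [e]
    have h1 : (⟨_, hK'C hkK⟩ : C) ∈ P' := hP' (Subgroup.mem_subgroupOf.2 hkK)
    have h4 : c * (⟨_, hK'C hkK⟩ : C) * c⁻¹ ∈ (P : Subgroup C) := by
      rw [← hc]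
      exact Subgroup.smul_mem_pointwise_smul _ (MulAut.conj c) _ h1
    have h6 := hg _ ⟨_, h4, rfl⟩
    have e : g * c * g⁻¹ * k * (g * c * g⁻¹)⁻¹ = g * ((c : G) * (g⁻¹ * k * g) * (c : G)⁻¹) * g⁻¹ := by
      group
    rw [e]
    exact h6

namespace Amb

variable {S S0 D : Subgroup G} {Q : Bool → Subgroup G}

theorem card' (h : Amb S S0 D Q) (i j : Bool) : Nat.card (Q i) = Nat.card (Q j) := by
  have := h.card
  cases i <;> cases j <;> simp_all

/-- Elementary abelian subgroups of `S₀` lie in `Q₀` or `Q₁`. -/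
theorem le_or (h : Amb S S0 D Q) {A : Subgroup G} (hA : A ≤ S0) (h2 : ∀ a ∈ A, a * a = 1) :
    ∃ j, A ≤ Q j := by
  by_contra hc
  push Not at hc
  obtain ⟨a, ha, haQ⟩ := SetLike.not_le_iff_exists.1 (hc false)
  obtain ⟨b, hb, hbQ⟩ := SetLike.not_le_iff_exists.1 (hc true)
  have ha' : a ∈ Q true := (h.mem_or (hA ha) (h2 a ha)).resolve_left haQ
  have hb' : b ∈ Q false := (h.mem_or (hA hb) (h2 b hb)).resolve_right hbQ
  have hab : b * a = a * b := by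
    have hi : ∀ {t : G}, t * t = 1 → t⁻¹ = t := fun ht => inv_eq_of_mul_eq_one_right ht
    have h3 := hi (h2 _ (mul_mem ha hb))
    rw [mul_inv_rev, hi (h2 _ ha), hi (h2 _ hb)] at h3
    exact h3
  rcases h.cen b hb' a ha' hab with h3 | h3
  · exact hbQ (h.D_le _ h3)
  · exact haQ (h.D_le _ h3)

/-- An elementary abelian subgroup of `S` of the order of `Q_i` is one of the `Q_j`. -/
theorem eq_of_card [Finite G] (h : Amb S S0 D Q) {A : Subgroup G} (hA : A ≤ S)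
    (h2 : ∀ a ∈ A, a * a = 1) (i : Bool) (hc : Nat.card A = Nat.card (Q i)) : ∃ j, A = Q j := by
  by_cases hA0 : A ≤ S0
  · obtain ⟨j, hj⟩ := h.le_or hA0 h2
    exact ⟨j, Subgroup.eq_of_le_of_card_ge hj (by rw [hc, h.card' i j])⟩
  · exfalso
    obtain ⟨y, hy, hy0⟩ := SetLike.not_le_iff_exists.1 hA0
    have hyS := hA hy
    have hyy := h2 y hy
    have hF : Fld S S0 y := ⟨hyS, by rw [hyy]; exact one_mem _, hy0⟩
    set B := A ⊓ S0 with hB
    obtain ⟨j, hj⟩ := h.le_or (A := B) inf_le_right (fun a ha => h2 a ha.1)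
    have hi : ∀ {t : G}, t * t = 1 → t⁻¹ = t := fun ht => inv_eq_of_mul_eq_one_right ht
    have hBy : ∀ b ∈ B, y * b * y⁻¹ = b := by
      intro b hb
      have h3 := hi (h2 _ (mul_mem hy hb.1))
      rw [mul_inv_rev, hi hyy, hi (h2 _ hb.1)] at h3
      rw [← h3, mul_assoc, mul_inv_cancel, mul_one]
    -- the index of `B` in `A` is at most two
    have h3 : B.relIndex A ≤ 2 := by
      rw [Subgroup.relIndex]
      by_contra hlt
      push Not at hlt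
      -- pigeonhole
      have h4 : ∀ a ∈ A, ∀ b ∈ A, a ∉ S0 → b ∉ S0 → a * b ∈ S0 := fun a ha b hb ha0 hb0 =>
        h.cyc a (hA ha) b (hA hb) (by rw [h2 a ha]; exact one_mem _) (by rw [h2 b hb]; exact one_mem _)
          ha0 hb0
      have h5 : (B.subgroupOf A).index ∣ 2 ∨ (B.subgroupOf A).index = 2 := by
        right
        rw [Subgroup.index_eq_two_iff]
        refine ⟨⟨y, hy⟩, fun b => ?_⟩
        by_cases hb : (b : G) ∈ S0
        · right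
          refine ⟨Subgroup.mem_subgroupOf.2 ⟨b.2, hb⟩, fun hc => ?_⟩
          have h6 := (Subgroup.mem_subgroupOf.1 hc).2
          exact hy0 ((S0.mul_mem_cancel_left hb).1 h6)
        · left
          refine ⟨Subgroup.mem_subgroupOf.2 ⟨mul_mem b.2 hy, h4 _ b.2 _ hy hb hy0⟩, fun hc => ?_⟩
          exact hb (Subgroup.mem_subgroupOf.1 hc).2
      rcases h5 with h5 | h5
      · exact absurd (Nat.le_of_dvd (by norm_num) h5) (by omega)
      · omega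
    have hrel : ∀ {X Y : Subgroup G}, X ≤ Y → X.relIndex Y * Nat.card X = Nat.card Y := by
      intro X Y hXY
      rw [Subgroup.relIndex, ← Nat.card_congr (Subgroup.subgroupOfEquivOfLe hXY).toEquiv]
      exact Subgroup.index_mul_card _
    have h4 : B.relIndex A * Nat.card B = Nat.card A := hrel inf_le_left
    have h5 : B.relIndex (Q j) * Nat.card B = Nat.card (Q j) := hrel hj
    have h6 : B.relIndex (Q j) = B.relIndex A := by
      rw [h.card' j i, ← hc, ← h4] at h5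
      exact Nat.eq_of_mul_eq_mul_right Nat.card_pos h5
    obtain ⟨d, hd, hdy⟩ := h.exists_moveD hF
    obtain ⟨a, ha, hay⟩ := h.exists_move hF j
    have hdQ := h.D_le j hd
    have hdB : d ∉ B := fun hc => hdy (hBy d hc)
    have haB : a ∉ B := by
      intro hc
      apply hay
      rw [hBy a hc, h.sq j a ha]
      exact one_mem _
    have h7 : B.relIndex (Q j) ≠ 0 := by
      rw [Subgroup.relIndex]
      exact Subgroup.index_ne_zero_of_finite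
    have h8 : B.relIndex (Q j) = 1 ∨ B.relIndex (Q j) = 2 := by omega
    rcases h8 with h8 | h8
    · exact hdB ((Subgroup.relIndex_eq_one.1 h8) hdQ)
    · rw [Subgroup.relIndex] at h8
      have h9 := (Subgroup.mul_mem_iff_of_index_two h8 (a := ⟨d, hdQ⟩) (b := ⟨a, ha⟩)).2 (by
        rw [Subgroup.mem_subgroupOf, Subgroup.mem_subgroupOf]
        exact iff_of_false hdB haB)
      have h10 : d * a ∈ B := Subgroup.mem_subgroupOf.1 h9
      have h11 := hBy _ h10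
      apply hay
      have h12 : y * a * y⁻¹ = (y * d * y⁻¹)⁻¹ * (d * a) := by
        calc y * a * y⁻¹ = (y * d * y⁻¹)⁻¹ * (y * (d * a) * y⁻¹) := by group
          _ = _ := by rw [h11]
      rw [h12]
      have h13 : (y * d * y⁻¹)⁻¹ * (d * a) * a = (y * d * y⁻¹)⁻¹ * d * (a * a) := by group
      rw [h13, h.sq j a ha, mul_one]
      exact mul_mem (inv_mem (h.Dn hyS hd)) hd

/-- **Weak closure of `S₀`.** -/
theorem weak [Finite G] (h : Amb S S0 D Q) (hne : ∀ i, ∃ a ∈ Q i, a ∉ D) {g : G}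
    (hg : ∀ x ∈ S0, g * x * g⁻¹ ∈ S) :
    (∀ d ∈ D, g * d * g⁻¹ ∈ D) ∧ ∀ x ∈ S0, g * x * g⁻¹ ∈ S0 := by
  have key : ∀ i, ∃ j, (Q i).map (MulAut.conj g).toMonoidHom = Q j := by
    intro i
    refine h.eq_of_card ?_ ?_ i ?_
    · rintro _ ⟨x, hx, rfl⟩
      exact hg x (h.Q_le i hx)
    · rintro _ ⟨x, hx, rfl⟩
      show g * x * g⁻¹ * (g * x * g⁻¹) = 1
      calc g * x * g⁻¹ * (g * x * g⁻¹) = g * (x * x) * g⁻¹ := by group
        _ = 1 := by rw [h.sq i x hx]; group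
    · exact (Nat.card_congr ((Q i).equivMapOfInjective (MulAut.conj g).toMonoidHom
        (MulAut.conj g).injective).toEquiv).symm
  obtain ⟨j0, hj0⟩ := key false
  obtain ⟨j1, hj1⟩ := key true
  have hm0 : ∀ x ∈ Q false, g * x * g⁻¹ ∈ Q j0 := fun x hx => hj0 ▸ ⟨x, hx, rfl⟩
  have hm1 : ∀ x ∈ Q true, g * x * g⁻¹ ∈ Q j1 := fun x hx => hj1 ▸ ⟨x, hx, rfl⟩
  have hne' : j1 = !j0 := by
    by_contra hc
    have hcc : j1 = j0 := by cases j0 <;> cases j1 <;> simp_all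
    rw [hcc, ← hj0] at hj1
    have h1 : Q true = Q false :=
      Subgroup.map_injective (MulAut.conj g).injective hj1
    obtain ⟨a, ha, haD⟩ := hne false
    exact haD (h.memD (i := false) ha (by show a ∈ Q true; rw [h1]; exact ha))
  subst hne'
  refine ⟨fun d hd => h.memD (hm0 d (h.D_le _ hd)) (hm1 d (h.D_le _ hd)), fun x hx => ?_⟩
  obtain ⟨a, ha, b, hb, rfl⟩ := (h.sup x).1 hx
  have e : g * (a * b) * g⁻¹ = (g * a * g⁻¹) * (g * b * g⁻¹) := by group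
  rw [e]
  exact mul_mem (h.Q_le _ (hm0 a ha)) (h.Q_le _ (hm1 b hb))

end Amb

/-! ### `O₂(C_G(y)) ∩ S₀ = 1` -/

section Lines

variable {S S0 D : Subgroup G} {Q : Bool → Subgroup G}

/-- `N_P(D)` normalises `S₀`: `S₀ = {g : [Q,g] ≤ D, [D,g] = 1}`. -/
theorem Lin.char [Finite G] {S : Sylow 2 G} {i : Bool} {P L C : Subgroup G}
    (h : Amb (S : Subgroup G) S0 D Q) (l : Lin (S : Subgroup G) S0 D (Q i) P L C) {g : G} :
    g ∈ S0 ↔ (∀ a ∈ Q i, g * a * g⁻¹ * a ∈ D) ∧ ∀ d ∈ D, g * d = d * g := by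
  -- the group on the right
  let K : Subgroup G :=
    { carrier := {g | (∀ a ∈ Q i, g * a * g⁻¹ * a ∈ D) ∧ ∀ d ∈ D, g * d = d * g}
      one_mem' := ⟨fun a ha => by simp [h.sq i a ha], fun d _ => by simp⟩
      mul_mem' := by
        rintro x y ⟨hx, hx'⟩ ⟨hy, hy'⟩
        refine ⟨fun a ha => ?_, fun d hd => ?_⟩
        · have h1 := hy a ha
          have h2 : y * a * y⁻¹ = (y * a * y⁻¹ * a) * a := by
            rw [mul_assoc (y * a * y⁻¹), h.sq i a ha, mul_one]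
          have e : x * y * a * (x * y)⁻¹ * a =
              x * (y * a * y⁻¹ * a) * x⁻¹ * (x * a * x⁻¹ * a) := by
            calc x * y * a * (x * y)⁻¹ * a = x * (y * a * y⁻¹) * x⁻¹ * a := by group
              _ = x * ((y * a * y⁻¹ * a) * a) * x⁻¹ * a := by rw [← h2]
              _ = _ := by group
          rw [e]
          refine mul_mem ?_ (hx a ha)
          rw [hx' _ h1, mul_assoc, mul_inv_cancel, mul_one]
          exact h1
        · rw [mul_assoc, hy' d hd, ← mul_assoc, hx' d hd, mul_assoc]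
      inv_mem' := by
        rintro x ⟨hx, hx'⟩
        refine ⟨fun a ha => ?_, fun d hd => ?_⟩
        · have h1 := hx a ha
          have h2 : x⁻¹ * (x * a * x⁻¹ * a) * x = a * (x⁻¹ * a * x) := by group
          have h3 : x⁻¹ * (x * a * x⁻¹ * a) * x = x * a * x⁻¹ * a := by
            have := hx' _ h1
            calc x⁻¹ * (x * a * x⁻¹ * a) * x = x⁻¹ * ((x * a * x⁻¹ * a) * x) := by group
              _ = x⁻¹ * (x * (x * a * x⁻¹ * a)) := by rw [this]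
              _ = _ := by group
          rw [h3] at h2
          have h4 : x⁻¹ * a * x⁻¹⁻¹ * a = a⁻¹ * (x * a * x⁻¹ * a) * a := by
            rw [h2]; group
          rw [h4, h.inv_eq ha]
          have := h.Dn (h.QS i ha) h1
          rwa [h.inv_eq ha] at this
        · have := hx' d hd
          calc x⁻¹ * d = x⁻¹ * (d * x) * x⁻¹ := by group
            _ = x⁻¹ * (x * d) * x⁻¹ := by rw [this]
            _ = d * x⁻¹ := by group }
  have hKmem : ∀ {g : G}, g ∈ K ↔ (∀ a ∈ Q i, g * a * g⁻¹ * a ∈ D) ∧ ∀ d ∈ D, g * d = d * g :=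
    Iff.rfl
  -- `K` is a 2-group
  have hK2 : IsPGroup 2 K := by
    rintro ⟨g, hg⟩
    refine ⟨2, Subtype.ext ?_⟩
    show g ^ 4 = 1
    have h1 : ∀ a ∈ Q i, g * g * a = a * (g * g) := by
      intro a ha
      have h2 := hg.1 a ha
      have h3 := hg.2 _ h2
      set c := g * a * g⁻¹ * a with hc
      have h4 : g * a * g⁻¹ = c * a := by
        rw [hc, mul_assoc (g * a * g⁻¹), h.sq i a ha, mul_one]
      have h5 : g * g * a * (g * g)⁻¹ = a := by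
        calc g * g * a * (g * g)⁻¹ = g * (g * a * g⁻¹) * g⁻¹ := by group
          _ = (g * c) * a * g⁻¹ := by rw [h4]; group
          _ = c * (g * a * g⁻¹) := by rw [h3]; group
          _ = (c * c) * a := by rw [h4]; group
          _ = a := by rw [h.sq false c (h.D_le _ h2), one_mul]
      rwa [mul_inv_eq_iff_eq_mul] at h5
    have h2 := h.sq i _ (l.cen _ h1)
    have e : g ^ 4 = g * g * (g * g) := by
      rw [← pow_two, ← pow_two, ← pow_mul]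
    rw [e]
    exact h2
  have hSK : (S : Subgroup G) ≤ Subgroup.normalizer (K : Set G) := by
    have h1 : ∀ s ∈ (S : Subgroup G), ∀ k ∈ K, s * k * s⁻¹ ∈ K := by
      intro s hs k hk
      have hs' := inv_mem hs
      refine ⟨fun a ha => ?_, fun d hd => ?_⟩
      · have h2 := h.Qn i _ hs' a ha
        rw [inv_inv] at h2
        have h3 := hk.1 _ h2
        have e : s * k * s⁻¹ * a * (s * k * s⁻¹)⁻¹ * a =
            s * (k * (s⁻¹ * a * s) * k⁻¹ * (s⁻¹ * a * s)) * s⁻¹ := by group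
        rw [e]
        exact h.Dn hs h3
      · have h2 := h.Dn hs' hd
        rw [inv_inv] at h2
        have h3 := hk.2 _ h2
        calc s * k * s⁻¹ * d = s * (k * (s⁻¹ * d * s)) * s⁻¹ := by group
          _ = s * ((s⁻¹ * d * s) * k) * s⁻¹ := by rw [h3]
          _ = _ := by group
    intro s hs
    rw [Subgroup.mem_normalizer_iff]
    intro k
    refine ⟨h1 s hs k, fun hk => ?_⟩
    have := h1 _ (inv_mem hs) _ hk
    have e : s⁻¹ * (s * k * s⁻¹) * s⁻¹⁻¹ = k := by group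
    rwa [e] at this
  have hKS : K ≤ (S : Subgroup G) := by
    have h1 : IsPGroup 2 ((S : Subgroup G) ⊔ K : Subgroup G) :=
      IsPGroup.to_sup_of_normal_right' S.isPGroup' hK2 hSK
    have h2 := S.is_maximal' h1 le_sup_left
    exact le_sup_right.trans h2.le
  constructor
  · intro hg
    refine ⟨fun a ha => ?_, fun d hd => h.central hg hd⟩
    have h1 := h.comm_mem0 hg (h.Q_le i ha)
    rwa [h.inv_eq ha] at h1
  · intro hg
    exact h.faith i g (hKS (hKmem.2 hg)) hg.1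

variable [Finite G] {S : Sylow 2 G}

theorem Lin.conj_S0 {i : Bool} {P L C : Subgroup G}
    (h : Amb (S : Subgroup G) S0 D Q) (l : Lin (S : Subgroup G) S0 D (Q i) P L C) {g x : G}
    (hg : g ∈ P) (hgD : ∀ d, g * d * g⁻¹ ∈ D ↔ d ∈ D) (hx : x ∈ S0) : g * x * g⁻¹ ∈ S0 := by
  rw [l.char h] at hx ⊢
  have hgi : ∀ a ∈ Q i, g⁻¹ * a * g ∈ Q i := by
    intro a ha
    have := l.PQ _ (inv_mem hg) a ha
    rwa [inv_inv] at this
  have hgi' : ∀ d ∈ D, g⁻¹ * d * g ∈ D := by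
    intro d hd
    rw [← hgD]
    have e : g * (g⁻¹ * d * g) * g⁻¹ = d := by group
    rwa [e]
  refine ⟨fun a ha => ?_, fun d hd => ?_⟩
  · have h3 := hx.1 _ (hgi a ha)
    have e : g * x * g⁻¹ * a * (g * x * g⁻¹)⁻¹ * a =
        g * (x * (g⁻¹ * a * g) * x⁻¹ * (g⁻¹ * a * g)) * g⁻¹ := by group
    rw [e]
    exact (hgD _).2 h3
  · have h3 := hx.2 _ (hgi' d hd)
    calc g * x * g⁻¹ * d = g * (x * (g⁻¹ * d * g)) * g⁻¹ := by group
      _ = g * ((g⁻¹ * d * g) * x) * g⁻¹ := by rw [h3]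
      _ = _ := by group

/-- The normaliser condition from one direction. -/
theorem norm_iff {D : Subgroup G} {g : G} (h : ∀ d ∈ D, g * d * g⁻¹ ∈ D) (d : G) :
    g * d * g⁻¹ ∈ D ↔ d ∈ D := by
  refine ⟨fun hd => ?_, h d⟩
  have h1 : D.map (MulAut.conj g).toMonoidHom ≤ D := by
    rintro _ ⟨v, hv, rfl⟩
    exact h v hv
  have h2 : D.map (MulAut.conj g).toMonoidHom = D := by
    refine Subgroup.eq_of_le_of_card_ge h1 (le_of_eq ?_)
    exact (Nat.card_congr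
      (D.equivMapOfInjective (MulAut.conj g).toMonoidHom (MulAut.conj g).injective).toEquiv)
  rw [← h2, mem_map_conj] at hd
  have e : g⁻¹ * (g * d * g⁻¹) * g = d := by group
  rwa [e] at hd

omit [Finite G] in
/-- If `e, geg⁻¹ ∈ S₀ - Q` with `g ∈ P` then `g` normalises `D`. -/
theorem Lin.norm_of_mem {i : Bool} {P L C : Subgroup G}
    (h : Amb (S : Subgroup G) S0 D Q) (l : Lin (S : Subgroup G) S0 D (Q i) P L C) {g e : G}
    (hg : g ∈ P) (he : e ∈ S0) (he' : e ∉ Q i) (hge : g * e * g⁻¹ ∈ S0) :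
    ∀ d ∈ D, g * d * g⁻¹ ∈ D := by
  intro d hd
  have h1 : g * d * g⁻¹ ∈ Q i := l.PQ g hg d (h.D_le i hd)
  by_contra hc
  have h2 := h.central he hd
  have h3 : (g * d * g⁻¹) * (g * e * g⁻¹) = (g * e * g⁻¹) * (g * d * g⁻¹) := by
    calc (g * d * g⁻¹) * (g * e * g⁻¹) = g * (d * e) * g⁻¹ := by group
      _ = g * (e * d) * g⁻¹ := by rw [h2]
      _ = _ := by group
  have h4 := h.mem_of_comm h1 hc hge h3
  apply he'
  have := l.PQ _ (inv_mem hg) _ h4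
  have e2 : g⁻¹ * (g * e * g⁻¹) * g⁻¹⁻¹ = e := by group
  rwa [e2] at this

/-- Some element of `C_P(y)` moves `D`. -/
theorem Lin.exists_move {i : Bool} {P L C : Subgroup G}
    (h : Amb (S : Subgroup G) S0 D Q) (l : Lin (S : Subgroup G) S0 D (Q i) P L C) {y : G}
    (hy : Amb.Fld (S : Subgroup G) S0 y) (hy1 : y * y = 1) :
    ∃ c ∈ P, c * y = y * c ∧ ∃ d ∈ D, c * d * c⁻¹ ∉ D := by
  obtain ⟨v, hv, hvD, hyv⟩ := h.exists_fix hy hy1 i
  obtain ⟨p, hp, hpv⟩ := l.cov v hv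
  have hyP := l.SP hy.mem
  set k := p * y * p⁻¹ with hk
  have hkP : k ∈ P := mul_mem (mul_mem hp hyP) (inv_mem hp)
  have hkk : k * k = 1 := by
    rw [hk]
    calc p * y * p⁻¹ * (p * y * p⁻¹) = p * (y * y) * p⁻¹ := by group
      _ = 1 := by rw [hy1]; group
  -- `k` normalises `D`
  have hkD : ∀ d ∈ D, k * d * k⁻¹ ∈ D := by
    by_contra hc
    push Not at hc
    have h1 : k * (p * v * p⁻¹) * k⁻¹ = p * v * p⁻¹ := by
      rw [hk]
      calc p * y * p⁻¹ * (p * v * p⁻¹) * (p * y * p⁻¹)⁻¹ = p * (y * v) * y⁻¹ * p⁻¹ := by group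
        _ = p * (v * y) * y⁻¹ * p⁻¹ := by rw [hyv]
        _ = _ := by group
    have h2 := l.line k hkP hc _ hpv (by rw [h1]; exact hpv)
    have h3 := l.PC _ (inv_mem hp) _ h2
    have e : p⁻¹ * (p * v * p⁻¹) * p⁻¹⁻¹ = v := by group
    rw [e] at h3
    exact hvD (l.CD h3)
  -- conjugate `k` into `S` inside `N_P(D)`
  let B : Subgroup G := P ⊓ Subgroup.normalizer (D : Set G)
  have hSB : (S : Subgroup G) ≤ B := by
    intro s hs
    refine ⟨l.SP hs, Subgroup.mem_normalizer_iff.2 ?_⟩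
    exact fun d => (norm_iff (fun d hd => h.Dn hs hd) d).symm
  have hk2 : IsPGroup 2 (Subgroup.zpowers k) := by
    rintro ⟨g, n, rfl⟩
    refine ⟨1, Subtype.ext ?_⟩
    show (k ^ n) ^ 2 ^ 1 = 1
    rw [pow_one, ← zpow_natCast, ← zpow_mul, mul_comm, zpow_mul]
    have : k ^ ((2 : ℕ) : ℤ) = 1 := by
      rw [zpow_natCast, pow_two, hkk]
    rw [this, one_zpow]
  have hkB : Subgroup.zpowers k ≤ B := by
    rw [Subgroup.zpowers_le]
    refine ⟨hkP, Subgroup.mem_normalizer_iff.2 ?_⟩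
    exact fun d => (norm_iff hkD d).symm
  obtain ⟨g, hg, hgk⟩ := exists_conj_le S hSB hkB hk2
  have hgk' := hgk k (Subgroup.mem_zpowers k)
  have hgP : g ∈ P := hg.1
  have hgD : ∀ d, g * d * g⁻¹ ∈ D ↔ d ∈ D := fun d => ((Subgroup.mem_normalizer_iff.1 hg.2) d).symm
  set m := g * p with hm
  have hmP : m ∈ P := mul_mem hgP hp
  have hme : g * k * g⁻¹ = m * y * m⁻¹ := by rw [hk, hm]; group
  rw [hme] at hgk'
  have hmF : Amb.Fld (S : Subgroup G) S0 (m * y * m⁻¹) := by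
    have hsq : m * y * m⁻¹ * (m * y * m⁻¹) = 1 := by
      calc m * y * m⁻¹ * (m * y * m⁻¹) = m * (y * y) * m⁻¹ := by group
        _ = 1 := by rw [hy1]; group
    refine ⟨hgk', by rw [hsq]; exact one_mem _, fun hc => hy.not ?_⟩
    have h1 := (l.LS _ hgk').2 hc
    have h2 := l.PL _ (inv_mem hmP) _ h1
    have e : m⁻¹ * (m * y * m⁻¹) * m⁻¹⁻¹ = y := by group
    rw [e] at h2
    exact (l.LS _ hy.mem).1 h2
  obtain ⟨s, hs, hsy⟩ := h.conj_inv hmF (by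
    calc m * y * m⁻¹ * (m * y * m⁻¹) = m * (y * y) * m⁻¹ := by group
      _ = 1 := by rw [hy1]; group) hy hy1
  have hsS := h.S0_le hs
  refine ⟨s * m, mul_mem (l.SP hsS) hmP, ?_, ?_⟩
  · calc s * m * y = (s * (m * y * m⁻¹) * s⁻¹) * (s * m) := by group
      _ = _ := by rw [hsy]
  · by_contra hc
    push Not at hc
    have h1 := norm_iff hc v
    apply hvD
    rw [← h1, hm]
    have e : s * (g * p) * v * (s * (g * p))⁻¹ = s * (g * (p * v * p⁻¹) * g⁻¹) * s⁻¹ := by group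
    rw [e]
    exact h.Dn hsS ((hgD _).2 hpv)

/-- **`O₂(C_G(y)) ∩ S₀ = 1`.** -/
theorem disj (h : Amb (S : Subgroup G) S0 D Q) {P L C : Bool → Subgroup G}
    (l : ∀ i, Lin (S : Subgroup G) S0 D (Q i) (P i) (L i) (C i))
    (hC : ∀ c, (∀ i, c ∈ C i) → c = 1) {y : G}
    (hy : Amb.Fld (S : Subgroup G) S0 y) (hy1 : y * y = 1) {R : Subgroup G}
    (hRn : ∀ g, g * y = y * g → ∀ r ∈ R, g * r * g⁻¹ ∈ R) (hR2 : IsPGroup 2 R) {e : G}
    (he : e ∈ R) (he0 : e ∈ S0) : e = 1 := by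
  -- `R ∩ S₀ ≤ Q_i`
  have key : ∀ i, ∀ e ∈ R, e ∈ S0 → e ∈ Q i := by
    intro i e he he0
    by_contra heQ
    obtain ⟨c, hcP, hcy, hcD⟩ := (l i).exists_move h hy hy1
    have hcR := hRn c hcy e he
    have heP : e ∈ P i := (l i).SP (h.S0_le he0)
    obtain ⟨g, hg, hgT⟩ := exists_conj_le S (H := P i) (l i).SP (T := R ⊓ P i) inf_le_right
      (hR2.to_le inf_le_left)
    have h1 := hgT e ⟨he, heP⟩
    have h2 := hgT (c * e * c⁻¹) (Subgroup.mem_inf.2 ⟨hcR, mul_mem (mul_mem hcP heP) (inv_mem hcP)⟩)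
    have heL : e ∈ L i := ((l i).LS e (h.S0_le he0)).2 he0
    have h1' : g * e * g⁻¹ ∈ S0 := ((l i).LS _ h1).1 ((l i).PL g hg e heL)
    have h2' : g * (c * e * c⁻¹) * g⁻¹ ∈ S0 :=
      ((l i).LS _ h2).1 ((l i).PL g hg _ ((l i).PL c hcP e heL))
    have h3 := (l i).norm_of_mem h hg he0 heQ h1'
    have h4 : ∀ d ∈ D, (g * c) * d * (g * c)⁻¹ ∈ D := by
      refine (l i).norm_of_mem h (mul_mem hg hcP) he0 heQ ?_
      have e2 : g * c * e * (g * c)⁻¹ = g * (c * e * c⁻¹) * g⁻¹ := by group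
      rw [e2]
      exact h2'
    obtain ⟨d, hd, hcd⟩ := hcD
    apply hcd
    rw [← norm_iff h3]
    have e2 : g * (c * d * c⁻¹) * g⁻¹ = g * c * d * (g * c)⁻¹ := by group
    rw [e2]
    exact h4 d hd
  refine hC e fun i => ?_
  have heD : e ∈ D := h.memD (key false e he he0) (key true e he he0)
  obtain ⟨c, hcP, hcy, hcD⟩ := (l i).exists_move h hy hy1
  refine (l i).line c hcP hcD e heD ?_
  have h1 : c * e * c⁻¹ ∈ S0 := h.Q_le i ((l i).PQ c hcP e (h.D_le i heD))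
  have h2 := hRn c hcy e he
  exact h.memD (key false _ h2 h1) (key true _ h2 h1)

end Lines

end Cfsg.Agent.Omega.CloseA

end

section


/-!
# Field automorphisms in the closings of type `L₃(q)`, `Sp₄(q)`: the contradiction
-/

set_option autoImplicit false

namespace Cfsg.Agent.Omega.CloseA

variable {G : Type*} [Group G]

theorem CT.self {y : G} {R : Subgroup G} (h : CT y R) : y ∈ R :=
  h.cen y rfl fun r hr => (h.le r hr).symm

theorem CT.map {y : G} {R : Subgroup G} (h : CT y R) (g : G) :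
    CT (g * y * g⁻¹) (R.map (MulAut.conj g).toMonoidHom) := by
  have hc : ∀ {x : G}, x * (g * y * g⁻¹) = g * y * g⁻¹ * x →
      g⁻¹ * x * g * y = y * (g⁻¹ * x * g) := by
    intro x hx
    calc g⁻¹ * x * g * y = g⁻¹ * (x * (g * y * g⁻¹)) * g := by group
      _ = g⁻¹ * (g * y * g⁻¹ * x) * g := by rw [hx]
      _ = _ := by group
  have hc' : ∀ {x : G}, x * y = y * x → g * x * g⁻¹ * (g * y * g⁻¹) = g * y * g⁻¹ * (g * x * g⁻¹) := by
    intro x hx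
    calc g * x * g⁻¹ * (g * y * g⁻¹) = g * (x * y) * g⁻¹ := by group
      _ = g * (y * x) * g⁻¹ := by rw [hx]
      _ = _ := by group
  refine ⟨?_, ?_, isPGroup_map' h.two g, ?_, ?_⟩
  · rintro _ ⟨r, hr, rfl⟩
    exact hc' (h.le r hr)
  · intro x hx r hr
    rw [mem_map_conj] at hr ⊢
    have := h.nrm _ (hc hx) _ hr
    have e : g⁻¹ * (x * r * x⁻¹) * g = g⁻¹ * x * g * (g⁻¹ * r * g) * (g⁻¹ * x * g)⁻¹ := by group
    rw [e]
    exact this
  · intro x hx hr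
    rw [mem_map_conj]
    refine h.cen _ (hc hx) fun r hr' => ?_
    have h1 := hr (g * r * g⁻¹) (mem_map_conj.2 (by
      have e : g⁻¹ * (g * r * g⁻¹) * g = r := by group
      rwa [e]))
    calc g⁻¹ * x * g * r = g⁻¹ * (x * (g * r * g⁻¹)) * g := by group
      _ = g⁻¹ * (g * r * g⁻¹ * x) * g := by rw [h1]
      _ = _ := by group
  · intro K hK hKn hK2 k hk
    rw [mem_map_conj]
    refine h.max (K.map (MulAut.conj g⁻¹).toMonoidHom) ?_ ?_ (isPGroup_map' hK2 _) ?_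
    · rintro _ ⟨k, hk, rfl⟩
      have := hc (hK k hk)
      show g⁻¹ * k * g⁻¹⁻¹ * y = y * (g⁻¹ * k * g⁻¹⁻¹)
      rwa [inv_inv]
    · intro x hx t ht
      rw [mem_map_conj, inv_inv] at ht ⊢
      have := hKn _ (hc' hx) _ ht
      have e : g * (x * t * x⁻¹) * g⁻¹ = g * x * g⁻¹ * (g * t * g⁻¹) * (g * x * g⁻¹)⁻¹ := by group
      rw [e]
      exact this
    · rw [mem_map_conj, inv_inv]
      have e : g * (g⁻¹ * k * g) * g⁻¹ = k := by group
      rwa [e]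

section

variable [Finite G] {S : Sylow 2 G} {S0 D : Subgroup G} {Q : Bool → Subgroup G}

/-- The subgroup `C_{S₀}(y)`. -/
def E0 (S0 : Subgroup G) (y : G) : Subgroup G := S0 ⊓ Subgroup.centralizer ({y} : Set G)

omit [Finite G] in
theorem mem_E0 {y x : G} : x ∈ E0 S0 y ↔ x ∈ S0 ∧ x * y = y * x := by
  rw [E0, Subgroup.mem_inf, Subgroup.mem_centralizer_singleton_iff]

theorem isPGroup_sup {y : G} {R T : Subgroup G} (hR : CT y R) (hT : IsPGroup 2 T)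
    (hTy : ∀ t ∈ T, t * y = y * t) : IsPGroup 2 (T ⊔ R : Subgroup G) := by
  refine IsPGroup.to_sup_of_normal_right' hT hR.two fun t ht => ?_
  rw [Subgroup.mem_normalizer_iff]
  exact fun r => (norm_iff (fun r hr => hR.nrm t (hTy t ht) r hr) r).symm

omit [Finite G] in
theorem sup_comm {y : G} {R T : Subgroup G} (hR : CT y R)
    (hTy : ∀ t ∈ T, t * y = y * t) : ∀ t ∈ T ⊔ R, t * y = y * t := by
  have h1 : T ⊔ R ≤ Subgroup.centralizer ({y} : Set G) :=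
    sup_le (fun t ht => Subgroup.mem_centralizer_singleton_iff.2 (hTy t ht))
      fun r hr => Subgroup.mem_centralizer_singleton_iff.2 (hR.le r hr)
  exact fun t ht => Subgroup.mem_centralizer_singleton_iff.1 (h1 ht)

/-- The result of step (2): `u = kyk⁻¹ ∈ D`. -/
structure Ext (S : Subgroup G) (S0 D R : Subgroup G) (y k : G) (R' : Subgroup G) : Prop where
  mem : k * y * k⁻¹ ∈ D
  ct : CT (k * y * k⁻¹) R'
  le : R' ≤ S
  iff : ∀ x, k * x * k⁻¹ ∈ R' ↔ x ∈ R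
  fix : ∀ x ∈ S0, x * y = y * x → k * x * k⁻¹ ∈ S
  disj : ∀ x ∈ R, x ∈ S0 → x = 1
  comm : ∀ x ∈ S0, x * (k * y * k⁻¹) = k * y * k⁻¹ * x
  not_le : ∃ a ∈ R', a ∈ S0 ∧ a ∉ D

theorem exists_ext (h : Amb (S : Subgroup G) S0 D Q) {P L C : Bool → Subgroup G}
    (l : ∀ i, Lin (S : Subgroup G) S0 D (Q i) (P i) (L i) (C i))
    (hC : ∀ c, (∀ i, c ∈ C i) → c = 1) {y : G}
    (hy : Amb.Fld (S : Subgroup G) S0 y) (hy1 : y * y = 1) {R : Subgroup G} (hR : CT y R) :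
    ∃ k R', Ext (S : Subgroup G) S0 D R y k R' := by
  have hne : ∀ i, ∃ a ∈ Q i, a ∉ D := fun i => by
    obtain ⟨a, ha, haD, -⟩ := h.exists_fix hy hy1 i
    exact ⟨a, ha, haD⟩
  have hS02 : IsPGroup 2 S0 := S.isPGroup'.to_le h.S0_le
  have hE2 : IsPGroup 2 (E0 S0 y) := hS02.to_le inf_le_left
  have hEy : ∀ t ∈ E0 S0 y, t * y = y * t := fun t ht => (mem_E0.1 ht).2
  have hdis : ∀ x ∈ R, x ∈ S0 → x = 1 := fun x hx hx0 => disj h l hC hy hy1 hR.nrm hR.two hx hx0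
  -- the first conjugate
  obtain ⟨g, hg, -⟩ := exists_extr S hR.two hR.le
  have hR' := hR.map g
  have hR'S : R.map (MulAut.conj g).toMonoidHom ≤ (S : Subgroup G) := by
    rintro _ ⟨r, hr, rfl⟩
    exact hg r hr
  set u1 := g * y * g⁻¹ with hu1
  set R1 := R.map (MulAut.conj g).toMonoidHom with hR1
  have hu1S : u1 ∈ (S : Subgroup G) := hR'S hR'.self
  have hsq : ∀ x : G, x * y * x⁻¹ * (x * y * x⁻¹) = 1 := by
    intro x
    calc x * y * x⁻¹ * (x * y * x⁻¹) = x * (y * y) * x⁻¹ := by group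
      _ = 1 := by rw [hy1]; group
  have hu10 : u1 ∈ S0 := by
    by_contra hc
    have hF : Amb.Fld (S : Subgroup G) S0 u1 := ⟨hu1S, by rw [hu1, hsq]; exact one_mem _, hc⟩
    have hd1 : ∀ x ∈ R1, x ∈ S0 → x = 1 := fun x hx hx0 =>
      disj h l hC hF (hsq g) hR'.nrm hR'.two hx hx0
    obtain ⟨a, ha, haD, hau⟩ := h.exists_fix hF (hsq g) false
    have ha0 := h.Q_le _ ha
    have haR : a ∈ R1 := by
      refine hR'.cen a hau.symm fun r hr => ?_
      have h1 : a * r * a⁻¹ * r⁻¹ ∈ R1 := mul_mem (hR'.nrm a hau.symm r hr) (inv_mem hr)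
      have h2 : a * r * a⁻¹ * r⁻¹ ∈ S0 := by
        have e : a * r * a⁻¹ * r⁻¹ = a * (r * a⁻¹ * r⁻¹) := by group
        rw [e]
        exact mul_mem ha0 (h.S0n (hR'S hr) (inv_mem ha0))
      have h3 := hd1 _ h1 h2
      rw [mul_inv_eq_one, mul_inv_eq_iff_eq_mul] at h3
      exact h3
    have := hd1 a haR ha0
    exact haD (this ▸ one_mem _)
  -- move it into `D`
  obtain ⟨i, hi⟩ : ∃ i, u1 ∈ Q i := by
    rcases h.mem_or hu10 (hsq g) with h1 | h1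
    · exact ⟨_, h1⟩
    · exact ⟨_, h1⟩
  obtain ⟨p, -, hpD⟩ := (l i).cov u1 hi
  have hu2 : p * u1 * p⁻¹ = (p * g) * y * (p * g)⁻¹ := by rw [hu1]; group
  rw [hu2] at hpD
  have hR2 := hR.map (p * g)
  have hcomm2 : ∀ x ∈ S0, x * ((p * g) * y * (p * g)⁻¹) = (p * g) * y * (p * g)⁻¹ * x :=
    fun x hx => h.central hx hpD
  obtain ⟨g2, hg2, hE2'⟩ := exists_extr S (isPGroup_sup hR2 hS02 hcomm2) (sup_comm hR2 hcomm2)
  obtain ⟨hgD, hgS⟩ := h.weak hne (g := g2) fun x hx => hg2 x (Subgroup.mem_sup_left hx)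
  have hu3 : g2 * ((p * g) * y * (p * g)⁻¹) * g2⁻¹ = (g2 * p * g) * y * (g2 * p * g)⁻¹ := by group
  have huD := hgD _ hpD
  rw [hu3] at hE2' huD
  set k0 := g2 * p * g with hk0
  have hR3 := hR.map k0
  set R3 := R.map (MulAut.conj k0).toMonoidHom with hR3e
  have hR3S : R3 ≤ (S : Subgroup G) := by
    intro r hr
    rw [hR3e, mem_map_conj] at hr
    have h1 : g2⁻¹ * r * g2 ∈ R.map (MulAut.conj (p * g)).toMonoidHom := by
      rw [mem_map_conj]
      have e : (p * g)⁻¹ * (g2⁻¹ * r * g2) * (p * g) = k0⁻¹ * r * k0 := by rw [hk0]; group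
      rwa [e]
    have h2 := hg2 _ (Subgroup.mem_sup_right h1)
    have e : g2 * (g2⁻¹ * r * g2) * g2⁻¹ = r := by group
    rwa [e] at h2
  -- conjugate `C_{S₀}(y)` into `S`
  have hT2 : IsPGroup 2 ((E0 S0 y).map (MulAut.conj k0).toMonoidHom) := isPGroup_map' hE2 _
  have hTu : ∀ t ∈ (E0 S0 y).map (MulAut.conj k0).toMonoidHom,
      t * (k0 * y * k0⁻¹) = k0 * y * k0⁻¹ * t := by
    rintro _ ⟨t, ht, rfl⟩
    show k0 * t * k0⁻¹ * (k0 * y * k0⁻¹) = k0 * y * k0⁻¹ * (k0 * t * k0⁻¹)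
    calc k0 * t * k0⁻¹ * (k0 * y * k0⁻¹) = k0 * (t * y) * k0⁻¹ := by group
      _ = k0 * (y * t) * k0⁻¹ := by rw [hEy t ht]
      _ = _ := by group
  obtain ⟨c, hcu, hcT⟩ := hE2' _ hT2 hTu
  have hcy : (c * k0) * y * (c * k0)⁻¹ = k0 * y * k0⁻¹ := by
    calc (c * k0) * y * (c * k0)⁻¹ = (c * (k0 * y * k0⁻¹)) * c⁻¹ := by group
      _ = _ := by rw [hcu]; group
  have hiff : ∀ x, (c * k0) * x * (c * k0)⁻¹ ∈ R3 ↔ x ∈ R := by
    intro x
    have h1 : c * (k0 * x * k0⁻¹) * c⁻¹ ∈ R3 ↔ k0 * x * k0⁻¹ ∈ R3 :=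
      norm_iff (fun r hr => hR3.nrm c hcu r hr) _
    have e1 : (c * k0) * x * (c * k0)⁻¹ = c * (k0 * x * k0⁻¹) * c⁻¹ := by group
    rw [e1, h1, hR3e, mem_map_conj]
    have e2 : k0⁻¹ * (k0 * x * k0⁻¹) * k0 = x := by group
    rw [e2]
  refine ⟨c * k0, R3, ⟨by rw [hcy]; exact huD, by rw [hcy]; exact hR3, hR3S, hiff, ?_, hdis, ?_, ?_⟩⟩
  · intro x hx hxy
    have := hcT _ ⟨x, mem_E0.2 ⟨hx, hxy⟩, rfl⟩
    have e1 : (c * k0) * x * (c * k0)⁻¹ = c * (k0 * x * k0⁻¹) * c⁻¹ := by group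
    rw [e1]
    exact this
  · intro x hx
    rw [hcy]
    exact h.central hx huD
  · by_contra hc
    push Not at hc
    have hS0u : ∀ x ∈ S0, x * (k0 * y * k0⁻¹) = k0 * y * k0⁻¹ * x := fun x hx => h.central hx huD
    have hRD : R3 ≤ D := by
      intro r hr
      have hr0 : r ∈ S0 := by
        refine h.faith false r (hR3S hr) fun a ha => ?_
        have ha0 := h.Q_le _ ha
        have h1 : r * a * r⁻¹ * a⁻¹ ∈ R3 := by
          have e : r * a * r⁻¹ * a⁻¹ = r * (a * r⁻¹ * a⁻¹) := by group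
          rw [e]
          exact mul_mem hr (hR3.nrm a (hS0u a ha0) _ (inv_mem hr))
        have h2 : r * a * r⁻¹ * a⁻¹ ∈ S0 := mul_mem (h.S0n (hR3S hr) ha0) (inv_mem ha0)
        have h3 := hc _ h1 h2
        rwa [h.inv_eq ha] at h3
      exact hc r hr hr0
    obtain ⟨a, ha, haD⟩ := hne false
    have ha0 := h.Q_le _ ha
    exact haD (hRD (hR3.cen a (hS0u a ha0) fun r hr => h.central ha0 (hRD hr)))

/-- There are two independent fixed elements in `Q_i / D`. -/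
def Big (S S0 D : Subgroup G) (Q : Bool → Subgroup G) : Prop :=
  ∀ f, Amb.Fld S S0 f → ∀ i, ∃ a ∈ Q i, ∃ b ∈ Q i, f * a * f⁻¹ * a ∈ D ∧ f * b * f⁻¹ * b ∈ D ∧
    a ∉ D ∧ b ∉ D ∧ a * b ∉ D

omit [Finite G] in
/-- `D ≤ O₂(C_G(u))` is impossible for `r > 2`. -/
theorem Ext.not_D_le (h : Amb (S : Subgroup G) S0 D Q) {y k : G} {R R' : Subgroup G}
    (hE : Ext (S : Subgroup G) S0 D R y k R') (hy : Amb.Fld (S : Subgroup G) S0 y)
    (hy1 : y * y = 1) (hb : Big (S : Subgroup G) S0 D Q) (hD : D ≤ R') : False := by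
  have key : ∀ i, ∃ a ∈ Q i, a ∉ D ∧ k * a * k⁻¹ ∈ S0 := by
    intro i
    obtain ⟨a0, ha0, b0, hb0, hfa, hfb, haD, hbD, habD⟩ := hb y hy i
    obtain ⟨d, hd, hda⟩ := h.lift_fix hy hy1 ha0 hfa
    obtain ⟨e, he, heb⟩ := h.lift_fix hy hy1 hb0 hfb
    have ha := mul_mem ha0 (h.D_le i hd)
    have hb := mul_mem hb0 (h.D_le i he)
    have haD' : a0 * d ∉ D := fun hc => haD ((D.mul_mem_cancel_right hd).1 hc)
    have hbD' : b0 * e ∉ D := fun hc => hbD ((D.mul_mem_cancel_right he).1 hc)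
    have habD' : a0 * d * (b0 * e) ∉ D := by
      intro hc
      apply habD
      have e1 : a0 * d * (b0 * e) = a0 * b0 * (d * e) := by
        calc a0 * d * (b0 * e) = a0 * (d * b0) * e := by group
          _ = a0 * (b0 * d) * e := by rw [h.mulD hb0 hd]
          _ = _ := by group
      rw [e1] at hc
      exact (D.mul_mem_cancel_right (mul_mem hd he)).1 hc
    set a := a0 * d with hae
    set b := b0 * e with hbe
    have hka := hE.fix a (h.Q_le i ha) hda.symm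
    have hkb := hE.fix b (h.Q_le i hb) heb.symm
    by_cases h1 : k * a * k⁻¹ ∈ S0
    · exact ⟨a, ha, haD', h1⟩
    · by_cases h2 : k * b * k⁻¹ ∈ S0
      · exact ⟨b, hb, hbD', h2⟩
      · refine ⟨a * b, mul_mem ha hb, habD', ?_⟩
        have hsq : ∀ x ∈ Q i, k * x * k⁻¹ * (k * x * k⁻¹) ∈ S0 := by
          intro x hx
          have e1 : k * x * k⁻¹ * (k * x * k⁻¹) = k * (x * x) * k⁻¹ := by group
          rw [e1, h.sq i x hx]
          simp
        have h3 := h.cyc _ hka _ hkb (hsq a ha) (hsq b hb) h1 h2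
        have e1 : k * (a * b) * k⁻¹ = k * a * k⁻¹ * (k * b * k⁻¹) := by group
        rw [e1]
        exact h3
  obtain ⟨a, ha, haD, hka⟩ := key false
  obtain ⟨b, hb, hbD, hkb⟩ := key true
  have h1 := h.comm_mem0 hka hkb
  have h2 : k * (a * b * a⁻¹ * b⁻¹) * k⁻¹ ∈ R' := by
    apply hD
    have e1 : k * (a * b * a⁻¹ * b⁻¹) * k⁻¹ =
        k * a * k⁻¹ * (k * b * k⁻¹) * (k * a * k⁻¹)⁻¹ * (k * b * k⁻¹)⁻¹ := by group
    rw [e1]
    exact h1
  rw [hE.iff] at h2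
  have h3 := hE.disj _ h2 (h.D_le0 (h.comm_mem ha (i := false) hb))
  rw [mul_inv_eq_one, mul_inv_eq_iff_eq_mul] at h3
  rcases h.cen a ha b hb h3 with h4 | h4
  · exact haD h4
  · exact hbD h4

omit [Finite G] in
/-- Type `L₃`: `D ≤ O₂(C_G(u))`. -/
theorem Ext.D_le_three (h : Amb (S : Subgroup G) S0 D Q) {y k : G} {R R' : Subgroup G}
    (hE : Ext (S : Subgroup G) S0 D R y k R')
    (sur : ∀ i, ∀ a ∈ Q i, a ∉ D → ∀ d ∈ D, ∃ b ∈ Q (!i), a * b * a⁻¹ * b⁻¹ = d) : D ≤ R' := by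
  obtain ⟨a, haR, ha0, haD⟩ := hE.not_le
  obtain ⟨i, hai⟩ : ∃ i, a ∉ Q i := by
    by_contra hc
    push Not at hc
    exact haD ((h.inf a).2 hc)
  obtain ⟨b, hb, c, hc, rfl⟩ := h.dec i ha0
  have hcD : c ∉ D := fun hcD => hai (mul_mem hb (h.D_le _ hcD))
  intro d hd
  obtain ⟨e, he, hce⟩ := sur (!i) c hc hcD d hd
  rw [Bool.not_not] at he
  have he0 := h.Q_le _ he
  have h1 : b * c * (e * (b * c)⁻¹ * e⁻¹) ∈ R' :=
    mul_mem haR (hE.ct.nrm e (hE.comm e he0) _ (inv_mem haR))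
  have h2 : b * c * (e * (b * c)⁻¹ * e⁻¹) = d := by
    have h3 : c * e = d * e * c := by
      rw [← hce]; group
    have h4 : b * e = e * b := h.comm hb he
    calc b * c * (e * (b * c)⁻¹ * e⁻¹) = b * (c * e) * c⁻¹ * b⁻¹ * e⁻¹ := by group
      _ = (b * d) * e * b⁻¹ * e⁻¹ := by rw [h3]; group
      _ = d * (b * e) * b⁻¹ * e⁻¹ := by rw [h.mulD hb hd]; group
      _ = d := by rw [h4]; group
  rwa [h2] at h1

omit [Finite G] in
/-- An element of `R' - S₀` gives `f ∈ R' ∩ S - S₀` with `f² ∈ S₀`. -/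
theorem exists_fld {R' : Subgroup G} (hR : R' ≤ (S : Subgroup G))
    (hn : ¬ R' ≤ S0) : ∃ f ∈ R', Amb.Fld (S : Subgroup G) S0 f := by
  obtain ⟨g, hg, hg0⟩ := SetLike.not_le_iff_exists.1 hn
  have h1 : ∃ n : ℕ, g ^ 2 ^ n ∈ S0 := by
    obtain ⟨n, hn⟩ := S.isPGroup' ⟨g, hR hg⟩
    refine ⟨n, ?_⟩
    have : g ^ 2 ^ n = 1 := congrArg Subtype.val hn
    rw [this]
    exact one_mem _
  classical
  have h2 := Nat.find_spec h1
  have h3 : Nat.find h1 ≠ 0 := by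
    intro hc
    rw [hc, pow_zero, pow_one] at h2
    exact hg0 h2
  obtain ⟨m, hm⟩ := Nat.exists_eq_succ_of_ne_zero h3
  have h4 : g ^ 2 ^ m ∉ S0 := Nat.find_min h1 (by omega)
  refine ⟨g ^ 2 ^ m, pow_mem hg _, pow_mem (hR hg) _, ?_, h4⟩
  rw [hm] at h2
  rw [← pow_add, ← two_mul, ← pow_succ']
  exact h2

omit [Finite G] in
/-- Elements of `[f, Q_i]`, `f ∈ R'`, lie in `R'`. -/
theorem Ext.comm_mem {y k : G} {R R' : Subgroup G}
    (hE : Ext (S : Subgroup G) S0 D R y k R') {f x : G} (hf : f ∈ R') (hx : x ∈ S0) :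
    f * x * f⁻¹ * x⁻¹ ∈ R' := by
  have e : f * x * f⁻¹ * x⁻¹ = f * (x * f⁻¹ * x⁻¹) := by group
  rw [e]
  exact mul_mem hf (hE.ct.nrm x (hE.comm x hx) _ (inv_mem hf))

omit [Finite G] in
/-- Fixed elements of `Q_i / D` are represented in `R'` if `R'` contains `f`. -/
theorem Ext.exists_rep (h : Amb (S : Subgroup G) S0 D Q) {y k : G} {R R' : Subgroup G}
    (hE : Ext (S : Subgroup G) S0 D R y k R') {f : G} (hf : f ∈ R')
    (hF : Amb.Fld (S : Subgroup G) S0 f) {i : Bool} {a : G} (ha : a ∈ Q i)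
    (hfa : f * a * f⁻¹ * a ∈ D) : ∃ n ∈ R', n ∈ Q i ∧ n * a ∈ D := by
  obtain ⟨e, he, hea⟩ := h.frQ f hF.mem hF.sq hF.not i a ha hfa
  have h1 := hE.comm_mem hf (h.Q_le i he)
  rw [h.inv_eq he] at h1
  exact ⟨_, h1, mul_mem (h.Qn i f hF.mem e he) he, hea⟩

omit [Finite G] in
/-- Type `Sp₄`, `r > 2`: `D ≤ O₂(C_G(u))`. -/
theorem Ext.D_le_four (h : Amb (S : Subgroup G) S0 D Q) {y k : G} {R R' : Subgroup G}
    (hE : Ext (S : Subgroup G) S0 D R y k R') (hb : Big (S : Subgroup G) S0 D Q)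
    (sp : ∀ a ∈ Q false, ∀ b ∈ Q false, a ∉ D → b ∉ D → a * b ∉ D → ∀ d ∈ D,
      ∃ v ∈ Q true, ∃ w ∈ Q true, (a * v * a⁻¹ * v⁻¹) * (b * w * b⁻¹ * w⁻¹) = d) : D ≤ R' := by
  by_cases hR : R' ≤ S0
  · exact fun d hd => hE.ct.cen d (hE.comm d (h.D_le0 hd)) fun r hr => (h.central (hR hr) hd).symm
  · obtain ⟨f, hf, hF⟩ := exists_fld hE.le hR
    obtain ⟨a, ha, b, hb', hfa, hfb, haD, hbD, habD⟩ := hb f hF false
    obtain ⟨n, hn, hnQ, hna⟩ := hE.exists_rep h hf hF ha hfa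
    obtain ⟨m, hm, hmQ, hmb⟩ := hE.exists_rep h hf hF hb' hfb
    have hnD : n ∉ D := fun hc => haD ((D.mul_mem_cancel_left hc).1 hna)
    have hmD : m ∉ D := fun hc => hbD ((D.mul_mem_cancel_left hc).1 hmb)
    have hnmD : n * m ∉ D := by
      intro hc
      apply habD
      have e1 : n * m * (a * b) = (n * a) * (m * b) := by
        calc n * m * (a * b) = n * (m * a) * b := by group
          _ = n * (a * m) * b := by rw [h.comm hmQ ha]
          _ = _ := by group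
      have h2 : n * m * (a * b) ∈ D := by
        rw [e1]
        exact mul_mem hna hmb
      exact (D.mul_mem_cancel_left hc).1 h2
    intro d hd
    obtain ⟨v, hv, w, hw, e⟩ := sp n hnQ m hmQ hnD hmD hnmD d hd
    rw [← e]
    exact mul_mem (hE.comm_mem hn (h.Q_le _ hv)) (hE.comm_mem hm (h.Q_le _ hw))

/-- Characteristic 2 type at the involutions of `S - S₀`. -/
def CTs (S S0 : Subgroup G) : Prop :=
  ∀ y ∈ S, y ∉ S0 → y * y = 1 → ∃ R, CT y R

/-- **Type `L₃`, `r > 2`: `S = S₀`.** -/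
theorem close_three (h : Amb (S : Subgroup G) S0 D Q) {P L C : Bool → Subgroup G}
    (l : ∀ i, Lin (S : Subgroup G) S0 D (Q i) (P i) (L i) (C i))
    (hC : ∀ c, (∀ i, c ∈ C i) → c = 1) (hct : CTs (S : Subgroup G) S0)
    (hb : Big (S : Subgroup G) S0 D Q)
    (sur : ∀ i, ∀ a ∈ Q i, a ∉ D → ∀ d ∈ D, ∃ b ∈ Q (!i), a * b * a⁻¹ * b⁻¹ = d) :
    (S : Subgroup G) = S0 := by
  by_contra hne
  have hn : ¬ (S : Subgroup G) ≤ S0 := fun hc => hne (le_antisymm hc h.S0_le)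
  obtain ⟨f, -, hF⟩ := exists_fld le_rfl hn
  obtain ⟨y, hy, hy1⟩ := h.exists_inv hF
  obtain ⟨R, hR⟩ := hct y hy.mem hy.not hy1
  obtain ⟨k, R', hE⟩ := exists_ext h l hC hy hy1 hR
  exact hE.not_D_le h hy hy1 hb (hE.D_le_three h sur)

/-- **Type `Sp₄`, `r > 2`: `S = S₀`.** -/
theorem close_four (h : Amb (S : Subgroup G) S0 D Q) {P L C : Bool → Subgroup G}
    (l : ∀ i, Lin (S : Subgroup G) S0 D (Q i) (P i) (L i) (C i))
    (hC : ∀ c, (∀ i, c ∈ C i) → c = 1) (hct : CTs (S : Subgroup G) S0)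
    (hb : Big (S : Subgroup G) S0 D Q)
    (sp : ∀ a ∈ Q false, ∀ b ∈ Q false, a ∉ D → b ∉ D → a * b ∉ D → ∀ d ∈ D,
      ∃ v ∈ Q true, ∃ w ∈ Q true, (a * v * a⁻¹ * v⁻¹) * (b * w * b⁻¹ * w⁻¹) = d) :
    (S : Subgroup G) = S0 := by
  by_contra hne
  have hn : ¬ (S : Subgroup G) ≤ S0 := fun hc => hne (le_antisymm hc h.S0_le)
  obtain ⟨f, -, hF⟩ := exists_fld le_rfl hn
  obtain ⟨y, hy, hy1⟩ := h.exists_inv hF
  obtain ⟨R, hR⟩ := hct y hy.mem hy.not hy1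
  obtain ⟨k, R', hE⟩ := exists_ext h l hC hy hy1 hR
  exact hE.not_D_le h hy hy1 hb (hE.D_le_four h hb sp)

end

end Cfsg.Agent.Omega.CloseA

end

section


/-!
# Field automorphisms in the closings of type `L₃(q)`, `Sp₄(q)`: the case `Sp₄(4)`
-/

set_option autoImplicit false

namespace Cfsg.Agent.Omega.CloseA

variable {G : Type*} [Group G]

theorem relIndex_mul {X Y : Subgroup G} (hXY : X ≤ Y) :
    X.relIndex Y * Nat.card X = Nat.card Y := by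
  rw [Subgroup.relIndex, ← Nat.card_congr (Subgroup.subgroupOfEquivOfLe hXY).toEquiv]
  exact Subgroup.index_mul_card _

variable [Finite G]

theorem relIndex_ne_zero' (X Y : Subgroup G) : X.relIndex Y ≠ 0 := by
  rw [Subgroup.relIndex]
  exact Subgroup.index_ne_zero_of_finite

theorem two_mul_le {X Y : Subgroup G} (hXY : X ≤ Y) {a : G} (ha : a ∈ Y) (haX : a ∉ X) :
    2 * Nat.card X ≤ Nat.card Y := by
  rw [← relIndex_mul hXY]
  refine Nat.mul_le_mul_right _ ?_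
  have h1 := relIndex_ne_zero' X Y
  have h2 : X.relIndex Y ≠ 1 := fun h => haX ((Subgroup.relIndex_eq_one.1 h) ha)
  omega

theorem four_mul_le {X Y : Subgroup G} (hXY : X ≤ Y) (h2 : IsPGroup 2 Y) {a b : G} (ha : a ∈ Y)
    (haX : a ∉ X) (hb : b ∈ Y) (hbX : b ∉ X) (habX : a * b ∉ X) :
    4 * Nat.card X ≤ Nat.card Y := by
  rw [← relIndex_mul hXY]
  refine Nat.mul_le_mul_right _ ?_
  have h1 := relIndex_ne_zero' X Y
  have h3 : X.relIndex Y ≠ 1 := fun h => haX ((Subgroup.relIndex_eq_one.1 h) ha)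
  have h4 : X.relIndex Y ≠ 2 := by
    intro h
    rw [Subgroup.relIndex] at h
    have h9 := (Subgroup.mul_mem_iff_of_index_two h (a := ⟨a, ha⟩) (b := ⟨b, hb⟩)).2 (by
        rw [Subgroup.mem_subgroupOf, Subgroup.mem_subgroupOf]
        exact iff_of_false haX hbX)
    exact habX (Subgroup.mem_subgroupOf.1 h9)
  obtain ⟨n, hn⟩ := h2.index (X.subgroupOf Y)
  rw [Subgroup.relIndex] at h3 h4 ⊢
  have h5 : n ≠ 0 := by
    rintro rfl
    exact h3 (by rw [hn]; norm_num)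
  have h6 : n ≠ 1 := by
    rintro rfl
    exact h4 (by rw [hn]; norm_num)
  rw [hn]
  calc 4 = 2 ^ 2 := by norm_num
    _ ≤ 2 ^ n := Nat.pow_le_pow_right (by norm_num) (by omega)

theorem card_mul_le {A B S : Subgroup G} (hA : A ≤ S) (hB : B ≤ S)
    (h : ∀ x ∈ A, x ∈ B → x = 1) : Nat.card A * Nat.card B ≤ Nat.card S := by
  rw [← Nat.card_prod]
  refine Nat.card_le_card_of_injective (fun p : A × B => (⟨p.1 * p.2,
    mul_mem (hA p.1.2) (hB p.2.2)⟩ : S)) ?_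
  rintro ⟨a, b⟩ ⟨a', b'⟩ hab
  have h1 : (a : G) * b = a' * b' := congrArg Subtype.val hab
  have h2 : (a' : G)⁻¹ * a = b' * (b : G)⁻¹ := by
    rw [inv_mul_eq_iff_eq_mul, ← mul_assoc, ← h1, mul_assoc, mul_inv_cancel, mul_one]
  have h3 := h ((a' : G)⁻¹ * a) (mul_mem (inv_mem a'.2) a.2)
    (by rw [h2]; exact mul_mem b'.2 (inv_mem b.2))
  have h4 : (a : G) = a' := by
    rw [inv_mul_eq_one] at h3
    exact h3.symm
  have h5 : (b : G) = b' := by
    rw [h4] at h1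
    exact mul_left_cancel h1
  exact Prod.ext (Subtype.ext h4) (Subtype.ext h5)

variable {S : Sylow 2 G} {S0 D : Subgroup G} {Q : Bool → Subgroup G}

/-- The fixed points of `f` on `D`. -/
def CD (D : Subgroup G) (f : G) : Subgroup G := D ⊓ Subgroup.centralizer ({f} : Set G)

omit [Finite G] in
theorem mem_CD {f d : G} : d ∈ CD D f ↔ d ∈ D ∧ d * f = f * d := by
  rw [CD, Subgroup.mem_inf, Subgroup.mem_centralizer_singleton_iff]

/-- `|C_{S₀}(y)| ≥ 4 |C_D(y)|`. -/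
theorem card_E0 (h : Amb (S : Subgroup G) S0 D Q) {y : G} (hy : Amb.Fld (S : Subgroup G) S0 y)
    (hy1 : y * y = 1) : 4 * Nat.card (CD D y) ≤ Nat.card (E0 S0 y) := by
  obtain ⟨a, ha, haD, hya⟩ := h.exists_fix hy hy1 false
  obtain ⟨b, hb, hbD, hyb⟩ := h.exists_fix hy hy1 true
  have hE2 : IsPGroup 2 (E0 S0 y) := (S.isPGroup'.to_le h.S0_le).to_le inf_le_left
  refine four_mul_le (a := a) (b := b) ?_ hE2 (mem_E0.2 ⟨h.Q_le _ ha, hya.symm⟩) ?_
    (mem_E0.2 ⟨h.Q_le _ hb, hyb.symm⟩) ?_ ?_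
  · intro d hd
    rw [mem_CD] at hd
    exact mem_E0.2 ⟨h.D_le0 hd.1, hd.2⟩
  · exact fun hc => haD (mem_CD.1 hc).1
  · exact fun hc => hbD (mem_CD.1 hc).1
  · intro hc
    have h1 := (mem_CD.1 hc).1
    apply hbD
    have h2 : b ∈ Q false := ((Q false).mul_mem_cancel_left ha).1 (h.D_le false h1)
    exact h.memD (i := false) h2 hb

/-- `|O₂(C_G(u))| |C_{S₀}(y)| ≤ |S|`. -/
theorem Ext.card_le {y k : G} {R R' : Subgroup G} (hE : Ext (S : Subgroup G) S0 D R y k R') :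
    Nat.card R' * Nat.card (E0 S0 y) ≤ Nat.card (S : Subgroup G) := by
  have h1 : Nat.card ((E0 S0 y).map (MulAut.conj k).toMonoidHom) = Nat.card (E0 S0 y) :=
    (Nat.card_congr ((E0 S0 y).equivMapOfInjective (MulAut.conj k).toMonoidHom
        (MulAut.conj k).injective).toEquiv).symm
  rw [← h1]
  refine card_mul_le hE.le ?_ ?_
  · rintro _ ⟨x, hx, rfl⟩
    exact hE.fix x (mem_E0.1 hx).1 (mem_E0.1 hx).2
  · rintro _ hx' ⟨x, hx, rfl⟩
    have h2 : x = 1 := hE.disj x ((hE.iff x).1 hx') (mem_E0.1 hx).1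
    rw [h2]
    simp

/-- Numbers for `q = 4`. -/
structure Num (S S0 D : Subgroup G) (Q : Bool → Subgroup G) : Prop where
  cS : Nat.card S ≤ 512
  cQ : ∀ i, Nat.card (Q i) = 64
  cD : Nat.card D = 16
  cC : ∀ f, Amb.Fld S S0 f → Nat.card (CD D f) = 4

theorem Ext.card_le' (h : Amb (S : Subgroup G) S0 D Q) (hn : Num (S : Subgroup G) S0 D Q) {y k : G}
    {R R' : Subgroup G} (hE : Ext (S : Subgroup G) S0 D R y k R')
    (hy : Amb.Fld (S : Subgroup G) S0 y) (hy1 : y * y = 1) : Nat.card R' ≤ 32 := by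
  have h1 := hE.card_le
  have h2 := card_E0 h hy hy1
  rw [hn.cC y hy] at h2
  have h3 := hn.cS
  have h4 : Nat.card R' * 16 ≤ Nat.card R' * Nat.card (E0 S0 y) := Nat.mul_le_mul_left _ h2
  omega

/-- The case `R' ≰ S₀`. -/
theorem Ext.false_of_not_le (h : Amb (S : Subgroup G) S0 D Q) (hn : Num (S : Subgroup G) S0 D Q)
    {y k : G} {R R' : Subgroup G} (hE : Ext (S : Subgroup G) S0 D R y k R')
    (hy : Amb.Fld (S : Subgroup G) S0 y) (hy1 : y * y = 1) (hR : ¬ R' ≤ S0) : False := by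
  have h32 := hE.card_le' h hn hy hy1
  obtain ⟨f, hf, hF⟩ := exists_fld hE.le hR
  obtain ⟨a, ha, haD, hfa⟩ := h.fixQ f hF.mem hF.sq hF.not false
  obtain ⟨b, hb, hbD, hfb⟩ := h.fixQ f hF.mem hF.sq hF.not true
  obtain ⟨n, hnR, hnQ, hna⟩ := hE.exists_rep h hf hF ha hfa
  obtain ⟨m, hm, hmQ, hmb⟩ := hE.exists_rep h hf hF hb hfb
  have hnD : n ∉ D := fun hc => haD ((D.mul_mem_cancel_left hc).1 hna)
  have hmD : m ∉ D := fun hc => hbD ((D.mul_mem_cancel_left hc).1 hmb)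
  have hR2 : IsPGroup 2 R' := hE.ct.two
  -- `C_D(f) < R' ∩ D`
  have h1 : 2 * Nat.card (CD D f) ≤ Nat.card (R' ⊓ D : Subgroup G) := by
    obtain ⟨c, hc, hcf⟩ := h.exists_move hF true
    have hcomm : n * c * n⁻¹ * c⁻¹ ∈ R' := hE.comm_mem hnR (h.Q_le _ hc)
    have hcD : n * c * n⁻¹ * c⁻¹ ∈ D := h.comm_mem (i := false) hnQ hc
    refine two_mul_le (a := n * c * n⁻¹ * c⁻¹) ?_ (Subgroup.mem_inf.2 ⟨hcomm, hcD⟩) ?_
    · intro d hd
      rw [mem_CD] at hd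
      have h2 : f * d * f⁻¹ = d := by rw [← hd.2, mul_assoc, mul_inv_cancel, mul_one]
      obtain ⟨e, he, hed⟩ := h.frD f hF.mem hF.sq hF.not d hd.1 h2
      have h3 := hE.comm_mem hf (h.D_le0 he)
      rw [h.inv_eqD he, hed] at h3
      exact Subgroup.mem_inf.2 ⟨h3, hd.1⟩
    · intro hc'
      rw [mem_CD] at hc'
      have h2 : f * (n * c * n⁻¹ * c⁻¹) * f⁻¹ = n * c * n⁻¹ * c⁻¹ := by
        rw [← hc'.2, mul_assoc, mul_inv_cancel, mul_one]
      -- `f n f⁻¹ = e n`, `e ∈ D`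
      set e := f * n * f⁻¹ * n⁻¹ with he
      have heD : e ∈ D := by
        have h3 : e * (f * (n * a) * f⁻¹)⁻¹ = (n * a)⁻¹ * (a * (f * a * f⁻¹)⁻¹) := by
          have h4 : n⁻¹ * (f * (n * a) * f⁻¹)⁻¹ = (f * (n * a) * f⁻¹)⁻¹ * n⁻¹ :=
            h.comm (i := false) (inv_mem hnQ)
              (inv_mem (h.Qn _ f hF.mem _ (mul_mem hnQ ha)))
          have h5 : f * n * f⁻¹ * (f * (n * a) * f⁻¹)⁻¹ = (f * a * f⁻¹)⁻¹ := by
            have h6 : f * (n * a) * f⁻¹ = (f * a * f⁻¹) * (f * n * f⁻¹) := by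
              rw [h.comm (i := false) hnQ ha]; group
            rw [h6]; group
          calc e * (f * (n * a) * f⁻¹)⁻¹ = f * n * f⁻¹ * (n⁻¹ * (f * (n * a) * f⁻¹)⁻¹) := by
                rw [he]; group
            _ = (f * n * f⁻¹ * (f * (n * a) * f⁻¹)⁻¹) * n⁻¹ := by rw [h4]; group
            _ = (f * a * f⁻¹)⁻¹ * n⁻¹ := by rw [h5]
            _ = n⁻¹ * (f * a * f⁻¹)⁻¹ :=
                h.comm (i := false) (inv_mem (h.Qn _ f hF.mem _ ha)) (inv_mem hnQ)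
            _ = (n * a)⁻¹ * (a * (f * a * f⁻¹)⁻¹) := by
                rw [h.comm (i := false) hnQ ha]; group
        have h7 : a * (f * a * f⁻¹)⁻¹ ∈ D := by
          have h8 : a * (f * a * f⁻¹)⁻¹ = (f * a * f⁻¹ * a)⁻¹ := by
            rw [mul_inv_rev (f * a * f⁻¹) a, h.inv_eq ha]
          rw [h8]
          exact inv_mem hfa
        have h9 : e * (f * (n * a) * f⁻¹)⁻¹ ∈ D := by
          rw [h3]
          exact mul_mem (inv_mem hna) h7
        exact (D.mul_mem_cancel_right (inv_mem (h.Dn hF.mem hna))).1 h9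
      have h3 : f * n * f⁻¹ = e * n := by rw [he]; group
      have h4 : f * (n * c * n⁻¹ * c⁻¹) * f⁻¹ =
          n * (f * c * f⁻¹) * n⁻¹ * (f * c * f⁻¹)⁻¹ := by
        have hfc : f * c * f⁻¹ ∈ S0 := h.S0n hF.mem (h.Q_le _ hc)
        calc f * (n * c * n⁻¹ * c⁻¹) * f⁻¹ =
            (f * n * f⁻¹) * (f * c * f⁻¹) * (f * n * f⁻¹)⁻¹ * (f * c * f⁻¹)⁻¹ := by group
          _ = (e * n) * (f * c * f⁻¹) * (e * n)⁻¹ * (f * c * f⁻¹)⁻¹ := by rw [h3]
          _ = e * (n * (f * c * f⁻¹) * n⁻¹) * e⁻¹ * (f * c * f⁻¹)⁻¹ := by group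
          _ = (n * (f * c * f⁻¹) * n⁻¹ * e) * e⁻¹ * (f * c * f⁻¹)⁻¹ := by
              rw [h.central (mul_mem (mul_mem (h.Q_le _ hnQ) hfc) (inv_mem (h.Q_le _ hnQ))) heD]
          _ = _ := by group
      rw [h4] at h2
      -- `[n, f c f⁻¹] = [n, c]`, so `n` commutes with `c⁻¹ (f c f⁻¹)`
      have hfc : f * c * f⁻¹ ∈ Q true := h.Qn _ f hF.mem _ hc
      have h5 : n * (c⁻¹ * (f * c * f⁻¹)) = c⁻¹ * (f * c * f⁻¹) * n := by
        have h6 : n * (f * c * f⁻¹) * n⁻¹ = (n * c * n⁻¹ * c⁻¹) * (f * c * f⁻¹) := by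
          rw [← h2]; group
        have h7 : n * c⁻¹ * n⁻¹ = (n * c * n⁻¹)⁻¹ := by group
        have h8 : n * (c⁻¹ * (f * c * f⁻¹)) * n⁻¹ = c⁻¹ * (f * c * f⁻¹) := by
          calc n * (c⁻¹ * (f * c * f⁻¹)) * n⁻¹ = (n * c⁻¹ * n⁻¹) * (n * (f * c * f⁻¹) * n⁻¹) := by
                group
            _ = (n * c * n⁻¹)⁻¹ * ((n * c * n⁻¹ * c⁻¹) * (f * c * f⁻¹)) := by rw [h7, h6]
            _ = _ := by group
        rwa [mul_inv_eq_iff_eq_mul] at h8
      rcases h.cen n hnQ _ (mul_mem (inv_mem hc) hfc) h5 with h6 | h6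
      · exact hnD h6
      · apply hcf
        rw [h.inv_eq hc, h.comm hc hfc] at h6
        exact h6
  -- `4 |R' ∩ D| ≤ |R' ∩ S₀|`
  have h2 : 4 * Nat.card (R' ⊓ D : Subgroup G) ≤ Nat.card (R' ⊓ S0 : Subgroup G) := by
    refine four_mul_le (a := n) (b := m) (inf_le_inf_left _ h.D_le0) (hR2.to_le inf_le_left)
      (Subgroup.mem_inf.2 ⟨hnR, h.Q_le _ hnQ⟩) (fun hc => hnD (Subgroup.mem_inf.1 hc).2)
      (Subgroup.mem_inf.2 ⟨hm, h.Q_le _ hmQ⟩) (fun hc => hmD (Subgroup.mem_inf.1 hc).2) ?_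
    intro hc
    have h3 := (Subgroup.mem_inf.1 hc).2
    apply hmD
    have h4 : m ∈ Q false := ((Q false).mul_mem_cancel_left hnQ).1 (h.D_le false h3)
    exact h.memD (i := false) h4 hmQ
  have h3 : 2 * Nat.card (R' ⊓ S0 : Subgroup G) ≤ Nat.card R' :=
    two_mul_le inf_le_left hf fun hc => hF.not (Subgroup.mem_inf.1 hc).2
  rw [hn.cC f hF] at h1
  omega

/-- The case `R' ≤ S₀`. -/
theorem Ext.false_of_le (h : Amb (S : Subgroup G) S0 D Q) (hn : Num (S : Subgroup G) S0 D Q)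
    {y k : G} {R R' : Subgroup G} (hE : Ext (S : Subgroup G) S0 D R y k R')
    (hy : Amb.Fld (S : Subgroup G) S0 y) (hy1 : y * y = 1) (hR : R' ≤ S0) : False := by
  have h32 := hE.card_le' h hn hy hy1
  have hD : D ≤ R' := fun d hd =>
    hE.ct.cen d (hE.comm d (h.D_le0 hd)) fun r hr => (h.central (hR hr) hd).symm
  obtain ⟨a, haR, ha0, haD⟩ := hE.not_le
  -- the index of `D` in `R'` is two
  have hrel : D.relIndex R' = 2 := by
    have h1 := relIndex_mul hD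
    rw [hn.cD] at h1
    have h2 := relIndex_ne_zero' D R'
    have h3 : D.relIndex R' ≠ 1 := fun hc => haD ((Subgroup.relIndex_eq_one.1 hc) haR)
    omega
  have hdec : ∀ r ∈ R', r ∈ D ∨ ∃ d ∈ D, r = a * d := by
    intro r hr
    by_cases hrD : r ∈ D
    · exact Or.inl hrD
    · right
      rw [Subgroup.relIndex] at hrel
      have h9 := (Subgroup.mul_mem_iff_of_index_two hrel (a := (⟨a, haR⟩ : R')⁻¹)
        (b := ⟨r, hr⟩)).2 (by
          rw [inv_mem_iff, Subgroup.mem_subgroupOf, Subgroup.mem_subgroupOf]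
          exact iff_of_false haD hrD)
      refine ⟨a⁻¹ * r, Subgroup.mem_subgroupOf.1 h9, by group⟩
  by_cases haa : a * a = 1
  · -- `R' ≤ Q_i`
    obtain ⟨i, hi⟩ : ∃ i, a ∈ Q i := by
      rcases h.mem_or ha0 haa with h1 | h1
      · exact ⟨_, h1⟩
      · exact ⟨_, h1⟩
    have hRQ : R' ≤ Q i := by
      intro r hr
      rcases hdec r hr with h1 | ⟨d, hd, rfl⟩
      · exact h.D_le i h1
      · exact mul_mem hi (h.D_le i hd)
    have hQR : Q i ≤ R' := fun x hx =>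
      hE.ct.cen x (hE.comm x (h.Q_le i hx)) fun r hr => h.comm hx (hRQ hr)
    have h1 := Subgroup.card_le_of_le hQR
    rw [hn.cQ i] at h1
    omega
  · -- `D = {t ∈ R' : t² = 1}`
    have hDc : ∀ t ∈ R', t ∈ D ↔ t * t = 1 := by
      intro t ht
      refine ⟨fun hc => h.sq false t (h.D_le _ hc), fun hc => ?_⟩
      rcases hdec t ht with h1 | ⟨d, hd, rfl⟩
      · exact h1
      · exfalso
        apply haa
        have h2 : a * d = d * a := h.central ha0 hd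
        calc a * a = a * (d * d) * a := by rw [h.sq false d (h.D_le _ hd), mul_one]
          _ = (a * d) * (d * a) := by group
          _ = 1 := by rw [← h2]; exact hc
    set u := k * y * k⁻¹ with hu
    -- the group of `g ∈ C_G(u)` centralising `D` and `R' / D`
    let K : Subgroup G :=
      { carrier := {g | g * u = u * g ∧ (∀ d ∈ D, g * d = d * g) ∧ g * a * g⁻¹ * a⁻¹ ∈ D}
        one_mem' := ⟨by simp, fun d _ => by simp, by simp⟩
        mul_mem' := by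
          rintro x y ⟨hx, hx', hx''⟩ ⟨hy, hy', hy''⟩
          refine ⟨?_, fun d hd => ?_, ?_⟩
          · rw [mul_assoc, hy, ← mul_assoc, hx, mul_assoc]
          · rw [mul_assoc, hy' d hd, ← mul_assoc, hx' d hd, mul_assoc]
          · have e : x * y * a * (x * y)⁻¹ * a⁻¹ =
                x * (y * a * y⁻¹ * a⁻¹) * x⁻¹ * (x * a * x⁻¹ * a⁻¹) := by group
            rw [e]
            refine mul_mem ?_ hx''
            rw [hx' _ hy'', mul_assoc, mul_inv_cancel, mul_one]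
            exact hy''
        inv_mem' := by
          rintro x ⟨hx, hx', hx''⟩
          refine ⟨?_, fun d hd => ?_, ?_⟩
          · calc x⁻¹ * u = x⁻¹ * (u * x) * x⁻¹ := by group
              _ = x⁻¹ * (x * u) * x⁻¹ := by rw [hx]
              _ = u * x⁻¹ := by group
          · have := hx' d hd
            calc x⁻¹ * d = x⁻¹ * (d * x) * x⁻¹ := by group
              _ = x⁻¹ * (x * d) * x⁻¹ := by rw [this]
              _ = d * x⁻¹ := by group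
          · have h1 := hx' _ hx''
            have e : x⁻¹ * a * x⁻¹⁻¹ * a⁻¹ = x⁻¹ * (x * a * x⁻¹ * a⁻¹)⁻¹ * x := by group
            have h2 : (x * a * x⁻¹ * a⁻¹)⁻¹ * x = x * (x * a * x⁻¹ * a⁻¹)⁻¹ :=
              (hx' _ (inv_mem hx'')).symm
            rw [e, mul_assoc, h2, ← mul_assoc, inv_mul_cancel, one_mul]
            exact inv_mem hx'' }
    have hKmem : ∀ {g : G}, g ∈ K ↔ g * u = u * g ∧ (∀ d ∈ D, g * d = d * g) ∧
        g * a * g⁻¹ * a⁻¹ ∈ D := Iff.rfl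
    have hKR : K ≤ R' := by
      refine hE.ct.max K (fun g hg => (hKmem.1 hg).1) ?_ ?_
      · intro g hg x hx
        obtain ⟨hx1, hx2, hx3⟩ := hKmem.1 hx
        replace hg : g * u = u * g := hg
        have hg' : g⁻¹ * u = u * g⁻¹ := by
          calc g⁻¹ * u = g⁻¹ * (u * g) * g⁻¹ := by group
            _ = g⁻¹ * (g * u) * g⁻¹ := by rw [hg]
            _ = u * g⁻¹ := by group
        have hRn := hE.ct.nrm g hg
        have hRn' := hE.ct.nrm g⁻¹ hg'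
        have hDn : ∀ {v : G}, v * u = u * v → ∀ d ∈ D, v * d * v⁻¹ ∈ D := by
          intro v hv d hd
          rw [hDc _ (hE.ct.nrm v hv d (hD hd))]
          calc v * d * v⁻¹ * (v * d * v⁻¹) = v * (d * d) * v⁻¹ := by group
            _ = 1 := by rw [h.sq false d (h.D_le _ hd)]; group
        refine hKmem.2 ⟨?_, ?_, ?_⟩
        · calc g * x * g⁻¹ * u = g * x * (g⁻¹ * u) := by group
            _ = g * (x * u) * g⁻¹ := by rw [hg']; group
            _ = (g * u) * x * g⁻¹ := by rw [hx1]; group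
            _ = _ := by rw [hg]; group
        · intro d hd
          have h1 := hDn hg' d hd
          rw [inv_inv] at h1
          have h2 := hx2 _ h1
          calc g * x * g⁻¹ * d = g * (x * (g⁻¹ * d * g)) * g⁻¹ := by group
            _ = g * ((g⁻¹ * d * g) * x) * g⁻¹ := by rw [h2]
            _ = _ := by group
        · -- `g⁻¹ a g = a d`
          have h1 := hRn' a haR
          rw [inv_inv] at h1
          have h2 : g⁻¹ * a * g ∉ D := by
            intro hc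
            apply haD
            have h3 := hDn hg _ hc
            have e : g * (g⁻¹ * a * g) * g⁻¹ = a := by group
            rwa [e] at h3
          rcases hdec _ h1 with h3 | ⟨d, hd, h3⟩
          · exact absurd h3 h2
          · have h4 : x * (g⁻¹ * a * g) * x⁻¹ * (g⁻¹ * a * g)⁻¹ = x * a * x⁻¹ * a⁻¹ := by
              rw [h3]
              have h5 := hx2 d hd
              calc x * (a * d) * x⁻¹ * (a * d)⁻¹ = x * a * (d * x⁻¹) * d⁻¹ * a⁻¹ := by group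
                _ = x * a * (x⁻¹ * d) * d⁻¹ * a⁻¹ := by
                    have h6 : d * x⁻¹ = x⁻¹ * d := by
                      calc d * x⁻¹ = x⁻¹ * (x * d) * x⁻¹ := by group
                        _ = x⁻¹ * (d * x) * x⁻¹ := by rw [h5]
                        _ = _ := by group
                    rw [h6]
                _ = _ := by group
            have e : g * x * g⁻¹ * a * (g * x * g⁻¹)⁻¹ * a⁻¹ =
                g * (x * (g⁻¹ * a * g) * x⁻¹ * (g⁻¹ * a * g)⁻¹) * g⁻¹ := by group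
            rw [e, h4]
            exact hDn hg _ hx3
      · -- `K` is a 2-group
        rintro ⟨g, hg⟩
        obtain ⟨hg1, hg2, hg3⟩ := hKmem.1 hg
        have h1 : g * g ∈ R' := by
          refine hE.ct.cen _ ?_ ?_
          · rw [mul_assoc, hg1, ← mul_assoc, hg1, mul_assoc]
          · -- `g²` centralises `a`
            set c := g * a * g⁻¹ * a⁻¹ with hc
            have h4 : g * a * g⁻¹ = c * a := by rw [hc]; group
            have h5 := hg2 _ hg3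
            have h6 : g * g * a = a * (g * g) := by
              have h7 : g * g * a * (g * g)⁻¹ = a := by
                calc g * g * a * (g * g)⁻¹ = g * (g * a * g⁻¹) * g⁻¹ := by group
                  _ = (g * c) * a * g⁻¹ := by rw [h4]; group
                  _ = c * (g * a * g⁻¹) := by rw [h5]; group
                  _ = (c * c) * a := by rw [h4]; group
                  _ = a := by rw [h.sq false c (h.D_le _ hg3), one_mul]
              rwa [mul_inv_eq_iff_eq_mul] at h7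
            intro r hr
            rcases hdec r hr with h8 | ⟨d, hd, rfl⟩
            · rw [mul_assoc, hg2 r h8, ← mul_assoc, hg2 r h8, mul_assoc]
            · have h9 : g * g * d = d * (g * g) := by
                rw [mul_assoc, hg2 d hd, ← mul_assoc, hg2 d hd, mul_assoc]
              rw [← mul_assoc, h6, mul_assoc, h9, ← mul_assoc]
        obtain ⟨n, hn'⟩ := hE.ct.two ⟨_, h1⟩
        refine ⟨n + 1, Subtype.ext ?_⟩
        show g ^ 2 ^ (n + 1) = 1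
        have h2 : (g * g) ^ 2 ^ n = 1 := congrArg Subtype.val hn'
        rw [pow_succ', pow_mul, pow_two]
        exact h2
    have h1 : S0 ≤ R' := by
      intro x hx
      refine hKR (hKmem.2 ⟨hE.comm x hx, fun d hd => h.central hx hd, h.comm_mem0 hx ha0⟩)
    have h2 := Subgroup.card_le_of_le ((h.Q_le false).trans h1)
    rw [hn.cQ false] at h2
    omega

/-- **Type `Sp₄(4)`: `S = S₀`.** -/
theorem close_four_four (h : Amb (S : Subgroup G) S0 D Q) {P L C : Bool → Subgroup G}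
    (l : ∀ i, Lin (S : Subgroup G) S0 D (Q i) (P i) (L i) (C i))
    (hC : ∀ c, (∀ i, c ∈ C i) → c = 1) (hct : CTs (S : Subgroup G) S0)
    (hn : Num (S : Subgroup G) S0 D Q) : (S : Subgroup G) = S0 := by
  by_contra hne
  have hn' : ¬ (S : Subgroup G) ≤ S0 := fun hc => hne (le_antisymm hc h.S0_le)
  obtain ⟨f, -, hF⟩ := exists_fld le_rfl hn'
  obtain ⟨y, hy, hy1⟩ := h.exists_inv hF
  obtain ⟨R, hR⟩ := hct y hy.mem hy.not hy1
  obtain ⟨k, R', hE⟩ := exists_ext h l hC hy hy1 hR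
  by_cases hR' : R' ≤ S0
  · exact hE.false_of_le h hn hy hy1 hR'
  · exact hE.false_of_not_le h hn hy hy1 hR'

end Cfsg.Agent.Omega.CloseA

end

section


/-!
# Closings of type `L₃(q)`, `Sp₄(q)`: from the coordinates `Co3`, `Co4` to `Amb`
-/

set_option autoImplicit false

namespace Cfsg.Agent.Omega.CloseA

variable {G : Type*} [Group G]

/-- A pair as a function on `Bool`. -/
def pr {α : Type*} (a b : α) : Bool → α
  | false => a
  | true => b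

@[simp] theorem pr_false {α : Type*} (a b : α) : pr a b false = a := rfl
@[simp] theorem pr_true {α : Type*} (a b : α) : pr a b true = b := rfl

/-- `S` normalises `Q₁`, `Q₂`; `S₀ = Q₁Q₂`; elements of `S` trivial on `Q_i / D` lie in `S₀`. -/
structure Ctx (S S0 D Q₁ Q₂ : Subgroup G) : Prop where
  le₁ : Q₁ ≤ S
  le₂ : Q₂ ≤ S
  n₁ : ∀ s ∈ S, ∀ a ∈ Q₁, s * a * s⁻¹ ∈ Q₁
  n₂ : ∀ s ∈ S, ∀ a ∈ Q₂, s * a * s⁻¹ ∈ Q₂
  sq₁ : ∀ u ∈ Q₁, u * u = 1
  sq₂ : ∀ u ∈ Q₂, u * u = 1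
  inf : ∀ u, u ∈ D ↔ u ∈ Q₁ ∧ u ∈ Q₂
  sup : ∀ g, g ∈ S0 ↔ ∃ a ∈ Q₁, ∃ b ∈ Q₂, g = a * b
  faith₁ : ∀ s ∈ S, (∀ a ∈ Q₁, s * a * s⁻¹ * a ∈ D) → s ∈ S0
  faith₂ : ∀ s ∈ S, (∀ a ∈ Q₂, s * a * s⁻¹ * a ∈ D) → s ∈ S0

namespace Ctx

variable {S S0 D Q₁ Q₂ : Subgroup G} {F : Type*} [Field F] {x y : G → F}

theorem D₁ (c : Ctx S S0 D Q₁ Q₂) : D ≤ Q₁ := fun u hu => ((c.inf u).1 hu).1

theorem D₂ (c : Ctx S S0 D Q₁ Q₂) : D ≤ Q₂ := fun u hu => ((c.inf u).1 hu).2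

theorem nD (c : Ctx S S0 D Q₁ Q₂) {s d : G} (hs : s ∈ S) (hd : d ∈ D) : s * d * s⁻¹ ∈ D :=
  (c.inf _).2 ⟨c.n₁ s hs d (c.D₁ hd), c.n₂ s hs d (c.D₂ hd)⟩

theorem nD' (c : Ctx S S0 D Q₁ Q₂) {s d : G} (hs : s ∈ S) (hd : s * d * s⁻¹ ∈ D) : d ∈ D := by
  have := c.nD (inv_mem hs) hd
  have e : s⁻¹ * (s * d * s⁻¹) * s⁻¹⁻¹ = d := by group
  rwa [e] at this

theorem le0 (c : Ctx S S0 D Q₁ Q₂) : S0 ≤ S := by
  intro g hg
  obtain ⟨a, ha, b, hb, rfl⟩ := (c.sup g).1 hg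
  exact mul_mem (c.le₁ ha) (c.le₂ hb)

theorem inv₁ (c : Ctx S S0 D Q₁ Q₂) {u : G} (hu : u ∈ Q₁) : u⁻¹ = u :=
  inv_eq_of_mul_eq_one_right (c.sq₁ u hu)

theorem inv₂ (c : Ctx S S0 D Q₁ Q₂) {u : G} (hu : u ∈ Q₂) : u⁻¹ = u :=
  inv_eq_of_mul_eq_one_right (c.sq₂ u hu)

theorem comm₁ (c : Ctx S S0 D Q₁ Q₂) {u v : G} (hu : u ∈ Q₁) (hv : v ∈ Q₁) : u * v = v * u := by
  have h1 := c.inv₁ (mul_mem hu hv)
  rw [mul_inv_rev, c.inv₁ hu, c.inv₁ hv] at h1
  exact h1.symm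

theorem comm₂ (c : Ctx S S0 D Q₁ Q₂) {u v : G} (hu : u ∈ Q₂) (hv : v ∈ Q₂) : u * v = v * u := by
  have h1 := c.inv₂ (mul_mem hu hv)
  rw [mul_inv_rev, c.inv₂ hu, c.inv₂ hv] at h1
  exact h1.symm

/-- `[Q₁, Q₂] ≤ D`. -/
theorem cm (c : Ctx S S0 D Q₁ Q₂) {u v : G} (hu : u ∈ Q₁) (hv : v ∈ Q₂) :
    u * v * u⁻¹ * v⁻¹ ∈ D := by
  rw [c.inf]
  constructor
  · have e : u * v * u⁻¹ * v⁻¹ = u * (v * u⁻¹ * v⁻¹) := by group
    rw [e]
    exact mul_mem hu (c.n₁ v (c.le₂ hv) _ (inv_mem hu))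
  · exact mul_mem (c.n₂ u (c.le₁ hu) _ hv) (inv_mem hv)

/-- `S₀` is trivial on `Q₁ / D` and `Q₂ / D`. -/
theorem triv₁ (c : Ctx S S0 D Q₁ Q₂) {g u : G} (hg : g ∈ S0) (hu : u ∈ Q₁) :
    g * u * g⁻¹ * u⁻¹ ∈ D := by
  obtain ⟨a, ha, b, hb, rfl⟩ := (c.sup g).1 hg
  have h1 : b * u * b⁻¹ * u⁻¹ ∈ D := by
    have e : b * u * b⁻¹ * u⁻¹ = (u * b * u⁻¹ * b⁻¹)⁻¹ := by group
    rw [e]
    exact inv_mem (c.cm hu hb)
  have e : a * b * u * (a * b)⁻¹ * u⁻¹ = a * (b * u * b⁻¹ * u⁻¹) * a⁻¹ * (a * u * a⁻¹ * u⁻¹) := by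
    group
  have e2 : a * u * a⁻¹ * u⁻¹ = 1 := by rw [c.comm₁ ha hu]; group
  rw [e, e2, mul_one]
  exact c.nD (c.le₁ ha) h1

theorem triv₂ (c : Ctx S S0 D Q₁ Q₂) {g u : G} (hg : g ∈ S0) (hu : u ∈ Q₂) :
    g * u * g⁻¹ * u⁻¹ ∈ D := by
  obtain ⟨a, ha, b, hb, rfl⟩ := (c.sup g).1 hg
  have h1 : a * u * a⁻¹ * u⁻¹ ∈ D := c.cm ha hu
  have e : a * b * u * (a * b)⁻¹ * u⁻¹ = a * (b * u * b⁻¹ * u⁻¹) * a⁻¹ * (a * u * a⁻¹ * u⁻¹) := by
    group
  have e2 : b * u * b⁻¹ * u⁻¹ = 1 := by rw [c.comm₂ hb hu]; group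
  rw [e, e2, mul_one, mul_inv_cancel, one_mul]
  exact h1

/-- Elements of `S` acting linearly on `Q₁ / D` lie in `S₀`. -/
theorem mem_of_SL [CharP F 2] (c : Ctx S S0 D Q₁ Q₂) (h2 : IsPGroup 2 S) (hx : Crd Q₁ D x)
    {s : G} (hs : s ∈ S) {k : F} (h : SL Q₁ x s k (RingHom.id F)) : s ∈ S0 := by
  have hpow : ∀ n : ℕ, SL Q₁ x (s ^ n) (k ^ n) (RingHom.id F) := by
    intro n
    induction n with
    | zero => intro u _; simp
    | succ n ih =>
      have h3 := SL.mul (c.n₁ s hs) ih h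
      rw [pow_succ, pow_succ]
      exact h3
  obtain ⟨n, hn⟩ := h2 ⟨s, hs⟩
  have hn' : s ^ 2 ^ n = 1 := congrArg Subtype.val hn
  have h4 := hpow (2 ^ n)
  rw [hn'] at h4
  obtain ⟨u, hu, hu1⟩ := hx.surj 1
  have h5 := h4 u hu
  rw [one_mul, inv_one, mul_one, hu1, map_one, mul_one] at h5
  have h6 : k = 1 := by
    have h7 : (k - 1) ^ 2 ^ n = 0 := by
      rw [sub_pow_char_pow, one_pow, ← h5, sub_self]
    exact sub_eq_zero.1 (pow_eq_zero_iff (by positivity) |>.1 h7)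
  refine c.faith₁ s hs fun a ha => ?_
  have h8 : x (s * a * s⁻¹) = x a := by rw [h a ha, h6, one_mul]; rfl
  rw [hx.eq_iff (c.n₁ s hs a ha) ha, c.inv₁ ha] at h8
  exact h8

/-- The field automorphism of an element of `S - S₀` with square in `S₀`. -/
theorem inv2₁ [CharP F 2] (c : Ctx S S0 D Q₁ Q₂) (h2 : IsPGroup 2 S) (hx : Crd Q₁ D x)
    {f : G} (hf : Amb.Fld S S0 f) {k : F} {σ : F →+* F} (h : SL Q₁ x f k σ) : Inv2 σ k := by
  have h3 := SL.mul (c.n₁ f hf.mem) h h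
  have h4 : SL Q₁ x (f * f) 1 (RingHom.id F) := by
    intro u hu
    have h5 := c.triv₁ hf.sq hu
    rw [← hx.eq_iff (c.n₁ _ (c.le0 hf.sq) u hu) hu] at h5
    rw [h5, one_mul]
    rfl
  obtain ⟨h5, h6⟩ := SL.uniq hx h4 h3 one_ne_zero
  refine ⟨fun a => ?_, ?_, h5.symm⟩
  · have := RingHom.congr_fun h6 a
    exact this.symm
  · by_contra hc
    push Not at hc
    have h7 : σ = RingHom.id F := RingHom.ext hc
    rw [h7] at h
    exact hf.not (c.mem_of_SL h2 hx hf.mem h)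

theorem inv2₂ [CharP F 2] (c : Ctx S S0 D Q₁ Q₂) (hy : Crd Q₂ D y)
    {f : G} (hf : Amb.Fld S S0 f) {k k' : F} {σ : F →+* F} (h : SL Q₂ y f k σ)
    (h1 : Inv2 σ k') : Inv2 σ k := by
  have h3 := SL.mul (c.n₂ f hf.mem) h h
  have h4 : SL Q₂ y (f * f) 1 (RingHom.id F) := by
    intro u hu
    have h5 := c.triv₂ hf.sq hu
    rw [← hy.eq_iff (c.n₂ _ (c.le0 hf.sq) u hu) hu] at h5
    rw [h5, one_mul]
    rfl
  obtain ⟨h5, -⟩ := SL.uniq hy h4 h3 one_ne_zero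
  exact ⟨h1.inv, h1.ne, h5.symm⟩

/-- Freeness of `Q / D`. -/
theorem free {V : Subgroup G} {φ : G → F} [CharP F 2] (hφ : Crd V D φ) {f : G} {k : F} {σ : F →+* F}
    (hn : ∀ u ∈ V, f * u * f⁻¹ ∈ V) (h : SL V φ f k σ) (hi : Inv2 σ k) {a : G} (ha : a ∈ V)
    (hfa : f * a * f⁻¹ * a ∈ D) : ∃ e ∈ V, f * e * f⁻¹ * e * a ∈ D := by
  rw [← hφ.ker _ (mul_mem (hn a ha) ha), hφ.mul _ (hn a ha) _ ha, h a ha] at hfa
  rw [add_eq_zero_iff_eq_neg, CharTwo.neg_eq] at hfa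
  obtain ⟨t, ht⟩ := hi.hilbert hfa
  obtain ⟨e, he, rfl⟩ := hφ.surj t
  refine ⟨e, he, ?_⟩
  rw [← hφ.ker _ (mul_mem (mul_mem (hn e he) he) ha), hφ.mul _ (mul_mem (hn e he) he) _ ha,
    hφ.mul _ (hn e he) _ he, h e he, ht, CharTwo.add_self_eq_zero]

theorem fixed {V : Subgroup G} {φ : G → F} [CharP F 2] (hφ : Crd V D φ) {f : G} {k : F}
    {σ : F →+* F} (hn : ∀ u ∈ V, f * u * f⁻¹ ∈ V) (h : SL V φ f k σ) {a : G} (ha : a ∈ V) :
    f * a * f⁻¹ * a ∈ D ↔ k * σ (φ a) = φ a := by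
  rw [← hφ.ker _ (mul_mem (hn a ha) ha), hφ.mul _ (hn a ha) _ ha, h a ha,
    add_eq_zero_iff_eq_neg, CharTwo.neg_eq]

theorem card_eq [Finite G] {V : Subgroup G} {φ : G → F} (hDV : D ≤ V) (hφ : Crd V D φ) :
    Nat.card V = Nat.card F * Nat.card D := by
  let ψ : V →* Multiplicative F :=
    { toFun := fun u => Multiplicative.ofAdd (φ u)
      map_one' := by
        change Multiplicative.ofAdd (φ ((1 : V) : G)) = 1
        rw [Subgroup.coe_one, hφ.one]; rfl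
      map_mul' := fun u v => by
        change Multiplicative.ofAdd (φ ((u : G) * v)) = _
        rw [hφ.mul u u.2 v v.2]; rfl }
  have h1 : D.subgroupOf V = ψ.ker := by
    ext u
    rw [Subgroup.mem_subgroupOf, ← hφ.ker u u.2, MonoidHom.mem_ker]
    exact Iff.rfl
  have h2 : ψ.range = ⊤ := by
    rw [MonoidHom.range_eq_top]
    intro a
    obtain ⟨u, hu, h⟩ := hφ.surj a.toAdd
    exact ⟨⟨u, hu⟩, congrArg Multiplicative.ofAdd h⟩
  have h3 := relIndex_mul hDV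
  rw [Subgroup.relIndex, h1, Subgroup.index_ker, h2, Subgroup.card_top] at h3
  exact h3.symm

/-- Assembly of `Amb`. -/
theorem amb [Finite G] [Finite F] [CharP F 2] (c : Ctx S S0 D Q₁ Q₂) (h2 : IsPGroup 2 S)
    (hx : Crd Q₁ D x) (hy : Crd Q₂ D y)
    (sl : ∀ s ∈ S, ∃ (σ : F →+* F) (k l : F), SL Q₁ x s k σ ∧ SL Q₂ y s l σ)
    (cen : ∀ a ∈ Q₁, ∀ b ∈ Q₂, a * b = b * a → a ∈ D ∨ b ∈ D)
    (frD : ∀ f, Amb.Fld S S0 f → ∀ d ∈ D, f * d * f⁻¹ = d → ∃ e ∈ D, f * e * f⁻¹ * e = d) :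
    Amb S S0 D (pr Q₁ Q₂) where
  QS := by rintro (_ | _); exacts [c.le₁, c.le₂]
  Qn := by rintro (_ | _); exacts [c.n₁, c.n₂]
  sq := by rintro (_ | _); exacts [c.sq₁, c.sq₂]
  inf u := by
    rw [c.inf]
    constructor
    · rintro ⟨h3, h4⟩ (_ | _)
      exacts [h3, h4]
    · intro h; exact ⟨h false, h true⟩
  sup := c.sup
  cen := cen
  faith := by rintro (_ | _); exacts [c.faith₁, c.faith₂]
  cyc := by
    intro s hs t ht hss htt hs0 ht0
    obtain ⟨σ, k, -, h3, -⟩ := sl s hs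
    obtain ⟨τ, l, -, h4, -⟩ := sl t ht
    have hi := c.inv2₁ h2 hx ⟨hs, hss, hs0⟩ h3
    have hi' := c.inv2₁ h2 hx ⟨ht, htt, ht0⟩ h4
    have h5 : σ = τ := invol_unique hi.inv hi'.inv hi.ne hi'.ne
    subst h5
    have h6 := SL.mul (c.n₁ t ht) h3 h4
    have h7 : σ.comp σ = RingHom.id F := RingHom.ext hi.inv
    rw [h7] at h6
    exact c.mem_of_SL h2 hx (mul_mem hs ht) h6
  frD f h3 h4 h5 := frD f ⟨h3, h4, h5⟩
  frQ := by
    intro f h3 h4 h5 i
    have hF : Amb.Fld S S0 f := ⟨h3, h4, h5⟩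
    obtain ⟨σ, k, l, hk, hl⟩ := sl f h3
    have hi := c.inv2₁ h2 hx hF hk
    have hi' := c.inv2₂ hy hF hl hi
    cases i
    · exact fun a ha hfa => free hx (c.n₁ f h3) hk hi ha hfa
    · exact fun a ha hfa => free hy (c.n₂ f h3) hl hi' ha hfa
  fixQ := by
    intro f h3 h4 h5 i
    have hF : Amb.Fld S S0 f := ⟨h3, h4, h5⟩
    obtain ⟨σ, k, l, hk, hl⟩ := sl f h3
    have hi := c.inv2₁ h2 hx hF hk
    have hi' := c.inv2₂ hy hF hl hi
    cases i
    · obtain ⟨a, ha, hfa⟩ := hi.exists_fix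
      obtain ⟨u, hu, rfl⟩ := hx.surj a
      exact ⟨u, hu, fun hc => ha ((hx.ker u hu).2 hc), (fixed hx (c.n₁ f h3) hk hu).2 hfa⟩
    · obtain ⟨a, ha, hfa⟩ := hi'.exists_fix
      obtain ⟨u, hu, rfl⟩ := hy.surj a
      exact ⟨u, hu, fun hc => ha ((hy.ker u hu).2 hc), (fixed hy (c.n₂ f h3) hl hu).2 hfa⟩
  card := by
    show Nat.card Q₁ = Nat.card Q₂
    rw [card_eq c.D₁ hx, card_eq c.D₂ hy]

/-- `Big` for `|F| > 4`. -/
theorem big [Finite F] [CharP F 2] (c : Ctx S S0 D Q₁ Q₂) (h2 : IsPGroup 2 S)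
    (hx : Crd Q₁ D x) (hy : Crd Q₂ D y)
    (sl : ∀ s ∈ S, ∃ (σ : F →+* F) (k l : F), SL Q₁ x s k σ ∧ SL Q₂ y s l σ)
    (hF : 4 < Nat.card F) : Big S S0 D (pr Q₁ Q₂) := by
  intro f hf i
  obtain ⟨σ, k, l, hk, hl⟩ := sl f hf.mem
  have hi := c.inv2₁ h2 hx hf hk
  have hi' := c.inv2₂ hy hf hl hi
  cases i
  · obtain ⟨a, b, ha, hb, hab, hfa, hfb⟩ := hi.exists_big hF
    obtain ⟨u, hu, rfl⟩ := hx.surj a
    obtain ⟨v, hv, rfl⟩ := hx.surj b
    refine ⟨u, hu, v, hv, (fixed hx (c.n₁ f hf.mem) hk hu).2 hfa,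
      (fixed hx (c.n₁ f hf.mem) hk hv).2 hfb, fun hc => ha ((hx.ker u hu).2 hc),
      fun hc => hb ((hx.ker v hv).2 hc), fun hc => hab ?_⟩
    rw [← hx.mul u hu v hv]
    exact (hx.ker _ (mul_mem hu hv)).2 hc
  · obtain ⟨a, b, ha, hb, hab, hfa, hfb⟩ := hi'.exists_big hF
    obtain ⟨u, hu, rfl⟩ := hy.surj a
    obtain ⟨v, hv, rfl⟩ := hy.surj b
    refine ⟨u, hu, v, hv, (fixed hy (c.n₂ f hf.mem) hl hu).2 hfa,
      (fixed hy (c.n₂ f hf.mem) hl hv).2 hfb, fun hc => ha ((hy.ker u hu).2 hc),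
      fun hc => hb ((hy.ker v hv).2 hc), fun hc => hab ?_⟩
    rw [← hy.mul u hu v hv]
    exact (hy.ker _ (mul_mem hu hv)).2 hc

end Ctx

end Cfsg.Agent.Omega.CloseA

end

section


/-!
# Closings of type `L₃(q)`, `Sp₄(q)`: there are no field automorphisms in `S`

`close3` : type `L₃(F)`: `S = S₀` or `|F| = 4`;  `close4` : type `Sp₄(F)`: `S = S₀`.
-/

set_option autoImplicit false

namespace Cfsg.Agent.Omega.CloseA

variable {G : Type*} [Group G] {F : Type*} [Field F]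

theorem Inv2.four_le [Finite F] {σ : F →+* F} {c : F} (h : Inv2 σ c) : 4 ≤ Nat.card F := by
  have _ : Fintype F := Fintype.ofFinite F
  classical
  obtain ⟨a, ha⟩ := h.ne
  have a0 : a ≠ 0 := by rintro rfl; simp at ha
  have a1 : a ≠ 1 := by rintro rfl; simp at ha
  have s0 : σ a ≠ 0 := fun hc => a0 (by rw [← h.inv a, hc, map_zero])
  have s1 : σ a ≠ 1 := fun hc => a1 (by rw [← h.inv a, hc, map_one])
  have h1 : ({0, 1, a, σ a} : Finset F).card = 4 := by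
    rw [Finset.card_insert_of_notMem, Finset.card_insert_of_notMem, Finset.card_insert_of_notMem,
      Finset.card_singleton]
    · rw [Finset.mem_singleton]; exact ha.symm
    · simp only [Finset.mem_insert, Finset.mem_singleton, not_or]; exact ⟨a1.symm, s1.symm⟩
    · simp only [Finset.mem_insert, Finset.mem_singleton, not_or]
      exact ⟨zero_ne_one, a0.symm, s0.symm⟩
  rw [Nat.card_eq_fintype_card, ← h1]
  exact Finset.card_le_univ _

section Three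

variable {S S0 D Q₁ Q₂ : Subgroup G} {x y z : G → F}

theorem Co3.charP (h : Co3 Q₁ Q₂ D x y z) : CharP F 2 := by
  obtain ⟨u, hu, hu1⟩ := h.x_surj 1
  have h1 := h.x_mul u hu u hu
  have h2 := h.x_mul 1 (one_mem _) 1 (one_mem _)
  rw [one_mul] at h2
  have h3 : x 1 = 0 := by linear_combination - h2
  rw [h.sq₁ u hu, h3, hu1] at h1
  exact CharTwo.of_one_ne_zero_of_two_eq_zero one_ne_zero (by linear_combination - h1)

theorem Co3.hx (h : Co3 Q₁ Q₂ D x y z) : Crd Q₁ D x := ⟨h.x_mul, h.x_surj, h.x_ker⟩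

theorem Co3.hy (h : Co3 Q₁ Q₂ D x y z) : Crd Q₂ D y := ⟨h.y_mul, h.y_surj, h.y_ker⟩

theorem Co3.hz (h : Co3 Q₁ Q₂ D x y z) : Crd D ⊥ z := by
  refine ⟨h.z_mul, h.z_surj, fun u hu => ⟨fun h0 => Subgroup.mem_bot.2 (h.z_inj u hu h0), ?_⟩⟩
  intro h0
  rw [Subgroup.mem_bot.1 h0]
  have h2 := h.z_mul 1 (one_mem _) 1 (one_mem _)
  rw [one_mul] at h2
  linear_combination - h2

theorem Co3.cen (h : Co3 Q₁ Q₂ D x y z) {a b : G} (ha : a ∈ Q₁) (hb : b ∈ Q₂)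
    (hab : a * b = b * a) : a ∈ D ∨ b ∈ D := by
  have h1 := h.com a ha b hb
  have e : a * b * a⁻¹ * b⁻¹ = 1 := by rw [hab]; group
  rw [e, h.hz.one] at h1
  rcases mul_eq_zero.1 h1.symm with h2 | h2
  · exact Or.inl ((h.x_ker a ha).1 h2)
  · exact Or.inr ((h.y_ker b hb).1 h2)

/-- The action of `S`. -/
theorem Co3.exists_sl (h : Co3 Q₁ Q₂ D x y z) (c : Ctx S S0 D Q₁ Q₂) {s : G} (hs : s ∈ S) :
    ∃ (σ : F →+* F) (k l : F), SL Q₁ x s k σ ∧ SL Q₂ y s l σ ∧ SL D z s (k * l) σ := by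
  obtain ⟨A, hA⟩ := h.hx.exists_push (c.n₁ s hs) fun u hu => c.nD hs hu
  obtain ⟨B, hB⟩ := h.hy.exists_push (c.n₂ s hs) fun u hu => c.nD hs hu
  obtain ⟨C, hC⟩ := h.hz.exists_push (s := s) (fun u hu => c.nD hs hu) (fun u hu => by
    rw [Subgroup.mem_bot.1 hu]; simp)
  have hA1 := h.hx.push_ne (c.n₁ s hs) (fun u hu => c.nD' hs hu) hA
  have hB1 := h.hy.push_ne (c.n₂ s hs) (fun u hu => c.nD' hs hu) hB
  obtain ⟨σ, h1, h2, h3⟩ := exists_semi (A := A) (B := B) (C := C) hA1 hB1 fun a b => by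
    obtain ⟨u, hu, rfl⟩ := h.x_surj a
    obtain ⟨v, hv, rfl⟩ := h.y_surj b
    rw [← h.com u hu v hv, ← hC _ (h.mem u hu v hv), ← hA u hu, ← hB v hv,
      ← h.com _ (c.n₁ s hs u hu) _ (c.n₂ s hs v hv)]
    congr 1
    group
  exact ⟨σ, A 1, B 1, fun u hu => by rw [hA u hu, h1], fun u hu => by rw [hB u hu, h2],
    fun u hu => by rw [hC u hu, h3]⟩

theorem Inv2.mul {σ : F →+* F} {k l : F} (h : Inv2 σ k) (h' : Inv2 σ l) : Inv2 σ (k * l) :=
  ⟨h.inv, h.ne, by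
    rw [map_mul]
    calc k * l * (σ k * σ l) = (k * σ k) * (l * σ l) := by ring
      _ = 1 := by rw [h.c1, h'.c1, one_mul]⟩

theorem Co3.amb [Finite G] [Finite F] (h : Co3 Q₁ Q₂ D x y z) (c : Ctx S S0 D Q₁ Q₂)
    (h2 : IsPGroup 2 S) : Amb S S0 D (pr Q₁ Q₂) := by
  have _ := h.charP
  refine c.amb h2 h.hx h.hy ?_ (fun a ha b hb hab => h.cen ha hb hab) ?_
  · intro s hs
    obtain ⟨σ, k, l, h3, h4, -⟩ := h.exists_sl c hs
    exact ⟨σ, k, l, h3, h4⟩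
  · intro f hf d hd hfd
    obtain ⟨σ, k, l, h3, h4, h5⟩ := h.exists_sl c hf.mem
    have hi := c.inv2₁ h2 h.hx hf h3
    have hi' := hi.mul (c.inv2₂ h.hy hf h4 hi)
    have h6 : k * l * σ (z d) = z d := by rw [← h5 d hd, hfd]
    obtain ⟨t, ht⟩ := hi'.hilbert h6
    obtain ⟨e, he, rfl⟩ := h.z_surj t
    refine ⟨e, he, ?_⟩
    have hfe := c.nD hf.mem he
    have h7 : z (f * e * f⁻¹ * e) = z d := by
      rw [h.z_mul _ hfe _ he, h5 e he, ht]
    rw [h.hz.eq_iff (mul_mem hfe he) hd] at h7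
    exact mul_inv_eq_one.1 (Subgroup.mem_bot.1 h7)

theorem Co3.sur (h : Co3 Q₁ Q₂ D x y z) (c : Ctx S S0 D Q₁ Q₂) (i : Bool) {a d : G}
    (ha : a ∈ pr Q₁ Q₂ i) (haD : a ∉ D) (hd : d ∈ D) :
    ∃ b ∈ pr Q₁ Q₂ (!i), a * b * a⁻¹ * b⁻¹ = d := by
  have key : ∀ u ∈ Q₁, ∀ v ∈ Q₂, x u * y v = z d → u * v * u⁻¹ * v⁻¹ = d := by
    intro u hu v hv huv
    rw [← h.com u hu v hv, h.hz.eq_iff (h.mem u hu v hv) hd] at huv
    exact mul_inv_eq_one.1 (Subgroup.mem_bot.1 huv)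
  cases i
  · have hx : x a ≠ 0 := fun h0 => haD ((h.x_ker a ha).1 h0)
    obtain ⟨v, hv, hv'⟩ := h.y_surj (z d / x a)
    refine ⟨v, hv, key a ha v hv ?_⟩
    rw [hv']
    field_simp
  · have hy : y a ≠ 0 := fun h0 => haD ((h.y_ker a ha).1 h0)
    obtain ⟨u, hu, hu'⟩ := h.x_surj (z d / y a)
    refine ⟨u, hu, ?_⟩
    have h1 := key u hu a ha (by rw [hu']; field_simp)
    have e : a * u * a⁻¹ * u⁻¹ = (u * a * u⁻¹ * a⁻¹)⁻¹ := by group
    rw [e, h1, c.inv₁ (c.D₁ hd)]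

/-- **Type `L₃(F)`**: `S = S₀` or `|F| = 4`. -/
theorem close3 [Finite G] [Finite F] (S : Sylow 2 G) {P₁ P₂ L₁ L₂ : Subgroup G}
    (h : Co3 Q₁ Q₂ D x y z) (c : Ctx (S : Subgroup G) S0 D Q₁ Q₂)
    (l₁ : Lin (S : Subgroup G) S0 D Q₁ P₁ L₁ ⊥) (l₂ : Lin (S : Subgroup G) S0 D Q₂ P₂ L₂ ⊥)
    (hct : CTs (S : Subgroup G) S0) : (S : Subgroup G) = S0 ∨ Nat.card F = 4 := by
  by_contra hc
  push Not at hc
  have _ := h.charP
  have ha := h.amb c S.isPGroup'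
  have hn : ¬ (S : Subgroup G) ≤ S0 := fun hle => hc.1 (le_antisymm hle c.le0)
  obtain ⟨f, -, hF⟩ := exists_fld le_rfl hn
  obtain ⟨σ, k, l, h3, -, -⟩ := h.exists_sl c hF.mem
  have h4 := (c.inv2₁ S.isPGroup' h.hx hF h3).four_le
  have h5 : 4 < Nat.card F := lt_of_le_of_ne h4 (Ne.symm hc.2)
  have hb := c.big S.isPGroup' h.hx h.hy (fun s hs => by
    obtain ⟨σ, k, l, h3, h4, -⟩ := h.exists_sl c hs
    exact ⟨σ, k, l, h3, h4⟩) h5
  refine hc.1 (close_three (P := pr P₁ P₂) (L := pr L₁ L₂) (C := fun _ => ⊥) ha ?_ ?_ hct hb ?_)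
  · rintro (_ | _)
    · exact l₁
    · exact l₂
  · exact fun c hc => Subgroup.mem_bot.1 (hc false)
  · exact fun i a ha haD d hd => h.sur c i ha haD hd

end Three

section Four

variable {S S0 D Q₁ Q₂ C₁ C₂ : Subgroup G} {x y z z' : G → F}

theorem Co4.charP (h : Co4 Q₁ Q₂ D C₁ C₂ x y z z') : CharP F 2 := by
  obtain ⟨u, hu, hu1⟩ := h.x_surj 1
  have h1 := h.x_mul u hu u hu
  have h2 := h.x_mul 1 (one_mem _) 1 (one_mem _)
  rw [one_mul] at h2
  have h3 : x 1 = 0 := by linear_combination - h2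
  rw [h.sq₁ u hu, h3, hu1] at h1
  exact CharTwo.of_one_ne_zero_of_two_eq_zero one_ne_zero (by linear_combination - h1)

theorem Co4.hx (h : Co4 Q₁ Q₂ D C₁ C₂ x y z z') : Crd Q₁ D x := ⟨h.x_mul, h.x_surj, h.x_ker⟩

theorem Co4.hy (h : Co4 Q₁ Q₂ D C₁ C₂ x y z z') : Crd Q₂ D y := ⟨h.y_mul, h.y_surj, h.y_ker⟩

theorem Co4.hz (h : Co4 Q₁ Q₂ D C₁ C₂ x y z z') : Crd D C₁ z :=
  ⟨h.z_mul, fun a => by
    obtain ⟨u, hu, h1, -⟩ := h.z_surj a 0
    exact ⟨u, hu, h1⟩, h.z_ker⟩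

theorem Co4.hz' (h : Co4 Q₁ Q₂ D C₁ C₂ x y z z') : Crd D C₂ z' :=
  ⟨h.z'_mul, fun a => by
    obtain ⟨u, hu, -, h1⟩ := h.z_surj 0 a
    exact ⟨u, hu, h1⟩, h.z'_ker⟩

theorem Co4.ext (h : Co4 Q₁ Q₂ D C₁ C₂ x y z z') {u v : G} (hu : u ∈ D) (hv : v ∈ D)
    (h1 : z u = z v) (h2 : z' u = z' v) : u = v := by
  have h3 : z (u * v⁻¹) = 0 := by
    rw [h.hz.mul _ hu _ (inv_mem hv), h.hz.inv hv, h1, add_neg_cancel]
  have h4 : z' (u * v⁻¹) = 0 := by
    rw [h.hz'.mul _ hu _ (inv_mem hv), h.hz'.inv hv, h2, add_neg_cancel]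
  exact mul_inv_eq_one.1 (h.z_inj _ (mul_mem hu (inv_mem hv)) h3 h4)

theorem Co4.cen (h : Co4 Q₁ Q₂ D C₁ C₂ x y z z') {a b : G} (ha : a ∈ Q₁) (hb : b ∈ Q₂)
    (hab : a * b = b * a) : a ∈ D ∨ b ∈ D := by
  have h1 := h.com a ha b hb
  have e : a * b * a⁻¹ * b⁻¹ = 1 := by rw [hab]; group
  rw [e, h.hz.one] at h1
  rcases mul_eq_zero.1 h1.symm with h2 | h2
  · exact Or.inl ((h.x_ker a ha).1 h2)
  · exact Or.inr ((h.y_ker b hb).1 h2)

/-- The action of `S`. -/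
theorem Co4.exists_sl (h : Co4 Q₁ Q₂ D C₁ C₂ x y z z') (c : Ctx S S0 D Q₁ Q₂)
    (hC₁ : ∀ s ∈ S, ∀ u ∈ C₁, s * u * s⁻¹ ∈ C₁) (hC₂ : ∀ s ∈ S, ∀ u ∈ C₂, s * u * s⁻¹ ∈ C₂)
    {s : G} (hs : s ∈ S) :
    ∃ (σ : F →+* F) (k l : F), SL Q₁ x s k σ ∧ SL Q₂ y s l σ ∧ SL D z s (k * l) σ ∧
      SL D z' s (k * k * l) σ := by
  obtain ⟨A, hA⟩ := h.hx.exists_push (c.n₁ s hs) fun u hu => c.nD hs hu
  obtain ⟨B, hB⟩ := h.hy.exists_push (c.n₂ s hs) fun u hu => c.nD hs hu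
  obtain ⟨C, hC⟩ := h.hz.exists_push (s := s) (fun u hu => c.nD hs hu) (hC₁ s hs)
  obtain ⟨C', hC'⟩ := h.hz'.exists_push (s := s) (fun u hu => c.nD hs hu) (hC₂ s hs)
  have hA1 := h.hx.push_ne (c.n₁ s hs) (fun u hu => c.nD' hs hu) hA
  have hB1 := h.hy.push_ne (c.n₂ s hs) (fun u hu => c.nD' hs hu) hB
  have hcm : ∀ u v : G, s * (u * v * u⁻¹ * v⁻¹) * s⁻¹ =
      (s * u * s⁻¹) * (s * v * s⁻¹) * (s * u * s⁻¹)⁻¹ * (s * v * s⁻¹)⁻¹ := fun u v => by group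
  obtain ⟨σ, h1, h2, h3⟩ := exists_semi (A := A) (B := B) (C := C) hA1 hB1 fun a b => by
    obtain ⟨u, hu, rfl⟩ := h.x_surj a
    obtain ⟨v, hv, rfl⟩ := h.y_surj b
    rw [← h.com u hu v hv, ← hC _ (h.mem u hu v hv), ← hA u hu, ← hB v hv,
      ← h.com _ (c.n₁ s hs u hu) _ (c.n₂ s hs v hv), hcm]
  have h4 : ∀ b, C' b = A 1 * A 1 * B 1 * σ b := by
    intro b
    obtain ⟨u, hu, hu1⟩ := h.x_surj 1
    obtain ⟨v, hv, rfl⟩ := h.y_surj b
    have h5 : z' (u * v * u⁻¹ * v⁻¹) = y v := by rw [h.com' u hu v hv, hu1]; ring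
    rw [← h5, ← hC' _ (h.mem u hu v hv), hcm,
      h.com' _ (c.n₁ s hs u hu) _ (c.n₂ s hs v hv), hA u hu, hB v hv, hu1, h2, h5]
    ring
  exact ⟨σ, A 1, B 1, fun u hu => by rw [hA u hu, h1], fun u hu => by rw [hB u hu, h2],
    fun u hu => by rw [hC u hu, h3], fun u hu => by rw [hC' u hu, h4]⟩

theorem Co4.amb [Finite G] [Finite F] (h : Co4 Q₁ Q₂ D C₁ C₂ x y z z') (c : Ctx S S0 D Q₁ Q₂)
    (hC₁ : ∀ s ∈ S, ∀ u ∈ C₁, s * u * s⁻¹ ∈ C₁) (hC₂ : ∀ s ∈ S, ∀ u ∈ C₂, s * u * s⁻¹ ∈ C₂)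
    (h2 : IsPGroup 2 S) : Amb S S0 D (pr Q₁ Q₂) := by
  have _ := h.charP
  refine c.amb h2 h.hx h.hy ?_ (fun a ha b hb hab => h.cen ha hb hab) ?_
  · intro s hs
    obtain ⟨σ, k, l, h3, h4, -, -⟩ := h.exists_sl c hC₁ hC₂ hs
    exact ⟨σ, k, l, h3, h4⟩
  · intro f hf d hd hfd
    obtain ⟨σ, k, l, h3, h4, h5, h5'⟩ := h.exists_sl c hC₁ hC₂ hf.mem
    have hi := c.inv2₁ h2 h.hx hf h3
    have hi₂ := c.inv2₂ h.hy hf h4 hi
    have hi' := hi.mul hi₂
    have hi'' := (hi.mul hi).mul hi₂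
    have h6 : k * l * σ (z d) = z d := by rw [← h5 d hd, hfd]
    have h6' : k * k * l * σ (z' d) = z' d := by rw [← h5' d hd, hfd]
    obtain ⟨t, ht⟩ := hi'.hilbert h6
    obtain ⟨t', ht'⟩ := hi''.hilbert h6'
    obtain ⟨e, he, rfl, rfl⟩ := h.z_surj t t'
    refine ⟨e, he, ?_⟩
    have hfe := c.nD hf.mem he
    refine h.ext (mul_mem hfe he) hd ?_ ?_
    · rw [h.z_mul _ hfe _ he, h5 e he, ht]
    · rw [h.z'_mul _ hfe _ he, h5' e he, ht']

/-- `[a, Q₂][b, Q₂] = D` for independent `a, b ∈ Q₁`. -/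
theorem Co4.sp (h : Co4 Q₁ Q₂ D C₁ C₂ x y z z') {a b : G} (ha : a ∈ Q₁)
    (hb : b ∈ Q₁) (haD : a ∉ D) (hbD : b ∉ D) (habD : a * b ∉ D) {d : G} (hd : d ∈ D) :
    ∃ v ∈ Q₂, ∃ w ∈ Q₂, (a * v * a⁻¹ * v⁻¹) * (b * w * b⁻¹ * w⁻¹) = d := by
  have hα : x a ≠ 0 := fun h0 => haD ((h.x_ker a ha).1 h0)
  have hβ : x b ≠ 0 := fun h0 => hbD ((h.x_ker b hb).1 h0)
  have hαβ : x a + x b ≠ 0 := by
    rw [← h.x_mul a ha b hb]
    exact fun h0 => habD ((h.x_ker _ (mul_mem ha hb)).1 h0)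
  have _ := h.charP
  have h2 : (2 : F) = 0 := CharTwo.two_eq_zero
  obtain ⟨v, hv, hv'⟩ := h.y_surj ((x b * z d + z' d) / (x a * (x a + x b)))
  obtain ⟨w, hw, hw'⟩ := h.y_surj ((x a * z d + z' d) / (x b * (x a + x b)))
  refine ⟨v, hv, w, hw, h.ext (mul_mem (h.mem a ha v hv) (h.mem b hb w hw)) hd ?_ ?_⟩
  · rw [h.z_mul _ (h.mem a ha v hv) _ (h.mem b hb w hw), h.com a ha v hv, h.com b hb w hw, hv', hw']
    field_simp
    linear_combination z' d * h2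
  · rw [h.z'_mul _ (h.mem a ha v hv) _ (h.mem b hb w hw), h.com' a ha v hv, h.com' b hb w hw,
      hv', hw']
    field_simp
    linear_combination (x a * x b * z d) * h2

/-- The numbers for `|F| = 4`. -/
theorem Co4.num [Finite G] [Finite F] (h : Co4 Q₁ Q₂ D C₁ C₂ x y z z') (c : Ctx S S0 D Q₁ Q₂)
    (hC₁ : ∀ s ∈ S, ∀ u ∈ C₁, s * u * s⁻¹ ∈ C₁) (hC₂ : ∀ s ∈ S, ∀ u ∈ C₂, s * u * s⁻¹ ∈ C₂)
    (h2 : IsPGroup 2 S) (hF : Nat.card F = 4) : Num S S0 D (pr Q₁ Q₂) := by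
  have _ := h.charP
  have hcD : Nat.card D = 16 := by
    have h1 : Nat.card D = Nat.card (F × F) := by
      refine Nat.card_congr (Equiv.ofBijective (fun d : D => ((z d, z' d) : F × F)) ⟨?_, ?_⟩)
      · intro d e hde
        exact Subtype.ext (h.ext d.2 e.2 (Prod.ext_iff.1 hde).1 (Prod.ext_iff.1 hde).2)
      · rintro ⟨a, b⟩
        obtain ⟨u, hu, h1, h2⟩ := h.z_surj a b
        exact ⟨⟨u, hu⟩, Prod.ext h1 h2⟩
    rw [h1, Nat.card_prod, hF]
  have hc1 : Nat.card Q₁ = 64 := by rw [Ctx.card_eq c.D₁ h.hx, hF, hcD]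
  have hc2 : Nat.card Q₂ = 64 := by rw [Ctx.card_eq c.D₂ h.hy, hF, hcD]
  have hc0 : Nat.card S0 ≤ 256 := by
    choose v hv hvy using h.y_surj
    have h1 : Nat.card S0 ≤ Nat.card (Q₁ × F) := by
      refine Nat.card_le_card_of_surjective (fun p : Q₁ × F => (⟨p.1 * v p.2, ?_⟩ : S0)) ?_
      · exact (c.sup _).2 ⟨p.1, p.1.2, v p.2, hv _, rfl⟩
      · rintro ⟨g, hg⟩
        obtain ⟨a, ha, b, hb, rfl⟩ := (c.sup g).1 hg
        have h3 : b * (v (y b))⁻¹ ∈ D := by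
          rw [← h.hy.eq_iff hb (hv _), hvy]
        refine ⟨(⟨a * (b * (v (y b))⁻¹), mul_mem ha (c.D₁ h3)⟩, y b), Subtype.ext ?_⟩
        show a * (b * (v (y b))⁻¹) * v (y b) = a * b
        group
    rw [Nat.card_prod, hc1, hF] at h1
    exact h1
  have ha := h.amb c hC₁ hC₂ h2
  have hsq : ∀ s ∈ S, s * s ∈ S0 := by
    intro s hs
    obtain ⟨σ, k, l, h3, -, -, -⟩ := h.exists_sl c hC₁ hC₂ hs
    have h4 := SL.mul (c.n₁ s hs) h3 h3
    have h5 : σ.comp σ = RingHom.id F := RingHom.ext (sq_of_card_four hF σ)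
    rw [h5] at h4
    exact c.mem_of_SL h2 h.hx (mul_mem hs hs) h4
  refine ⟨?_, ?_, hcD, ?_⟩
  · by_cases hS : S ≤ S0
    · exact (Subgroup.card_le_of_le hS).trans (hc0.trans (by norm_num))
    · obtain ⟨f, hf, hf0⟩ := SetLike.not_le_iff_exists.1 hS
      have h1 : S0.relIndex S = 2 := by
        rw [Subgroup.relIndex, Subgroup.index_eq_two_iff]
        refine ⟨⟨f, hf⟩, fun b => ?_⟩
        by_cases hb : (b : G) ∈ S0
        · right
          refine ⟨Subgroup.mem_subgroupOf.2 hb, fun hc => ?_⟩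
          exact hf0 ((S0.mul_mem_cancel_left hb).1 (Subgroup.mem_subgroupOf.1 hc))
        · left
          refine ⟨Subgroup.mem_subgroupOf.2 (ha.cyc _ b.2 _ hf (hsq _ b.2) (hsq _ hf) hb hf0),
            fun hc => hb (Subgroup.mem_subgroupOf.1 hc)⟩
      have h3 := relIndex_mul c.le0
      rw [h1] at h3
      omega
  · rintro (_ | _)
    exacts [hc1, hc2]
  · intro f hf
    obtain ⟨σ, k, l, h3, h4, h5, h5'⟩ := h.exists_sl c hC₁ hC₂ hf.mem
    have hi := c.inv2₁ h2 h.hx hf h3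
    have hi₂ := c.inv2₂ h.hy hf h4 hi
    have hi' := hi.mul hi₂
    have hi'' := (hi.mul hi).mul hi₂
    have h6 : Nat.card (CD D f) = Nat.card ({a : F // k * l * σ a = a} ×
        {a : F // k * k * l * σ a = a}) := by
      refine Nat.card_congr (Equiv.ofBijective (fun d : CD D f =>
        ((⟨z d, ?_⟩, ⟨z' d, ?_⟩) : {a : F // k * l * σ a = a} ×
        {a : F // k * k * l * σ a = a})) ⟨?_, ?_⟩)
      · have hd := mem_CD.1 d.2
        rw [← h5 _ hd.1, ← hd.2, mul_assoc, mul_inv_cancel, mul_one]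
      · have hd := mem_CD.1 d.2
        rw [← h5' _ hd.1, ← hd.2, mul_assoc, mul_inv_cancel, mul_one]
      · intro d e hde
        have h7 := Prod.ext_iff.1 hde
        have h8 : z d = z e := congrArg Subtype.val h7.1
        have h9 : z' d = z' e := congrArg Subtype.val h7.2
        exact Subtype.ext (h.ext (mem_CD.1 d.2).1 (mem_CD.1 e.2).1 h8 h9)
      · rintro ⟨⟨a, ha⟩, ⟨b, hb⟩⟩
        obtain ⟨u, hu, h7, h8⟩ := h.z_surj a b
        have h9 : f * u * f⁻¹ = u := by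
          refine h.ext (c.nD hf.mem hu) hu ?_ ?_
          · rw [h5 u hu, h7, ha]
          · rw [h5' u hu, h8, hb]
        refine ⟨⟨u, mem_CD.2 ⟨hu, ?_⟩⟩, Prod.ext (Subtype.ext h7) (Subtype.ext h8)⟩
        rw [mul_inv_eq_iff_eq_mul] at h9
        exact h9.symm
    rw [h6, Nat.card_prod, hi'.card_fix hF, hi''.card_fix hF]

/-- **Type `Sp₄(F)`**: `S = S₀`. -/
theorem close4 [Finite G] [Finite F] (S : Sylow 2 G) {P₁ P₂ L₁ L₂ : Subgroup G}
    (h : Co4 Q₁ Q₂ D C₁ C₂ x y z z') (c : Ctx (S : Subgroup G) S0 D Q₁ Q₂)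
    (l₁ : Lin (S : Subgroup G) S0 D Q₁ P₁ L₁ C₁) (l₂ : Lin (S : Subgroup G) S0 D Q₂ P₂ L₂ C₂)
    (hct : CTs (S : Subgroup G) S0) : (S : Subgroup G) = S0 := by
  by_contra hc
  have _ := h.charP
  have hC₁ : ∀ s ∈ (S : Subgroup G), ∀ u ∈ C₁, s * u * s⁻¹ ∈ C₁ := fun s hs => l₁.PC s (l₁.SP hs)
  have hC₂ : ∀ s ∈ (S : Subgroup G), ∀ u ∈ C₂, s * u * s⁻¹ ∈ C₂ := fun s hs => l₂.PC s (l₂.SP hs)
  have ha := h.amb c hC₁ hC₂ S.isPGroup'
  have hn : ¬ (S : Subgroup G) ≤ S0 := fun hle => hc (le_antisymm hle c.le0)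
  obtain ⟨f, -, hF⟩ := exists_fld le_rfl hn
  obtain ⟨σ, k, l, h3, -, -, -⟩ := h.exists_sl c hC₁ hC₂ hF.mem
  have h4 := (c.inv2₁ S.isPGroup' h.hx hF h3).four_le
  have hl : ∀ i, Lin (S : Subgroup G) S0 D (pr Q₁ Q₂ i) (pr P₁ P₂ i) (pr L₁ L₂ i) (pr C₁ C₂ i) := by
    rintro (_ | _)
    · exact l₁
    · exact l₂
  have hCC : ∀ c, (∀ i, c ∈ pr C₁ C₂ i) → c = 1 := by
    intro c hc
    have h5 : c ∈ C₁ := hc false
    have h6 : c ∈ C₂ := hc true
    have h7 := l₁.CD h5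
    exact h.z_inj c h7 ((h.z_ker c h7).2 h5) ((h.z'_ker c h7).2 h6)
  rcases Nat.lt_or_ge 4 (Nat.card F) with h5 | h5
  · have hb := c.big S.isPGroup' h.hx h.hy (fun s hs => by
      obtain ⟨σ, k, l, h3, h4, -, -⟩ := h.exists_sl c hC₁ hC₂ hs
      exact ⟨σ, k, l, h3, h4⟩) h5
    exact hc (close_four ha hl hCC hct hb fun a ha b hb haD hbD habD d hd =>
      h.sp ha hb haD hbD habD hd)
  · exact hc (close_four_four ha hl hCC hct (h.num c hC₁ hC₂ S.isPGroup' (le_antisymm h5 h4)))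

end Four

end Cfsg.Agent.Omega.CloseA

end

section


/-!
# OMEGA / SQT, node SQ2 = FF-1: the exit `S = Q₁Q₂` of type `L₃(q)` or `Sp₄(q)`
-/

set_option autoImplicit false

open Subgroup

namespace Cfsg.Agent.Omega.FFOne.Mut

open Cfsg.Agent.Omega.NatPair Cfsg.Agent.Omega.CloseA

variable {G : Type*} [Group G] {P₁ P₂ Q₁ Q₂ V₁ V₂ D₁ D₂ : Subgroup G} {a : ℕ} {F₁ F₂ : Type} [Field F₁] [Field F₂]
  {e₁ : G → Fin 2 → F₁} {w₁ : Fin 2 → F₁} {e₂ : G → Fin 2 → F₂} {w₂ : Fin 2 → F₂}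

/-- the structure `Ctx` of `Omega/CloseA` -/
theorem ctx {S : Subgroup G} (h : Mut P₁ P₂ S Q₁ Q₂ V₁ V₂ a) : Ctx S (Q₁ ⊔ Q₂) (Q₁ ⊓ Q₂) Q₁ Q₂ where
  le₁ := h.s₁.QS
  le₂ := h.s₂.QS
  n₁ := h.S_norm₁
  n₂ := h.S_norm₂
  sq₁ := fun _ hu => h.sq₁ hu
  sq₂ := fun _ hu => h.sq₂ hu
  inf := fun _ => mem_inf
  sup := fun _ => h.mem_S₀
  faith₁ := fun _ hs hc => h.faith' hs hc
  faith₂ := fun _ hs hc => h.faith₂' hs hc

/-- **FF-1, CASE A, with natural modules (`q ≥ 4`), characteristic 2 type at the involutions of `S`**: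
`S = Q₁Q₂` is a Sylow 2-subgroup of `L₃(q)` or `Sp₄(q)`, or `q = 4` and `Q₁Q₂` is of type `L₃(4)`. -/
theorem exit [Finite G] [Finite F₁] [Finite F₂] {S : Sylow 2 G} (h : Mut P₁ P₂ S Q₁ Q₂ V₁ V₂ a)
    (hcen₁ : ∀ g : G, (∀ u ∈ Q₁, g * u = u * g) → g ∈ Q₁) (hcen₂ : ∀ g : G, (∀ u ∈ Q₂, g * u = u * g) → g ∈ Q₂)
    (n₁ : NatTwo P₁ V₁ D₁ e₁) (q₁ : QuadOver V₁ V₂ e₁ w₁) (DV₁ : D₁ ≤ V₁) (Dn₁ : ∀ p ∈ P₁, ∀ d ∈ D₁, p * d * p⁻¹ ∈ D₁)
    (n₂ : NatTwo P₂ V₂ D₂ e₂) (q₂ : QuadOver V₂ V₁ e₂ w₂) (DV₂ : D₂ ≤ V₂) (Dn₂ : ∀ p ∈ P₂, ∀ d ∈ D₂, p * d * p⁻¹ ∈ D₂)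
    (hF : 2 < Nat.card F₁) (hct : CTs (S : Subgroup G) (Q₁ ⊔ Q₂)) :
    (∃ X Y Z : G → F₁, Co3 Q₁ Q₂ (Q₁ ⊓ Q₂) X Y Z ∧ ((S : Subgroup G) = Q₁ ⊔ Q₂ ∨ Nat.card F₁ = 4)) ∨
      ∃ X Y Z Z' : G → F₁, Co4 Q₁ Q₂ (Q₁ ⊓ Q₂) (CC P₁ Q₁ V₂) (CC P₂ Q₂ V₁) X Y Z Z' ∧
        (S : Subgroup G) = Q₁ ⊔ Q₂ := by
  rcases h.close hcen₁ hcen₂ n₁ q₁ DV₁ Dn₁ n₂ q₂ DV₂ Dn₂ hF with ⟨X, Y, Z, L₁, L₂, h1, h2, h3⟩ |
    ⟨X, Y, Z, Z', L₁, L₂, h1, h2, h3⟩
  · exact Or.inl ⟨X, Y, Z, h1, close3 S h1 h.ctx h2 h3 hct⟩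
  · exact Or.inr ⟨X, Y, Z, Z', h1, close4 S h1 h.ctx h2 h3 hct⟩

end Cfsg.Agent.Omega.FFOne.Mut

end

section


/-!
# Closings of type `L₃(q)`, `Sp₄(q)`: groups of characteristic 2 type satisfy `CTs`
-/

set_option autoImplicit false

universe u

namespace Cfsg.Agent.Omega.CloseA

open Subgroup Cfsg Cfsg.Agent.ZN Cfsg.Agent.MinSimple.MinParabolic Cfsg.Agent.MinSimple.VModule
open Cfsg.Agent.MinSimple.Basic

variable {G : Type u} [Group G]

/-- `O₂(C_G(y))` in a group of characteristic 2 type. -/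
theorem exists_CT (hG : IsCharacteristicTwoType G) {y : G} (hy : y * y = 1) (hy1 : y ≠ 1) :
    ∃ R : Subgroup G, CT y R := by
  have hy' : y ^ 2 = 1 := by rw [pow_two, hy]
  set C := centralizer ({y} : Set G) with hC
  have hmem : ∀ {g : G}, g ∈ C ↔ g * y = y * g := fun {g} => mem_centralizer_singleton_iff
  refine ⟨o2 C, fun r hr => hmem.1 (o2_le C hr), ?_, o2_isPGroup C, ?_, ?_⟩
  · intro g hg r hr
    exact (mem_normalizer_iff.1 (le_normalizer_o2 C (hmem.2 hg)) r).1 hr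
  · intro g hg hr
    refine char2_centralizer hG hy' hy1 (mem_inf.2 ⟨hmem.2 hg, mem_centralizer_iff.2 ?_⟩)
    exact fun r hr' => (hr r hr').symm
  · intro K hK hKn hK2
    refine le_o2 (fun k hk => hmem.2 (hK k hk)) hK2 fun g hg => ?_
    have hg' := hmem.1 hg
    have hgi : g⁻¹ * y = y * g⁻¹ := by
      calc g⁻¹ * y = g⁻¹ * (y * g) * g⁻¹ := by group
        _ = g⁻¹ * (g * y) * g⁻¹ := by rw [hg']
        _ = y * g⁻¹ := by group
    rw [mem_normalizer_iff]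
    refine fun k => ⟨fun hk => hKn g hg' k hk, fun hk => ?_⟩
    have := hKn g⁻¹ hgi _ hk
    have e : g⁻¹ * (g * k * g⁻¹) * g⁻¹⁻¹ = k := by group
    rwa [e] at this

/-- Groups of characteristic 2 type satisfy the input `CTs` of `close3`, `close4`. -/
theorem CTs_of (hG : IsCharacteristicTwoType G) (S S0 : Subgroup G) : CTs S S0 := by
  intro y _ hy0 hy
  refine exists_CT hG hy ?_
  rintro rfl
  exact hy0 (one_mem _)

end Cfsg.Agent.Omega.CloseA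

end

section


/-!
# Two members of `P*(S)` over one `S` which do not commute: the structure `FFOne.Mut`

`P₁, P₂ ∈ P*(S)`, `V_{P₁}`, `V_{P₂}` natural (one factor), `[V_{P₁}, V_{P₂}] ≠ 1`.

* `K0` : the elements of `P` which centralise `Q / V` and `V / D` form a normal 2-subgroup of `P`;
* `side`, `off`, `core`, `mut` : the fields of `FFOne.Mut`;
* `cent_o2` : `C_G(O₂(P)) ≤ O₂(P)`;
* `exit` : `S = Q₁Q₂` is of type `L₃(q)` or `Sp₄(q)`, or `q = 4` and `Q₁Q₂` is of type `L₃(4)`.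
-/

set_option autoImplicit false
set_option linter.unusedSectionVars false

namespace Cfsg.Agent.Omega.HOne.NSMut

open Subgroup Cfsg Cfsg.Agent.ZN Cfsg.Agent.Omega.MinPar
open Cfsg.Agent.Omega.FrameFF Cfsg.Agent.Lib.SL2Mat Cfsg.Agent.Omega.NatPair
open Cfsg.Agent.Omega.FFOne (NatTwo QuadOver Side Off Mut LL)
open Cfsg.Agent.MinSimple.VModule (oddGen zl_comm zl_sq zc_le zc_comm zc_sq mem_zc le_normalizer_zl
  le_normalizer_oddGen le_normalizer_o2 o2_isPGroup mem_oddGen le_o2)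
open Cfsg.Agent.MinSimple.MinParabolic (IsMinPar)

universe u

variable {G : Type u} [Group G]

/-! ### Natural modules -/

theorem natTwo {F : Type} [Field F] {P V D : Subgroup G} (M : NatOver F P V D) : NatTwo P V D M.e where
  mul := M.mul
  surj := M.surj
  ker := M.ker
  lift A := by
    obtain ⟨g, hg, h1, -⟩ := M.lift A
    exact ⟨g, hg, h1⟩
  norm := M.norm

theorem quadOver {F : Type} [Field F] {P V D A : Subgroup G} {M : NatOver F P V D} {w : Fin 2 → F}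
    (q : QuadP M A w) : QuadOver V A M.e w where
  ne := q.ne
  lin := q.lin
  full := q.full
  cent v hv h a ha := ((q.cent v hv).2 h a ha).symm

/-! ### Elements of odd order -/

/-- an element of odd order commutes with `x` if its square does -/
theorem comm_of_sq {g x : G} (ho : Odd (orderOf g)) (h : g * g * x = x * (g * g)) : g * x = x * g := by
  obtain ⟨m, hm⟩ := ho
  have h1 : Commute (g ^ 2) x := by rw [pow_two]; exact h
  have h2 : Commute ((g ^ 2) ^ (m + 1)) x := h1.pow_left _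
  have h3 : (g ^ 2) ^ (m + 1) = g := by
    rw [← pow_mul]
    have e : 2 * (m + 1) = orderOf g + 1 := by omega
    rw [e, pow_succ, pow_orderOf_eq_one, one_mul]
  rw [h3] at h2
  exact h2

/-- the elements of `P` which centralise `Q / V` and `V / D` -/
def K0 (P Q V D : Subgroup G) (hQ : ∀ g ∈ P, ∀ x ∈ Q, g * x * g⁻¹ ∈ Q) (hV : ∀ g ∈ P, ∀ x ∈ V, g * x * g⁻¹ ∈ V)
    (hD : ∀ g ∈ P, ∀ x ∈ D, g * x * g⁻¹ ∈ D) : Subgroup G where
  carrier := {g | g ∈ P ∧ (∀ x ∈ Q, g * x * g⁻¹ * x⁻¹ ∈ V) ∧ ∀ v ∈ V, g * v * g⁻¹ * v⁻¹ ∈ D}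
  one_mem' := ⟨one_mem _, fun x _ => by simp, fun x _ => by simp⟩
  mul_mem' := by
    rintro a b ⟨ha, ha1, ha2⟩ ⟨hb, hb1, hb2⟩
    refine ⟨mul_mem ha hb, fun x hx => ?_, fun x hx => ?_⟩
    · have e : a * b * x * (a * b)⁻¹ * x⁻¹ = (a * (b * x * b⁻¹ * x⁻¹) * a⁻¹) * (a * x * a⁻¹ * x⁻¹) := by group
      rw [e]
      exact mul_mem (hV a ha _ (hb1 x hx)) (ha1 x hx)
    · have e : a * b * x * (a * b)⁻¹ * x⁻¹ = (a * (b * x * b⁻¹ * x⁻¹) * a⁻¹) * (a * x * a⁻¹ * x⁻¹) := by group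
      rw [e]
      exact mul_mem (hD a ha _ (hb2 x hx)) (ha2 x hx)
  inv_mem' := by
    rintro a ⟨ha, ha1, ha2⟩
    refine ⟨inv_mem ha, fun x hx => ?_, fun x hx => ?_⟩
    · have h1 := ha1 _ (hQ a⁻¹ (inv_mem ha) x hx)
      have e : a⁻¹ * x * a⁻¹⁻¹ * x⁻¹ = (a * (a⁻¹ * x * a⁻¹⁻¹) * a⁻¹ * (a⁻¹ * x * a⁻¹⁻¹)⁻¹)⁻¹ := by group
      rw [e]
      exact inv_mem h1
    · have h1 := ha2 _ (hV a⁻¹ (inv_mem ha) x hx)
      have e : a⁻¹ * x * a⁻¹⁻¹ * x⁻¹ = (a * (a⁻¹ * x * a⁻¹⁻¹) * a⁻¹ * (a⁻¹ * x * a⁻¹⁻¹)⁻¹)⁻¹ := by group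
      rw [e]
      exact inv_mem h1

/-- **Elements of `P` which centralise `Q / V` and `V / D` lie in `Q`**, `Q = O₂(P) ≥ C_P(Q)`, `D` centralised by the
elements of odd order of `P`. -/
theorem mem_of_K0 [Finite G] {P V D : Subgroup G} (hDV : D ≤ V)
    (hV : ∀ g ∈ P, ∀ x ∈ V, g * x * g⁻¹ ∈ V)
    (hD : ∀ g ∈ P, ∀ x ∈ D, g * x * g⁻¹ ∈ D) (hsq : ∀ v ∈ V, v * v = 1)
    (hodd : ∀ g ∈ P, Odd (orderOf g) → ∀ d ∈ D, g * d = d * g)
    (hcen : P ⊓ centralizer (o2 P : Set G) ≤ o2 P) {g : G} (hg : g ∈ P)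
    (h1 : ∀ x ∈ o2 P, g * x * g⁻¹ * x⁻¹ ∈ V) (h2 : ∀ v ∈ V, g * v * g⁻¹ * v⁻¹ ∈ D) : g ∈ o2 P := by
  have hQ : ∀ g ∈ P, ∀ x ∈ o2 P, g * x * g⁻¹ ∈ o2 P := fun g hg x hx =>
    (mem_normalizer_iff.1 (le_normalizer_o2 P hg) x).1 hx
  have hVc : ∀ a ∈ V, ∀ b ∈ V, a * b = b * a := by
    intro a ha b hb
    have h3 := hsq _ (mul_mem ha hb)
    have h4 := hsq a ha
    have h5 := hsq b hb
    calc a * b = a * (a * b * (a * b)) * b := by rw [h3]; group
      _ = (a * a) * b * a * (b * b) := by group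
      _ = b * a := by rw [h4, h5]; group
  -- an element of odd order of `K0` is trivial
  have key : ∀ g ∈ K0 P (o2 P) V D hQ hV hD, Odd (orderOf g) → g = 1 := by
    rintro g ⟨hg, g1, g2⟩ ho
    -- `g` centralises `V`
    have c1 : ∀ v ∈ V, g * v = v * g := by
      intro v hv
      refine comm_of_sq ho ?_
      have hb := g2 v hv
      set b := g * v * g⁻¹ * v⁻¹ with hbdef
      have e1 : g * v * g⁻¹ = b * v := by rw [hbdef]; group
      have e2 : g * b * g⁻¹ = b := by rw [hodd g hg ho b hb, mul_inv_cancel_right]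
      have e3 : g * g * v * (g * g)⁻¹ = v := by
        calc g * g * v * (g * g)⁻¹ = g * (g * v * g⁻¹) * g⁻¹ := by group
          _ = g * (b * v) * g⁻¹ := by rw [e1]
          _ = (g * b * g⁻¹) * (g * v * g⁻¹) := by group
          _ = (b * b) * v := by rw [e2, e1]; group
          _ = v := by rw [hsq b (hDV hb), one_mul]
      exact mul_inv_eq_iff_eq_mul.1 e3
    have c2 : ∀ x ∈ o2 P, g * x = x * g := by
      intro x hx
      refine comm_of_sq ho ?_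
      have hb := g1 x hx
      set b := g * x * g⁻¹ * x⁻¹ with hbdef
      have e1 : g * x * g⁻¹ = b * x := by rw [hbdef]; group
      have e2 : g * b * g⁻¹ = b := by rw [c1 b hb, mul_inv_cancel_right]
      have e3 : g * g * x * (g * g)⁻¹ = x := by
        calc g * g * x * (g * g)⁻¹ = g * (g * x * g⁻¹) * g⁻¹ := by group
          _ = g * (b * x) * g⁻¹ := by rw [e1]
          _ = (g * b * g⁻¹) * (g * x * g⁻¹) := by group
          _ = (b * b) * x := by rw [e2, e1]; group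
          _ = x := by rw [hsq b hb, one_mul]
      exact mul_inv_eq_iff_eq_mul.1 e3
    have h3 : g ∈ o2 P := hcen ⟨hg, mem_centralizer_iff.2 fun x hx => (c2 x hx).symm⟩
    obtain ⟨k, hk⟩ := o2_isPGroup P ⟨g, h3⟩
    have hk' : g ^ 2 ^ k = 1 := by simpa using congrArg Subtype.val hk
    have h4 : orderOf g ∣ 2 ^ k := orderOf_dvd_of_pow_eq_one hk'
    have h5 : orderOf g = 1 := by
      obtain ⟨j, -, hj⟩ := (Nat.dvd_prime_pow Nat.prime_two).1 h4
      rcases Nat.eq_zero_or_pos j with h6 | h6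
      · rw [hj, h6, pow_zero]
      · exfalso
        rw [hj] at ho
        exact (Nat.not_even_iff_odd.2 ho) ((Nat.even_pow.2 ⟨even_two, h6.ne'⟩))
    exact orderOf_eq_one_iff.1 h5
  have hp : IsPGroup 2 (K0 P (o2 P) V D hQ hV hD) := by
    rintro ⟨g, hg⟩
    obtain ⟨k, m, hm, e⟩ := Nat.exists_eq_two_pow_mul_odd (n := orderOf g) (orderOf_pos g).ne'
    refine ⟨k, Subtype.ext ?_⟩
    change g ^ 2 ^ k = 1
    refine key _ (pow_mem hg _) ?_
    rw [orderOf_pow' g (pow_ne_zero k two_ne_zero), e, Nat.gcd_mul_right_left, Nat.mul_div_cancel_left _ (by positivity)]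
    exact hm
  have hle : K0 P (o2 P) V D hQ hV hD ≤ P := fun g hg => hg.1
  have hn : P ≤ normalizer (K0 P (o2 P) V D hQ hV hD : Set G) := by
    intro p hp'
    refine SQ1.FFOne.mem_norm_of ?_
    rintro g ⟨hg, g1, g2⟩
    refine ⟨mul_mem (mul_mem hp' hg) (inv_mem hp'), fun x hx => ?_, fun x hx => ?_⟩
    · have h3 := hV p hp' _ (g1 _ (hQ p⁻¹ (inv_mem hp') x hx))
      have e : p * g * p⁻¹ * x * (p * g * p⁻¹)⁻¹ * x⁻¹ =
          p * (g * (p⁻¹ * x * p⁻¹⁻¹) * g⁻¹ * (p⁻¹ * x * p⁻¹⁻¹)⁻¹) * p⁻¹ := by group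
      rw [e]
      exact h3
    · have h3 := hD p hp' _ (g2 _ (hV p⁻¹ (inv_mem hp') x hx))
      have e : p * g * p⁻¹ * x * (p * g * p⁻¹)⁻¹ * x⁻¹ =
          p * (g * (p⁻¹ * x * p⁻¹⁻¹) * g⁻¹ * (p⁻¹ * x * p⁻¹⁻¹)⁻¹) * p⁻¹ := by group
      rw [e]
      exact h3
  exact le_o2 hle hp hn ⟨hg, h1, h2⟩

/-! ### The fields of `Mut` -/

section par

variable [Finite G] (hG : IsCharacteristicTwoType G) (S : Sylow 2 G) {P : Subgroup G}
  (h : IsParS (S : Subgroup G) P)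

include hG h

theorem zl_mul_self {v : G} (hv : v ∈ zl (S : Subgroup G) P) : v * v = 1 := by
  rw [← pow_two]
  exact zc_sq _ _ (h.isLoc.zl_le S hG hv)

theorem zl_le_o2 : zl (S : Subgroup G) P ≤ o2 P := (h.isLoc.zl_le S hG).trans (zc_le _)

theorem o2_comm {x v : G} (hx : x ∈ o2 P) (hv : v ∈ zl (S : Subgroup G) P) : x * v = v * x :=
  (mem_zc.1 (h.isLoc.zl_le S hG hv)).2.1 x hx

theorem mem_o2_of {x : G} (hx : x ∈ (S : Subgroup G)) (hc : ∀ v ∈ zl (S : Subgroup G) P, x * v = v * x) :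
    x ∈ o2 P := by
  rw [← IsParS.inf_centralizer S hG h]
  exact ⟨hx, mem_centralizer_iff.2 fun v hv => (hc v hv).symm⟩

/-- **`Side`** -/
theorem side : Side P (S : Subgroup G) (o2 P) (zl (S : Subgroup G) P) where
  SP := h.le
  QS := h.isLoc.o2_le S
  VQ := zl_le_o2 hG S h
  Qn _ hg x hx := (mem_normalizer_iff.1 (le_normalizer_o2 P hg) x).1 hx
  Vn _ hg _ hx := conj_mem_zl hg hx
  sq _ hv := zl_mul_self hG S h hv
  cen _ hx hc := mem_o2_of hG S h hx hc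
  com _ hx _ hv := o2_comm hG S h hx hv

/-- `C_G(O₂(P)) ≤ O₂(P)` -/
theorem cent_o2 {g : G} (hg : ∀ u ∈ o2 P, g * u = u * g) : g ∈ o2 P := by
  have h1 := (h.isLoc.normalizer_o2 S).char2 S hG
  have h2 : o2 (normalizer (o2 P : Set G)) ≤ o2 P := o2_le_o2 S h.le (le_normalizer_o2 P)
  refine h2 (h1 ⟨?_, ?_⟩)
  · exact centralizer_le_normalizer _ (mem_centralizer_iff.2 fun u hu => (hg u hu).symm)
  · exact mem_centralizer_iff.2 fun u hu => (hg u (h2 hu)).symm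

/-- `x ∈ S`, `[V, x] ≤ C_V(A)` implies `x ∈ A Q` -/
theorem act {F : Type} [Field F] [Finite F] [CharP F 2]
    {M : NatOver F P (zl (S : Subgroup G) P) (cv (S : Subgroup G) P)} {A : Subgroup G} (hAS : A ≤ (S : Subgroup G))
    {w : Fin 2 → F} (q : QuadP M A w) {x : G} (hx : x ∈ (S : Subgroup G))
    (hc : ∀ v ∈ zl (S : Subgroup G) P, x * v * x⁻¹ * v⁻¹ ∈ centralizer (A : Set G)) :
    ∃ y ∈ A, ∃ q ∈ o2 P, x = y * q := by
  set N := toSec M (cv_le _ _) (fun _ hh _ hv => conj_mem_zl hh hv) (fun _ hh _ hv => conj_mem_cv hh hv)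
  have hπ : ∀ g, N.π g = M.e g := fun g => rfl
  have hxP := h.le hx
  -- the action
  have hw := q.ne
  have hco : ∀ z : Fin 2 → F, ∃ c : F, N.act x z - z = c • w := by
    intro z
    obtain ⟨v, hv, rfl⟩ := M.surj z
    have h1 := conj_mem_zl (S := (S : Subgroup G)) hxP hv
    have h2 : x * v * x⁻¹ * v⁻¹ ∈ zl (S : Subgroup G) P := mul_mem h1 (inv_mem hv)
    have h3 : N.act x (M.e v) - M.e v = M.e (x * v * x⁻¹ * v⁻¹) := by
      have e := N.act_π hxP hv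
      rw [hπ, hπ] at e
      rw [e]
      exact (N.map_div h1 hv).symm
    rw [h3]
    exact (q.cent _ h2).1 fun a ha => mem_centralizer_iff.1 (hc v hv) a ha
  obtain ⟨s, hs⟩ := N.exists_semi hxP
  have hadd := fun y z => N.act_add hxP y z
  -- a vector off the line
  obtain ⟨D, hD⟩ := exists_ap_e hw
  let y₀ : Fin 2 → F := ap D ![0, 1]
  have hy₀ : dt w y₀ ≠ 0 := by
    have h1 := det_eq D
    rw [← hD]
    change dt (ap D ![1, 0]) (ap D ![0, 1]) ≠ 0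
    unfold dt
    rw [ap_zero', ap_zero', ap_one', ap_one']
    simp only [Matrix.cons_val_zero, Matrix.cons_val_one, mul_one, mul_zero, add_zero, zero_add]
    intro h2
    rw [show ent D 0 0 * ent D 1 1 - ent D 1 0 * ent D 0 1 = ent D 0 0 * ent D 1 1 - ent D 0 1 * ent D 1 0 by ring,
      h1] at h2
    exact one_ne_zero h2
  have hs1 : ∀ c : F, s c = c := by
    intro c
    obtain ⟨a, ha⟩ := hco y₀
    obtain ⟨b, hb⟩ := hco (c • y₀)
    rw [hs] at hb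
    have e1 : N.act x y₀ = y₀ + a • w := by rw [← ha]; abel
    rw [e1, smul_add, smul_smul] at hb
    have e2 : (s c - c) • y₀ = (b - s c * a) • w := by
      rw [sub_smul, sub_smul, ← hb]; abel
    by_contra hne
    have h3 : s c - c ≠ 0 := sub_ne_zero.2 hne
    have h4 : dt w ((s c - c) • y₀) = 0 := by
      rw [e2]
      simp only [dt, Pi.smul_apply, smul_eq_mul]; ring
    rw [dt_smul] at h4
    rcases mul_eq_zero.1 h4 with h5 | h5
    · exact h3 h5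
    · exact hy₀ h5
  have hlin : ∀ (c : F) z, N.act x (c • z) = c • N.act x z := fun c z => by rw [hs, hs1]
  -- `x w = w`
  have hxw : N.act x w = w := by
    obtain ⟨c, hc'⟩ := hco w
    have e1 : N.act x w = (1 + c) • w := by
      rw [add_smul, one_smul, ← hc']; abel
    have e2 : ∀ k : ℕ, N.act (x ^ k) w = (1 + c) ^ k • w := by
      intro k
      induction k with
      | zero => rw [pow_zero, pow_zero, one_smul, N.act_one]
      | succ k ih =>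
        rw [pow_succ', N.act_mul hxP (pow_mem hxP k), ih, hlin, e1, smul_smul, pow_succ]
    obtain ⟨k, hk⟩ := S.isPGroup' ⟨x, hx⟩
    have hk' : x ^ 2 ^ k = 1 := by simpa using congrArg Subtype.val hk
    have e3 := e2 (2 ^ k)
    rw [hk', N.act_one] at e3
    have e4 : ((1 + c) ^ 2 ^ k - 1) • w = 0 := by rw [sub_smul, one_smul, ← e3, sub_self]
    have e5 : (1 + c) ^ 2 ^ k - 1 = 0 := (smul_eq_zero.1 e4).resolve_right hw
    have e6 : ((1 + c) - 1) ^ 2 ^ k = 0 := by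
      rw [sub_pow_char_pow, one_pow, e5]
    have e7 : (1 + c) - 1 = 0 := pow_eq_zero_iff (pow_ne_zero k two_ne_zero) |>.1 e6
    rw [e1, sub_eq_zero.1 e7, one_smul]
  obtain ⟨B, hB⟩ := exists_of_fix hw (N.act x) hadd hlin hxw hco
  have hBw : ap B w = w := by rw [← hB, hxw]
  obtain ⟨y, hy, hy'⟩ := q.full B hBw
  have hyS := hAS hy
  refine ⟨y, hy, y⁻¹ * x, ?_, by group⟩
  have hyx : y⁻¹ * x ∈ (S : Subgroup G) := mul_mem (inv_mem hyS) hx
  refine mem_o2_of hG S h hyx (comm_of_sec hG S h M hyx ?_)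
  intro v hv
  have h1 := conj_mem_zl (S := (S : Subgroup G)) (h.le hyx) hv
  rw [← M.ker _ (mul_mem h1 (inv_mem hv))]
  have e1 : M.e (y⁻¹ * x * v * (y⁻¹ * x)⁻¹) = M.e v := by
    have e2 := N.act_π (h.le hyx) hv
    rw [hπ, hπ] at e2
    rw [← e2, N.act_mul (inv_mem (h.le hyS)) hxP, hB]
    have e3 := N.act_π (h.le hyS) hv
    rw [hπ, hπ, hy' v hv] at e3
    rw [← e3, N.act_inv_act (h.le hyS)]
  have e4 : M.e (y⁻¹ * x * v * (y⁻¹ * x)⁻¹ * v⁻¹) = M.e (y⁻¹ * x * v * (y⁻¹ * x)⁻¹) - M.e v := N.map_div h1 hv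
  rw [e4, e1, sub_self]

/-- `C_V(⟨A^P⟩) ≤ D` -/
theorem inf_le_cv {F : Type} [Field F] [Finite F] [CharP F 2]
    {M : NatOver F P (zl (S : Subgroup G) P) (cv (S : Subgroup G) P)} {A : Subgroup G}
    {w : Fin 2 → F} (q : QuadP M A w) {v : G} (hv : v ∈ zl (S : Subgroup G) P)
    (hc : ∀ g ∈ P, ∀ a ∈ A, v * (g * a * g⁻¹) = g * a * g⁻¹ * v) : v ∈ cv (S : Subgroup G) P := by
  have hw := q.ne
  have hy : ∃ y : Fin 2 → F, dt w y ≠ 0 := by
    by_contra hcon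
    push Not at hcon
    have h1 := hcon ![0, 1]
    have h2 := hcon ![1, 0]
    simp only [dt, Matrix.cons_val_zero, Matrix.cons_val_one, mul_one, mul_zero, sub_zero, zero_sub] at h1 h2
    exact hw (ext2 (by simpa using h1) (by simpa using h2))
  obtain ⟨y, hy⟩ := hy
  have hy0 : y ≠ 0 := by
    rintro rfl
    exact hy (by simp [dt])
  obtain ⟨C, hC⟩ := exists_ap hw hy0
  obtain ⟨g, hg, hg', -⟩ := M.lift C
  rw [← M.ker v hv]
  have h1 : ∃ c : F, M.e v = c • w := (q.cent v hv).1 fun a ha => by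
    have := hc 1 (one_mem _) a ha
    rw [one_mul, inv_one, mul_one] at this
    exact this.symm
  have hv' := conj_mem_zl (S := (S : Subgroup G)) (inv_mem hg) hv
  have h2 : ∃ c : F, M.e (g⁻¹ * v * g⁻¹⁻¹) = c • w := (q.cent _ hv').1 fun a ha => by
    have := hc g hg a ha
    calc a * (g⁻¹ * v * g⁻¹⁻¹) = g⁻¹ * (g * a * g⁻¹ * v) * g := by group
      _ = g⁻¹ * (v * (g * a * g⁻¹)) * g := by rw [this]
      _ = _ := by group
  obtain ⟨c, hc1⟩ := h1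
  obtain ⟨d, hd⟩ := h2
  have h3 := hg' _ hv'
  have e1 : g * (g⁻¹ * v * g⁻¹⁻¹) * g⁻¹ = v := by group
  rw [e1, hd, ap_smul, hC] at h3
  have h4 : dt w (d • y) = 0 := by
    rw [← h3, hc1]
    simp only [dt, Pi.smul_apply, smul_eq_mul]; ring
  rw [dt_smul] at h4
  have h5 : d = 0 := (mul_eq_zero.1 h4).resolve_right hy
  rw [h3, h5, zero_smul]

omit hG h in
/-- `|V : D| = q²` -/
theorem relIndex_cv {F : Type} [Field F] [Finite F]
    (M : NatOver F P (zl (S : Subgroup G) P) (cv (S : Subgroup G) P)) :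
    (cv (S : Subgroup G) P).relIndex (zl (S : Subgroup G) P) = Nat.card F * Nat.card F := by
  let φ : zl (S : Subgroup G) P →* Multiplicative (Fin 2 → F) :=
    MonoidHom.mk' (fun v => Multiplicative.ofAdd (M.e v)) (fun v w => by
      rw [← ofAdd_add]
      exact congrArg Multiplicative.ofAdd (M.mul v v.2 w w.2))
  have hφs : Function.Surjective φ := by
    intro x
    obtain ⟨v, hv, hx⟩ := M.surj (Multiplicative.toAdd x)
    exact ⟨⟨v, hv⟩, by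
      change Multiplicative.ofAdd (M.e v) = x
      rw [hx]; rfl⟩
  have h1 : (cv (S : Subgroup G) P).subgroupOf (zl (S : Subgroup G) P) = φ.ker := by
    ext u
    rw [mem_subgroupOf, ← M.ker _ u.2, MonoidHom.mem_ker]
    exact Iff.rfl
  have h2 : φ.range = ⊤ := MonoidHom.range_eq_top.2 hφs
  rw [relIndex, h1, index_ker, h2, card_top]
  have h4 : Nat.card (Multiplicative (Fin 2 → F)) = Nat.card (Fin 2 → F) :=
    Nat.card_congr Multiplicative.toAdd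
  rw [h4, Nat.card_fun]
  simp [pow_two]

/-- `P = ⟨A^P⟩ S` -/
theorem gen {A : Subgroup G} (hAS : A ≤ (S : Subgroup G))
    (hne : ∃ a ∈ A, ∃ v ∈ zl (S : Subgroup G) P, a * v ≠ v * a) (K : Subgroup G) (hSK : (S : Subgroup G) ≤ K)
    (hK : ∀ g ∈ P, ∀ x ∈ A, g * x * g⁻¹ ∈ K) : P ≤ K := by
  let N : Subgroup G := closure {x | ∃ p ∈ P, ∃ a ∈ A, x = p * a * p⁻¹}
  have hNP : N ≤ P := by
    rw [closure_le]
    rintro _ ⟨p, hp, a, ha, rfl⟩
    exact mul_mem (mul_mem hp (h.le (hAS ha))) (inv_mem hp)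
  have hn : P ≤ normalizer (N : Set G) := by
    intro p hp
    refine SQ1.FFOne.mem_norm_of fun k hk => ?_
    have h1 : N ≤ N.comap (MulAut.conj p).toMonoidHom := by
      conv_lhs => rw [show N = closure {x | ∃ p ∈ P, ∃ a ∈ A, x = p * a * p⁻¹} from rfl]
      rw [closure_le]
      rintro _ ⟨g, hg, a, ha, rfl⟩
      change p * (g * a * g⁻¹) * p⁻¹ ∈ N
      exact subset_closure ⟨p * g, mul_mem hp hg, a, ha, by group⟩
    exact h1 hk
  rcases h.toIsPar.sup_eq_or_inf_le S hNP hn with h1 | h1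
  · rw [← h1]
    refine sup_le ?_ hSK
    rw [closure_le]
    rintro _ ⟨p, hp, a, ha, rfl⟩
    exact hK p hp a ha
  · exfalso
    obtain ⟨a, ha, v, hv, hav⟩ := hne
    have h2 : a ∈ o2 P := h1 ⟨hAS ha, subset_closure ⟨1, one_mem _, a, ha, by group⟩⟩
    exact hav (o2_comm hG S h h2 hv)

end par

section pair

variable [Finite G] (hG : IsCharacteristicTwoType G) (S : Sylow 2 G) {P₁ P₂ : Subgroup G}
  (h₁ : IsParS (S : Subgroup G) P₁) (h₂ : IsParS (S : Subgroup G) P₂)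
  {F₁ F₂ : Type} [Field F₁] [Finite F₁] [CharP F₁ 2] [Field F₂] [Finite F₂] [CharP F₂ 2]
  {M₁ : NatOver F₁ P₁ (zl (S : Subgroup G) P₁) (cv (S : Subgroup G) P₁)}
  {M₂ : NatOver F₂ P₂ (zl (S : Subgroup G) P₂) (cv (S : Subgroup G) P₂)} {w₁ : Fin 2 → F₁} {w₂ : Fin 2 → F₂}
  (q₁ : QuadP M₁ (zl (S : Subgroup G) P₂) w₁) (q₂ : QuadP M₂ (zl (S : Subgroup G) P₁) w₂)

include hG h₁ h₂

/-- no nontrivial subgroup of `S` is normal in `P₁` and `P₂` -/
theorem core (hne : ⁅zl (S : Subgroup G) P₁, zl (S : Subgroup G) P₂⁆ ≠ ⊥) (X : Subgroup G)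
    (hX : X ≤ (S : Subgroup G)) (h1 : ∀ g ∈ P₁, ∀ x ∈ X, g * x * g⁻¹ ∈ X)
    (h2 : ∀ g ∈ P₂, ∀ x ∈ X, g * x * g⁻¹ ∈ X) : X = ⊥ := by
  by_contra hX1
  have hn : P₁ ⊔ P₂ ≤ normalizer (X : Set G) :=
    sup_le (fun g hg => SQ1.FFOne.mem_norm_of (h1 g hg)) fun g hg => SQ1.FFOne.mem_norm_of (h2 g hg)
  have hL : IsLoc (S : Subgroup G) (P₁ ⊔ P₂) :=
    isLoc_of_le_normalizer S (h₁.le.trans le_sup_left) (S.isPGroup'.to_le hX) hX1 hn
  have h3 := hL.zl_le S hG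
  have h4 : zl (S : Subgroup G) P₁ ≤ zl (S : Subgroup G) (P₁ ⊔ P₂) :=
    MinSimple.VModule.zl_le (MinSimple.VModule.zc_le_zl _ _) (le_sup_left.trans (le_normalizer_zl _ _))
  have h5 : zl (S : Subgroup G) P₂ ≤ zl (S : Subgroup G) (P₁ ⊔ P₂) :=
    MinSimple.VModule.zl_le (MinSimple.VModule.zc_le_zl _ _) (le_sup_right.trans (le_normalizer_zl _ _))
  apply hne
  rw [commutator_eq_bot_iff_le_centralizer]
  intro v hv
  exact mem_centralizer_iff.2 fun a ha => zc_comm _ _ (h3 (h5 ha)) _ (h3 (h4 hv))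

include q₂

/-- `Q₁ = V₁ (Q₁ ∩ Q₂)` -/
theorem dec {x : G} (hx : x ∈ o2 P₁) : ∃ v ∈ zl (S : Subgroup G) P₁, ∃ y ∈ o2 P₂, x = v * y := by
  have s₁ := side hG S h₁
  have s₂ := side hG S h₂
  refine act hG S h₂ (s₁.VQ.trans s₁.QS) q₂ (s₁.QS hx) fun v hv => ?_
  rw [mem_centralizer_iff]
  have hvS : v ∈ (S : Subgroup G) := s₂.QS (s₂.VQ hv)
  have h3 : x * v * x⁻¹ * v⁻¹ ∈ o2 P₁ := by
    have e : x * v * x⁻¹ * v⁻¹ = x * (v * x⁻¹ * v⁻¹) := by group
    rw [e]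
    exact mul_mem hx (s₁.Qn v (h₁.le hvS) _ (inv_mem hx))
  exact fun u hu => (s₁.com _ h3 u hu).symm

/-- `[Q₁, ⟨V₂^{P₁}⟩] ≤ V₁` -/
theorem comm_le {l : G} (hl : l ∈ closure {x | ∃ p ∈ P₁, ∃ a ∈ zl (S : Subgroup G) P₂, x = p * a * p⁻¹}) :
    l ∈ P₁ ∧ ∀ x ∈ o2 P₁, l * x * l⁻¹ * x⁻¹ ∈ zl (S : Subgroup G) P₁ := by
  have s₁ := side hG S h₁
  have s₂ := side hG S h₂
  have hA : ∀ a ∈ zl (S : Subgroup G) P₂, a ∈ P₁ := fun a ha => h₁.le (s₂.QS (s₂.VQ ha))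
  let K : Subgroup G :=
    { carrier := {g | g ∈ P₁ ∧ ∀ x ∈ o2 P₁, g * x * g⁻¹ * x⁻¹ ∈ zl (S : Subgroup G) P₁}
      one_mem' := ⟨one_mem _, fun x _ => by simp⟩
      mul_mem' := by
        rintro a b ⟨ha, ha1⟩ ⟨hb, hb1⟩
        refine ⟨mul_mem ha hb, fun x hx => ?_⟩
        have e : a * b * x * (a * b)⁻¹ * x⁻¹ = (a * (b * x * b⁻¹ * x⁻¹) * a⁻¹) * (a * x * a⁻¹ * x⁻¹) := by group
        rw [e]
        exact mul_mem (s₁.Vn a ha _ (hb1 x hx)) (ha1 x hx)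
      inv_mem' := by
        rintro a ⟨ha, ha1⟩
        refine ⟨inv_mem ha, fun x hx => ?_⟩
        have h1 := ha1 _ (s₁.Qn a⁻¹ (inv_mem ha) x hx)
        have e : a⁻¹ * x * a⁻¹⁻¹ * x⁻¹ = (a * (a⁻¹ * x * a⁻¹⁻¹) * a⁻¹ * (a⁻¹ * x * a⁻¹⁻¹)⁻¹)⁻¹ := by group
        rw [e]
        exact inv_mem h1 }
  have hK : closure {x | ∃ p ∈ P₁, ∃ a ∈ zl (S : Subgroup G) P₂, x = p * a * p⁻¹} ≤ K := by
    rw [closure_le]
    rintro _ ⟨p, hp, a, ha, rfl⟩
    have haP := hA a ha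
    refine ⟨mul_mem (mul_mem hp haP) (inv_mem hp), fun x hx => ?_⟩
    have hx' := s₁.Qn p⁻¹ (inv_mem hp) x hx
    obtain ⟨v, hv, y, hy, e⟩ := dec hG S h₁ h₂ q₂ hx'
    have hay : a * y * a⁻¹ * y⁻¹ = 1 := by
      have := s₂.com y hy a ha
      rw [← this]; group
    have e1 : a * (p⁻¹ * x * p⁻¹⁻¹) * a⁻¹ * (p⁻¹ * x * p⁻¹⁻¹)⁻¹ = a * v * a⁻¹ * v⁻¹ := by
      rw [e]
      calc a * (v * y) * a⁻¹ * (v * y)⁻¹ = (a * v * a⁻¹) * (a * y * a⁻¹ * y⁻¹) * v⁻¹ := by group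
        _ = _ := by rw [hay]; group
    have e2 : p * a * p⁻¹ * x * (p * a * p⁻¹)⁻¹ * x⁻¹ =
        p * (a * (p⁻¹ * x * p⁻¹⁻¹) * a⁻¹ * (p⁻¹ * x * p⁻¹⁻¹)⁻¹) * p⁻¹ := by group
    rw [e2, e1]
    exact s₁.Vn p hp _ (mul_mem (s₁.Vn a haP v hv) (inv_mem hv))
  exact hK hl

include q₁

/-- **two conjugates of `V₂` generate `⟨V₂^{P₁}⟩` modulo `Q₁`** -/
theorem two : ∃ g ∈ P₁, ∀ K : Subgroup G, zl (S : Subgroup G) P₂ ≤ K →
    (∀ x ∈ zl (S : Subgroup G) P₂, g * x * g⁻¹ ∈ K) → o2 P₁ ≤ K →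
    ∀ h ∈ P₁, ∀ x ∈ zl (S : Subgroup G) P₂, h * x * h⁻¹ ∈ K := by
  have s₁ := side hG S h₁
  have s₂ := side hG S h₂
  have hA : ∀ a ∈ zl (S : Subgroup G) P₂, a ∈ P₁ := fun a ha => h₁.le (s₂.QS (s₂.VQ ha))
  have he0 : (![0, 1] : Fin 2 → F₁) ≠ 0 := fun h => by simpa using congrFun h 1
  obtain ⟨D, hD⟩ := exists_ap_e q₁.ne
  have hDe : ap D ![0, 1] ≠ 0 := by
    intro h0
    apply he0
    have := ap_inv_ap D ![0, 1]
    rw [h0] at this
    rw [← this]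
    ext i
    fin_cases i
    · change ap D⁻¹ 0 0 = 0
      rw [ap_zero']; simp
    · change ap D⁻¹ 0 1 = 0
      rw [ap_one']; simp
  obtain ⟨E, hE⟩ := exists_ap q₁.ne hDe
  obtain ⟨g, hg, hg', -⟩ := M₁.lift E
  refine ⟨g, hg, fun K hK1 hK2 hK3 h hh x hx => ?_⟩
  -- `T = ⟨V₂, V₂^g⟩`
  let T : Subgroup G := K ⊓ closure {x | ∃ p ∈ P₁, ∃ a ∈ zl (S : Subgroup G) P₂, x = p * a * p⁻¹}
  have hTP : ∀ t ∈ T, t ∈ P₁ := fun t ht => (comm_le hG S h₁ h₂ q₂ ht.2).1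
  have hgi : ∀ v ∈ zl (S : Subgroup G) P₁, M₁.e (g⁻¹ * v * g⁻¹⁻¹) = ap E⁻¹ (M₁.e v) := by
    intro v hv
    have h1 := hg' _ (s₁.Vn g⁻¹ (inv_mem hg) v hv)
    have e1 : g * (g⁻¹ * v * g⁻¹⁻¹) * g⁻¹ = v := by group
    rw [e1] at h1
    rw [h1, ap_inv_ap]
  let KT : Subgroup (Matrix.SpecialLinearGroup (Fin 2) F₁) :=
    { carrier := {B | ∃ l ∈ T, ∀ v ∈ zl (S : Subgroup G) P₁, M₁.e (l * v * l⁻¹) = ap B (M₁.e v)}
      one_mem' := ⟨1, one_mem _, fun v _ => by rw [ap_one]; simp⟩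
      mul_mem' := by
        rintro B B' ⟨g, hg, hB⟩ ⟨g', hg', hB'⟩
        refine ⟨g * g', mul_mem hg hg', fun v hv => ?_⟩
        have e1 : g * g' * v * (g * g')⁻¹ = g * (g' * v * g'⁻¹) * g⁻¹ := by group
        rw [e1, hB _ (s₁.Vn g' (hTP _ hg') v hv), hB' v hv, ap_mul]
      inv_mem' := by
        rintro B ⟨g, hg, hB⟩
        refine ⟨g⁻¹, inv_mem hg, fun v hv => ?_⟩
        have h1 := hB _ (s₁.Vn g⁻¹ (inv_mem (hTP _ hg)) v hv)
        have e1 : g * (g⁻¹ * v * g⁻¹⁻¹) * g⁻¹ = v := by group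
        rw [e1] at h1
        rw [h1, ap_inv_ap] }
  have hKT1 : ∀ B, ap B w₁ = w₁ → B ∈ KT := by
    intro B hB
    obtain ⟨a, ha, ha'⟩ := q₁.full B hB
    exact ⟨a, ⟨hK1 ha, subset_closure ⟨1, one_mem _, a, ha, by group⟩⟩, ha'⟩
  have hKT2 : ∀ B, ap B w₁ = w₁ → E * B * E⁻¹ ∈ KT := by
    intro B hB
    obtain ⟨a, ha, ha'⟩ := q₁.full B hB
    refine ⟨g * a * g⁻¹, ⟨hK2 a ha, subset_closure ⟨g, hg, a, ha, rfl⟩⟩, fun v hv => ?_⟩
    have hv1 := s₁.Vn g⁻¹ (inv_mem hg) v hv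
    have hv2 := s₁.Vn a (hA a ha) _ hv1
    have e1 : g * a * g⁻¹ * v * (g * a * g⁻¹)⁻¹ = g * (a * (g⁻¹ * v * g⁻¹⁻¹) * a⁻¹) * g⁻¹ := by group
    rw [e1, hg' _ hv2, ha' _ hv1, hgi v hv, ap_mul, ap_mul]
  have hall : ∀ B, B ∈ KT := by
    intro B
    have h1 : D⁻¹ * B * D ∈ KT.comap (MulAut.conj D).toMonoidHom := by
      refine FFOne.mem_of_lo_up _ (fun b => ?_) (fun b => ?_) _
      · change D * lo b * D⁻¹ ∈ KT
        have h2 := hKT2 (E⁻¹ * (D * lo b * D⁻¹) * E) (by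
          rw [ap_mul, ap_mul, hE, ap_mul, ap_mul, ap_inv_ap, FFOne.ap_lo_e, ← hE, ap_inv_ap])
        have e1 : E * (E⁻¹ * (D * lo b * D⁻¹) * E) * E⁻¹ = D * lo b * D⁻¹ := by group
        rwa [e1] at h2
      · change D * up b * D⁻¹ ∈ KT
        exact hKT1 _ (by rw [← hD, ap_mul, ap_mul, ap_inv_ap, ap_up_e])
    change D * (D⁻¹ * B * D) * D⁻¹ ∈ KT at h1
    have e1 : D * (D⁻¹ * B * D) * D⁻¹ = B := by group
    rwa [e1] at h1
  -- the element `h x h⁻¹`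
  have hl : h * x * h⁻¹ ∈ closure {x | ∃ p ∈ P₁, ∃ a ∈ zl (S : Subgroup G) P₂, x = p * a * p⁻¹} :=
    subset_closure ⟨h, hh, x, hx, rfl⟩
  obtain ⟨B, -, hB⟩ := q₁.lin x hx
  obtain ⟨B', hB'⟩ := M₁.norm h hh x (hA x hx) B hB
  obtain ⟨t, ht, ht'⟩ := hall B'
  have htl : t⁻¹ * (h * x * h⁻¹) ∈ closure {x | ∃ p ∈ P₁, ∃ a ∈ zl (S : Subgroup G) P₂, x = p * a * p⁻¹} :=
    mul_mem (inv_mem ht.2) hl
  obtain ⟨hP, hcm⟩ := comm_le hG S h₁ h₂ q₂ htl
  have h3 : t⁻¹ * (h * x * h⁻¹) ∈ o2 P₁ := by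
    refine mem_of_K0 (cv_le _ _) s₁.Vn (fun g hg x hx => conj_mem_cv hg hx) s₁.sq ?_ (h₁.isLoc.char2 S hG) hP hcm ?_
    · intro g hg ho d hd
      exact mem_centralizer_iff.1 hd.2 g (mem_oddGen hg ho)
    · intro v hv
      have hv1 := s₁.Vn _ hP v hv
      rw [← M₁.ker _ (mul_mem hv1 (inv_mem hv))]
      have e1 : M₁.e (t⁻¹ * (h * x * h⁻¹) * v * (t⁻¹ * (h * x * h⁻¹))⁻¹) = M₁.e v := by
        have hv2 := s₁.Vn (h * x * h⁻¹) (comm_le hG S h₁ h₂ q₂ hl).1 v hv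
        have hv3 := s₁.Vn t⁻¹ (inv_mem (hTP t ht)) _ hv2
        have e2 := ht' _ hv3
        have e3 : t * (t⁻¹ * (h * x * h⁻¹ * v * (h * x * h⁻¹)⁻¹) * t⁻¹⁻¹) * t⁻¹ =
            h * x * h⁻¹ * v * (h * x * h⁻¹)⁻¹ := by group
        rw [e3, hB' v hv] at e2
        have e4 : t⁻¹ * (h * x * h⁻¹) * v * (t⁻¹ * (h * x * h⁻¹))⁻¹ =
            t⁻¹ * (h * x * h⁻¹ * v * (h * x * h⁻¹)⁻¹) * t⁻¹⁻¹ := by group
        rw [e4]
        have e5 := congrArg (ap B'⁻¹) e2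
        rw [ap_inv_ap, ap_inv_ap] at e5
        exact e5.symm
      have e2 := M₁.mul _ (mul_mem hv1 (inv_mem hv)) v hv
      rw [inv_mul_cancel_right, e1] at e2
      exact (left_eq_add.1 (by rw [add_comm]; exact e2))
  have h4 : h * x * h⁻¹ = t * (t⁻¹ * (h * x * h⁻¹)) := by group
  rw [h4]
  exact mul_mem ht.1 (hK3 h3)

/-- **`Off`** -/
theorem off : Off P₁ (S : Subgroup G) (o2 P₁) (zl (S : Subgroup G) P₁) (zl (S : Subgroup G) P₂) (Nat.card F₁) where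
  idx := by
    rw [← q₁.idxV, relIndex, relIndex, inf_comm, inf_subgroupOf_right]
  act _ hx hc := act hG S h₁ ((side hG S h₂).VQ.trans (side hG S h₂).QS) q₁ hx hc
  two := two hG S h₁ h₂ q₁ q₂
  full := by
    rw [← relIndex_cv S M₁]
    refine relIndex_le_of_le_left ?_ index_ne_zero_of_finite
    rintro v ⟨hv, hc⟩
    refine inf_le_cv hG S h₁ q₁ hv fun g hg a ha => ?_
    have h1 := mem_iInf.1 hc ⟨g, hg⟩
    exact (mem_centralizer_iff.1 h1 _ ⟨a, ha, rfl⟩).symm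
  gen := by
    refine gen hG S h₁ ((side hG S h₂).VQ.trans (side hG S h₂).QS) ?_
    by_contra hcon
    push Not at hcon
    obtain ⟨B, hB1, hB2⟩ : ∃ B, ap B w₁ = w₁ ∧ ∃ v ∈ zl (S : Subgroup G) P₁, ap B (M₁.e v) ≠ M₁.e v := by
      obtain ⟨D, hD⟩ := exists_ap_e q₁.ne
      refine ⟨D * up 1 * D⁻¹, by rw [← hD, ap_mul, ap_mul, ap_inv_ap, ap_up_e], ?_⟩
      obtain ⟨v, hv, hv'⟩ := M₁.surj (ap D ![0, 1])
      refine ⟨v, hv, fun h0 => ?_⟩
      rw [hv', ap_mul, ap_mul, ap_inv_ap] at h0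
      have h1 := congrArg (ap D⁻¹) h0
      rw [ap_inv_ap, ap_inv_ap] at h1
      have h2 := congrFun h1 0
      rw [ap_zero', up_00, up_01] at h2
      simp at h2
    obtain ⟨v, hv, hv'⟩ := hB2
    obtain ⟨a, ha, ha'⟩ := q₁.full B hB1
    apply hv'
    rw [← ha' v hv, hcon a ha v hv, mul_inv_cancel_right]

end pair

/-- **The structure `Mut`** for two members of `P*(S)` which do not commute. -/
theorem exists_mut [Finite G] (hG : IsCharacteristicTwoType G) (S : Sylow 2 G) {P₁ P₂ : Subgroup G}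
    (h₁ : IsParS (S : Subgroup G) P₁) (h₂ : IsParS (S : Subgroup G) P₂)
    {F₁ F₂ : Type} [Field F₁] [Finite F₁] [CharP F₁ 2] [Field F₂] [Finite F₂] [CharP F₂ 2]
    (M₁ : NatOver F₁ P₁ (zl (S : Subgroup G) P₁) (cv (S : Subgroup G) P₁))
    (M₂ : NatOver F₂ P₂ (zl (S : Subgroup G) P₂) (cv (S : Subgroup G) P₂))
    (hne : ⁅zl (S : Subgroup G) P₁, zl (S : Subgroup G) P₂⁆ ≠ ⊥) :
    Mut P₁ P₂ (S : Subgroup G) (o2 P₁) (o2 P₂) (zl (S : Subgroup G) P₁) (zl (S : Subgroup G) P₂) (Nat.card F₁) ∧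
      (∃ w, QuadP M₁ (zl (S : Subgroup G) P₂) w) ∧ ∃ w, QuadP M₂ (zl (S : Subgroup G) P₁) w := by
  have s₁ := side hG S h₁
  have s₂ := side hG S h₂
  obtain ⟨hc, ⟨w₁, q₁⟩, ⟨w₂, q₂⟩⟩ := pairPar hG S h₁ S h₂ M₁ M₂ (s₂.VQ.trans s₂.QS) (s₁.VQ.trans s₁.QS) hne
  refine ⟨⟨s₁, s₂, off hG S h₁ h₂ q₁ q₂, ?_, core hG S h₁ h₂ hne⟩, ⟨w₁, q₁⟩, ⟨w₂, q₂⟩⟩
  rw [hc]
  exact off hG S h₂ h₁ q₂ q₁

/-- **`S = Q₁Q₂` is of type `L₃(q)` or `Sp₄(q)`, or `q = 4` and `Q₁Q₂` is of type `L₃(4)`.** -/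
theorem exit [Finite G] (hG : IsCharacteristicTwoType G) (S : Sylow 2 G) {P₁ P₂ : Subgroup G}
    (h₁ : IsParS (S : Subgroup G) P₁) (h₂ : IsParS (S : Subgroup G) P₂)
    {F₁ F₂ : Type} [Field F₁] [Finite F₁] [CharP F₁ 2] [Field F₂] [Finite F₂] [CharP F₂ 2]
    (M₁ : NatOver F₁ P₁ (zl (S : Subgroup G) P₁) (cv (S : Subgroup G) P₁))
    (M₂ : NatOver F₂ P₂ (zl (S : Subgroup G) P₂) (cv (S : Subgroup G) P₂))
    (hne : ⁅zl (S : Subgroup G) P₁, zl (S : Subgroup G) P₂⁆ ≠ ⊥) (hF : 2 < Nat.card F₁) :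
    (∃ X Y Z : G → F₁, CloseA.Co3 (o2 P₁) (o2 P₂) (o2 P₁ ⊓ o2 P₂) X Y Z ∧
        ((S : Subgroup G) = o2 P₁ ⊔ o2 P₂ ∨ Nat.card F₁ = 4)) ∨
      ∃ (C₁ C₂ : Subgroup G) (X Y Z Z' : G → F₁),
        CloseA.Co4 (o2 P₁) (o2 P₂) (o2 P₁ ⊓ o2 P₂) C₁ C₂ X Y Z Z' ∧ (S : Subgroup G) = o2 P₁ ⊔ o2 P₂ := by
  obtain ⟨m, ⟨w₁, q₁⟩, ⟨w₂, q₂⟩⟩ := exists_mut hG S h₁ h₂ M₁ M₂ hne
  rcases m.exit (fun g hg => cent_o2 hG S h₁ hg) (fun g hg => cent_o2 hG S h₂ hg)
    (natTwo M₁) (quadOver q₁) (cv_le _ _) (fun p hp d hd => conj_mem_cv hp hd)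
    (natTwo M₂) (quadOver q₂) (cv_le _ _) (fun p hp d hd => conj_mem_cv hp hd) hF
    (CloseA.CTs_of hG _ _) with h | ⟨X, Y, Z, Z', h, h'⟩
  · exact Or.inl h
  · exact Or.inr ⟨_, _, X, Y, Z, Z', h, h'⟩

end Cfsg.Agent.Omega.HOne.NSMut

end

section


/-!
# Normal forms with four parameters

`NForm H n`: `H = n(F⁴)`, `n` injective with the multiplication of a Sylow 2-subgroup of `Sp₄(F)`.
`NForm.equiv`: two such groups are isomorphic.
`sect`: additive sections of maps from elementary abelian 2-groups.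
-/

set_option autoImplicit false

namespace Cfsg.Agent.Omega.CloseA.IdFour

/-- `H` is the set of all `n a p b q`, with the multiplication of a Sylow 2-subgroup of `Sp₄(F)`. -/
structure NForm {G : Type*} [Group G] {F : Type*} [Field F] (H : Subgroup G) (n : F → F → F → F → G) :
    Prop where
  mem : ∀ a p b q, n a p b q ∈ H
  ex : ∀ g ∈ H, ∃ a p b q, g = n a p b q
  inj : ∀ a p b q a' p' b' q', n a p b q = n a' p' b' q' → a = a' ∧ p = p' ∧ b = b' ∧ q = q'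
  mul : ∀ a p b q a' p' b' q',
    n a p b q * n a' p' b' q' = n (a + a') (p + a' * a' * q + p') (b + a' * q + b') (q + q')

/-- Two groups with these normal forms are isomorphic. -/
theorem NForm.equiv {G K : Type*} [Group G] [Group K] {F : Type*} [Field F] {H : Subgroup G}
    {H' : Subgroup K} {n : F → F → F → F → G} {n' : F → F → F → F → K} (h : NForm H n)
    (h' : NForm H' n') : Nonempty (↥H ≃* ↥H') := by
  choose! a p b q e using h.ex
  have ha : ∀ a₀ p₀ b₀ q₀, a (n a₀ p₀ b₀ q₀) = a₀ ∧ p (n a₀ p₀ b₀ q₀) = p₀ ∧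
      b (n a₀ p₀ b₀ q₀) = b₀ ∧ q (n a₀ p₀ b₀ q₀) = q₀ := by
    intro a₀ p₀ b₀ q₀
    obtain ⟨h1, h2, h3, h4⟩ := h.inj _ _ _ _ _ _ _ _ (e _ (h.mem a₀ p₀ b₀ q₀))
    exact ⟨h1.symm, h2.symm, h3.symm, h4.symm⟩
  let f : ↥H →* ↥H' := MonoidHom.mk' (fun g => ⟨n' (a g) (p g) (b g) (q g), h'.mem _ _ _ _⟩) (by
    rintro ⟨g, hg⟩ ⟨k, hk⟩
    apply Subtype.ext
    obtain ⟨a₀, p₀, b₀, q₀, rfl⟩ := h.ex g hg
    obtain ⟨a₁, p₁, b₁, q₁, rfl⟩ := h.ex k hk
    change n' (a (n a₀ p₀ b₀ q₀ * n a₁ p₁ b₁ q₁)) (p (n a₀ p₀ b₀ q₀ * n a₁ p₁ b₁ q₁))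
      (b (n a₀ p₀ b₀ q₀ * n a₁ p₁ b₁ q₁)) (q (n a₀ p₀ b₀ q₀ * n a₁ p₁ b₁ q₁)) =
      n' (a (n a₀ p₀ b₀ q₀)) (p (n a₀ p₀ b₀ q₀)) (b (n a₀ p₀ b₀ q₀)) (q (n a₀ p₀ b₀ q₀)) *
      n' (a (n a₁ p₁ b₁ q₁)) (p (n a₁ p₁ b₁ q₁)) (b (n a₁ p₁ b₁ q₁)) (q (n a₁ p₁ b₁ q₁))
    rw [h.mul]
    obtain ⟨h1, h2, h3, h4⟩ := ha a₀ p₀ b₀ q₀
    obtain ⟨k1, k2, k3, k4⟩ := ha a₁ p₁ b₁ q₁
    obtain ⟨m1, m2, m3, m4⟩ := ha (a₀ + a₁) (p₀ + a₁ * a₁ * q₀ + p₁) (b₀ + a₁ * q₀ + b₁) (q₀ + q₁)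
    rw [h1, h2, h3, h4, k1, k2, k3, k4, m1, m2, m3, m4, h'.mul])
  refine ⟨MulEquiv.ofBijective f ⟨?_, ?_⟩⟩
  · rintro ⟨g, hg⟩ ⟨k, hk⟩ hgk
    apply Subtype.ext
    have h1 : n' (a g) (p g) (b g) (q g) = n' (a k) (p k) (b k) (q k) := congrArg Subtype.val hgk
    obtain ⟨h2, h3, h4, h5⟩ := h'.inj _ _ _ _ _ _ _ _ h1
    change g = k
    rw [e g hg, e k hk, h2, h3, h4, h5]
  · rintro ⟨k, hk⟩
    obtain ⟨a₀, p₀, b₀, q₀, rfl⟩ := h'.ex k hk
    refine ⟨⟨n a₀ p₀ b₀ q₀, h.mem _ _ _ _⟩, Subtype.ext ?_⟩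
    obtain ⟨h1, h2, h3, h4⟩ := ha a₀ p₀ b₀ q₀
    change n' (a (n a₀ p₀ b₀ q₀)) (p (n a₀ p₀ b₀ q₀)) (b (n a₀ p₀ b₀ q₀)) (q (n a₀ p₀ b₀ q₀)) = _
    rw [h1, h2, h3, h4]

/-- Additive maps from an elementary abelian 2-group onto a field of characteristic 2 split. -/
theorem sect {G : Type*} [Group G] {F : Type*} [Field F] [CharP F 2] {Q : Subgroup G} {x : G → F}
    (sq : ∀ u ∈ Q, u * u = 1) (x_mul : ∀ u ∈ Q, ∀ v ∈ Q, x (u * v) = x u + x v)
    (x_surj : ∀ a, ∃ u ∈ Q, x u = a) :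
    ∃ s : F → G, (∀ a, s a ∈ Q) ∧ (∀ a, x (s a) = a) ∧ ∀ a b, s (a + b) = s a * s b := by
  have hcomm : ∀ u v : ↥Q, u * v = v * u := by
    intro u v
    have h1 : u * v * (u * v) = 1 := Subtype.ext (sq _ (mul_mem u.2 v.2))
    have h2 : u⁻¹ = u := inv_eq_of_mul_eq_one_left (Subtype.ext (sq _ u.2))
    have h3 : v⁻¹ = v := inv_eq_of_mul_eq_one_left (Subtype.ext (sq _ v.2))
    have h4 : u * v = (u * v)⁻¹ := eq_inv_of_mul_eq_one_left h1
    rw [h4, mul_inv_rev, h2, h3]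
  let _ : CommGroup ↥Q := { (inferInstance : Group ↥Q) with mul_comm := hcomm }
  let _ : Module (ZMod 2) (Additive ↥Q) := AddCommGroup.zmodModule (fun u => by
    rw [two_nsmul]
    exact Subtype.ext (sq _ (Additive.toMul u).2))
  let _ : Module (ZMod 2) F := AddCommGroup.zmodModule (fun u => by
    rw [two_nsmul]
    exact CharTwo.add_self_eq_zero u)
  let f : Additive ↥Q →+ F := AddMonoidHom.mk' (fun u => x (Additive.toMul u).1)
    (fun u v => x_mul _ (Additive.toMul u).2 _ (Additive.toMul v).2)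
  have hf : Function.Surjective (f.toZModLinearMap 2) := by
    intro a
    obtain ⟨u, hu, e⟩ := x_surj a
    exact ⟨Additive.ofMul ⟨u, hu⟩, e⟩
  obtain ⟨g, hg⟩ := (f.toZModLinearMap 2).exists_rightInverse_of_surjective
    (LinearMap.range_eq_top.2 hf)
  refine ⟨fun a => (Additive.toMul (g a)).1, fun a => (Additive.toMul (g a)).2, fun a => ?_,
    fun a b => ?_⟩
  · exact LinearMap.congr_fun hg a
  · change (Additive.toMul (g (a + b))).1 = _
    rw [map_add]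
    rfl

end Cfsg.Agent.Omega.CloseA.IdFour

end

section


/-!
# Closings of type `L₃(q)`: for `q = 4` the sectional 2-rank of `G` is at most 4
-/

set_option autoImplicit false

namespace Cfsg.Agent.Omega.CloseA

open Cfsg.Agent.TwoFusion.SectionalRank

variable {G : Type*} [Group G] [Finite G] {F : Type*} [Field F] [Finite F]
variable {S S0 D Q₁ Q₂ : Subgroup G} {x y z : G → F}

omit [Finite G] [Finite F] in
theorem Co3.card_D (h : Co3 Q₁ Q₂ D x y z) : Nat.card D = Nat.card F := by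
  refine Nat.card_congr (Equiv.ofBijective (fun d : D => z d) ⟨?_, ?_⟩)
  · intro d e hde
    have h1 := (h.hz.eq_iff d.2 e.2).1 hde
    exact Subtype.ext (mul_inv_eq_one.1 (Subgroup.mem_bot.1 h1))
  · intro a
    obtain ⟨u, hu, h1⟩ := h.z_surj a
    exact ⟨⟨u, hu⟩, h1⟩

theorem Co3.card_S0 (h : Co3 Q₁ Q₂ D x y z) (c : Ctx S S0 D Q₁ Q₂) :
    Nat.card S0 ≤ Nat.card Q₁ * Nat.card F := by
  choose v hv hvy using h.y_surj
  rw [← Nat.card_prod]
  refine Nat.card_le_card_of_surjective (fun p : Q₁ × F => (⟨p.1 * v p.2, ?_⟩ : S0)) ?_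
  · exact (c.sup _).2 ⟨p.1, p.1.2, v p.2, hv _, rfl⟩
  · rintro ⟨g, hg⟩
    obtain ⟨a, ha, b, hb, rfl⟩ := (c.sup g).1 hg
    have h3 : b * (v (y b))⁻¹ ∈ D := by
      rw [← h.hy.eq_iff hb (hv _), hvy]
    refine ⟨(⟨a * (b * (v (y b))⁻¹), mul_mem ha (c.D₁ h3)⟩, y b), Subtype.ext ?_⟩
    show a * (b * (v (y b))⁻¹) * v (y b) = a * b
    group

omit [Finite G] in
/-- In type `L₃` a subgroup of index at most two of `S₀` has derived group `D`. -/
theorem Co3.D_le_of_index (h : Co3 Q₁ Q₂ D x y z) (c : Ctx S S0 D Q₁ Q₂)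
    (ha : Amb S S0 D (pr Q₁ Q₂)) {X Y : Subgroup G} (hX : X ≤ S0)
    (hi : ∀ a ∈ S0, ∀ b ∈ S0, a ∉ X → b ∉ X → a * b ∈ X) (hF : 2 < Nat.card F)
    (hXY : ElemSection 2 X Y) : D ≤ Y := by
  have h2 : (2 : F) = 0 := by
    have _ := h.charP
    exact CharTwo.two_eq_zero
  -- commutators with an element of `X ∩ Q₁ - D`
  obtain ⟨a, haX, haQ, haD⟩ : ∃ a ∈ X, a ∈ Q₁ ∧ a ∉ D := by
    by_contra hc
    push Not at hc
    -- every element of `Q₁ - D` is outside `X`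
    obtain ⟨u, hu, hu1⟩ := h.x_surj 1
    obtain ⟨t, ht0, ht1⟩ : ∃ t : F, t ≠ 0 ∧ t ≠ 1 := by
      by_contra hc'
      push Not at hc'
      have _ : Fintype F := Fintype.ofFinite F
      classical
      have h3 : (Finset.univ : Finset F) ⊆ {0, 1} := by
        intro t _
        simp only [Finset.mem_insert, Finset.mem_singleton]
        by_cases h0 : t = 0
        · exact Or.inl h0
        · exact Or.inr (hc' t h0)
      have h4 := Finset.card_le_card h3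
      rw [Finset.card_univ, ← Nat.card_eq_fintype_card] at h4
      have h5 := Finset.card_le_two (a := (0 : F)) (b := 1)
      omega
    obtain ⟨v, hv, hv1⟩ := h.x_surj t
    have huD : u ∉ D := fun hd => by
      rw [← h.x_ker u hu, hu1] at hd; exact one_ne_zero hd
    have hvD : v ∉ D := fun hd => by
      rw [← h.x_ker v hv, hv1] at hd; exact ht0 hd
    have huvD : u * v ∉ D := fun hd => by
      rw [← h.x_ker _ (mul_mem hu hv), h.x_mul u hu v hv, hu1, hv1] at hd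
      apply ht1
      linear_combination hd - h2
    have h5 : u ∉ X := fun hX' => huD (hc u hX' hu)
    have h6 : v ∉ X := fun hX' => hvD (hc v hX' hv)
    have h7 := hi u (ha.Q_le false hu) v (ha.Q_le false hv) h5 h6
    exact huvD (hc _ h7 (mul_mem hu hv))
  intro d hd
  obtain ⟨b, hb, hab⟩ := h.sur c false haQ haD hd
  have hb0 : b ∈ S0 := ha.Q_le true hb
  by_cases hbX : b ∈ X
  · rw [← hab]
    exact hXY.comm a haX b hbX
  · by_cases hQX : Q₁ ≤ X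
    · -- use `b' ∈ X - Q₁`
      obtain ⟨w, hwX, hwQ⟩ : ∃ w ∈ X, w ∉ Q₁ := by
        by_contra hc
        push Not at hc
        -- then `X = Q₁`, but `b * b'` for `b, b' ∈ Q₂ - D` independent gives a contradiction
        obtain ⟨v, hv, hv1⟩ := h.y_surj 1
        obtain ⟨t, ht0, ht1⟩ : ∃ t : F, t ≠ 0 ∧ t ≠ 1 := by
          by_contra hc'
          push Not at hc'
          have _ : Fintype F := Fintype.ofFinite F
          classical
          have h3 : (Finset.univ : Finset F) ⊆ {0, 1} := by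
            intro t _
            simp only [Finset.mem_insert, Finset.mem_singleton]
            by_cases h0 : t = 0
            · exact Or.inl h0
            · exact Or.inr (hc' t h0)
          have h4 := Finset.card_le_card h3
          rw [Finset.card_univ, ← Nat.card_eq_fintype_card] at h4
          have h5 := Finset.card_le_two (a := (0 : F)) (b := 1)
          omega
        obtain ⟨w, hw, hw1⟩ := h.y_surj t
        have hyQ : ∀ u ∈ Q₂, u ∈ Q₁ → y u = 0 := fun u hu hu' =>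
          (h.y_ker u hu).2 ((h.inf u).2 ⟨hu', hu⟩)
        have h5 : v ∉ X := fun hX' => by
          have := hyQ v hv (hc v hX'); rw [hv1] at this; exact one_ne_zero this
        have h6 : w ∉ X := fun hX' => by
          have := hyQ w hw (hc w hX'); rw [hw1] at this; exact ht0 this
        have h7 := hi v (ha.Q_le true hv) w (ha.Q_le true hw) h5 h6
        have h8 := hyQ _ (mul_mem hv hw) (hc _ h7)
        rw [h.y_mul v hv w hw, hv1, hw1] at h8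
        apply ht1
        linear_combination h8 - h2
      -- `w = w₁ w₂`, `w₂ ∈ Q₂ - D`
      obtain ⟨w₁, hw₁, w₂, hw₂, rfl⟩ := (c.sup w).1 (hX hwX)
      have hw₂D : w₂ ∉ D := fun hc => hwQ (mul_mem hw₁ (c.D₁ hc))
      obtain ⟨e, he, hwe⟩ := h.sur c true hw₂ hw₂D hd
      have he' : e ∈ Q₁ := he
      have h3 := hXY.comm _ hwX e (hQX he')
      have h4 : w₁ * w₂ * e * (w₁ * w₂)⁻¹ * e⁻¹ = d := by
        have h5 : w₁ * e = e * w₁ := c.comm₁ hw₁ he'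
        calc w₁ * w₂ * e * (w₁ * w₂)⁻¹ * e⁻¹ = w₁ * (w₂ * e * w₂⁻¹ * e⁻¹) * e * w₁⁻¹ * e⁻¹ := by
              group
          _ = (w₁ * d) * e * w₁⁻¹ * e⁻¹ := by rw [hwe]
          _ = d * (w₁ * e) * w₁⁻¹ * e⁻¹ := by rw [c.comm₁ hw₁ (c.D₁ hd)]; group
          _ = d := by rw [h5]; group
      rwa [h4] at h3
    · obtain ⟨e, he, heX⟩ := SetLike.not_le_iff_exists.1 hQX
      have he0 : e ∈ S0 := ha.Q_le false he
      have h3 := hi b hb0 e he0 hbX heX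
      have h4 := hXY.comm a haX _ h3
      have h5 : a * (b * e) * a⁻¹ * (b * e)⁻¹ = d := by
        have h6 : a * e = e * a := c.comm₁ haQ he
        calc a * (b * e) * a⁻¹ * (b * e)⁻¹ = a * b * (e * a⁻¹) * e⁻¹ * b⁻¹ := by group
          _ = a * b * (a⁻¹ * e) * e⁻¹ * b⁻¹ := by
              have h7 : e * a⁻¹ = a⁻¹ * e := by
                calc e * a⁻¹ = a⁻¹ * (a * e) * a⁻¹ := by group
                  _ = a⁻¹ * (e * a) * a⁻¹ := by rw [h6]
                  _ = _ := by group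
              rw [h7]
          _ = a * b * a⁻¹ * b⁻¹ := by group
          _ = d := hab
      rwa [h5] at h4

/-- Elementary sections of `S₀` for `q = 4`. -/
theorem Co3.section_S0 (h : Co3 Q₁ Q₂ D x y z) (c : Ctx S S0 D Q₁ Q₂) (h2 : IsPGroup 2 S)
    (ha : Amb S S0 D (pr Q₁ Q₂)) (hF : Nat.card F = 4) {X Y : Subgroup G} (hX : X ≤ S0)
    (hXY : ElemSection 2 X Y) : Nat.card X ≤ 8 * Nat.card Y ∨
      (∃ i, X = pr Q₁ Q₂ i ∧ Nat.card Y = 1) ∨ (X = S0 ∧ Nat.card Y = 4 ∧ D ≤ Y) := by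
  have hcD : Nat.card D = 4 := by rw [h.card_D, hF]
  have hcQ : ∀ i, Nat.card (pr Q₁ Q₂ i : Subgroup G) = 16 := by
    rintro (_ | _)
    · show Nat.card Q₁ = 16
      rw [Ctx.card_eq c.D₁ h.hx, hF, hcD]
    · show Nat.card Q₂ = 16
      rw [Ctx.card_eq c.D₂ h.hy, hF, hcD]
  have hc0 : Nat.card S0 ≤ 64 := by
    have := h.card_S0 c
    rw [hF, show Nat.card Q₁ = 16 from hcQ false] at this
    exact this
  have hrel := relIndex_mul hX
  have hX2 : IsPGroup 2 X := h2.to_le (hX.trans c.le0)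
  by_cases hi : X.relIndex S0 ≤ 2
  · -- index at most two
    have hD : D ≤ Y := by
      refine h.D_le_of_index c ha hX ?_ (by omega) hXY
      intro a ha0 b hb0 haX hbX
      have h3 : X.relIndex S0 ≠ 1 := fun hc => haX ((Subgroup.relIndex_eq_one.1 hc) ha0)
      have h4 : X.relIndex S0 = 2 := by
        have := relIndex_ne_zero' X S0
        omega
      rw [Subgroup.relIndex] at h4
      have h9 := (Subgroup.mul_mem_iff_of_index_two h4 (a := ⟨a, ha0⟩) (b := ⟨b, hb0⟩)).2 (by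
        rw [Subgroup.mem_subgroupOf, Subgroup.mem_subgroupOf]
        exact iff_of_false haX hbX)
      exact Subgroup.mem_subgroupOf.1 h9
    have hcY : 4 ≤ Nat.card Y := by
      rw [← hcD]
      exact Subgroup.card_le_of_le hD
    have h3 := relIndex_ne_zero' X S0
    have h4 : X.relIndex S0 = 1 ∨ X.relIndex S0 = 2 := by omega
    rcases h4 with h4 | h4
    · have hXS : X = S0 := le_antisymm hX (Subgroup.relIndex_eq_one.1 h4)
      by_cases h5 : Nat.card Y = 4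
      · exact Or.inr (Or.inr ⟨hXS, h5, hD⟩)
      · left
        -- `card Y` is a power of two
        obtain ⟨n, hn⟩ := (hX2.to_le hXY.le).exists_card_eq
        rw [hn] at hcY h5 ⊢
        have h6 : 3 ≤ n := by
          by_contra hlt
          have : n = 0 ∨ n = 1 ∨ n = 2 := by omega
          rcases this with rfl | rfl | rfl <;> simp at hcY h5
        have h7 : 2 ^ 3 ≤ 2 ^ n := Nat.pow_le_pow_right (by norm_num) h6
        rw [hXS]
        omega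
    · left
      rw [h4] at hrel
      omega
  · push Not at hi
    -- `card X ≤ 16`
    have h3 : Nat.card X ≤ 16 := by
      obtain ⟨n, hn⟩ := hX2.exists_card_eq
      rw [hn] at hrel ⊢
      have h4 : 3 * 2 ^ n ≤ 64 := by
        calc 3 * 2 ^ n ≤ X.relIndex S0 * 2 ^ n := Nat.mul_le_mul_right _ hi
          _ ≤ 64 := by rw [hrel]; exact hc0
      have h5 : n ≤ 4 := by
        by_contra hlt
        have h6 : 2 ^ 5 ≤ 2 ^ n := Nat.pow_le_pow_right (by norm_num) (by omega)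
        omega
      calc 2 ^ n ≤ 2 ^ 4 := Nat.pow_le_pow_right (by norm_num) h5
        _ = 16 := by norm_num
    by_cases h4 : Nat.card Y = 1
    · have hY : Y = ⊥ := Subgroup.card_eq_one.1 h4
      obtain ⟨j, hj⟩ := ha.le_or hX (fun a haX => by
        have := hXY.pow a haX
        rw [hY, Subgroup.mem_bot, pow_two] at this
        exact this)
      by_cases h5 : Nat.card X = 16
      · right; left
        exact ⟨j, Subgroup.eq_of_le_of_card_ge hj (by rw [hcQ, h5]), h4⟩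
      · left
        obtain ⟨n, hn⟩ := hX2.exists_card_eq
        rw [hn] at h3 h5 ⊢
        have h6 : n ≤ 3 := by
          by_contra hlt
          have h7 : n ≤ 4 := by
            by_contra hlt'
            have h6 : 2 ^ 5 ≤ 2 ^ n := Nat.pow_le_pow_right (by norm_num) (by omega)
            omega
          have h8 : n = 4 := by omega
          rw [h8] at h5
          norm_num at h5
        have h7 : 2 ^ n ≤ 2 ^ 3 := Nat.pow_le_pow_right (by norm_num) h6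
        rw [h4]
        omega
    · left
      have h5 : Nat.card Y ≠ 0 := Nat.card_pos.ne'
      omega

/-- **Type `L₃(4)`**: the sectional 2-rank of `G` is at most 4. -/
theorem Co3.rank_four (S : Sylow 2 G) (h : Co3 Q₁ Q₂ D x y z)
    (c : Ctx (S : Subgroup G) S0 D Q₁ Q₂) (hF : Nat.card F = 4) :
    Cfsg.SectionalPRankLE 2 4 G := by
  have _ := h.charP
  have ha := h.amb c S.isPGroup'
  have hsq : ∀ s ∈ (S : Subgroup G), s * s ∈ S0 := by
    intro s hs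
    obtain ⟨σ, k, l, h3, -, -⟩ := h.exists_sl c hs
    have h4 := SL.mul (c.n₁ s hs) h3 h3
    have h5 : σ.comp σ = RingHom.id F := RingHom.ext (sq_of_card_four hF σ)
    rw [h5] at h4
    exact c.mem_of_SL S.isPGroup' h.hx (mul_mem hs hs) h4
  rw [sectionalPRankLE_iff]
  intro X Y hXY
  obtain ⟨X', Y', hX', hsec, hc⟩ := exists_sylow_section S hXY
  have key : Nat.card X' ≤ 16 * Nat.card Y' := by
    by_cases hX0 : X' ≤ S0
    · rcases h.section_S0 c S.isPGroup' ha hF hX0 hsec with h1 | ⟨i, h1, h2⟩ | ⟨h1, h2, -⟩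
      · omega
      · have h3 : Nat.card (pr Q₁ Q₂ i : Subgroup G) = 16 := by
          cases i
          · show Nat.card Q₁ = 16
            rw [Ctx.card_eq c.D₁ h.hx, hF, h.card_D, hF]
          · show Nat.card Q₂ = 16
            rw [Ctx.card_eq c.D₂ h.hy, hF, h.card_D, hF]
        rw [h1, h3, h2]
      · have h3 := h.card_S0 c
        rw [hF, Ctx.card_eq c.D₁ h.hx, hF, h.card_D, hF] at h3
        rw [h1, h2]
        omega
    · obtain ⟨f, hfX, hf0⟩ := SetLike.not_le_iff_exists.1 hX0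
      have hfS := hX' hfX
      have hfF : Amb.Fld (S : Subgroup G) S0 f := ⟨hfS, hsq f hfS, hf0⟩
      -- index two
      have hidx : ∀ {Z : Subgroup G}, Z ≤ (S : Subgroup G) → ∀ g ∈ Z, g ∉ S0 →
          Nat.card Z = 2 * Nat.card (Z ⊓ S0 : Subgroup G) := by
        intro Z hZ g hg hg0
        have h1 : (Z ⊓ S0).relIndex Z = 2 := by
          rw [Subgroup.relIndex, Subgroup.index_eq_two_iff]
          refine ⟨⟨g, hg⟩, fun b => ?_⟩
          by_cases hb : (b : G) ∈ S0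
          · right
            refine ⟨Subgroup.mem_subgroupOf.2 (Subgroup.mem_inf.2 ⟨b.2, hb⟩), fun hc => ?_⟩
            exact hg0 ((S0.mul_mem_cancel_left hb).1 (Subgroup.mem_inf.1
              (Subgroup.mem_subgroupOf.1 hc)).2)
          · left
            refine ⟨Subgroup.mem_subgroupOf.2 (Subgroup.mem_inf.2 ⟨mul_mem b.2 hg,
              ha.cyc _ (hZ b.2) _ (hZ hg) (hsq _ (hZ b.2)) (hsq _ (hZ hg)) hb hg0⟩), fun hc => ?_⟩
            exact hb (Subgroup.mem_inf.1 (Subgroup.mem_subgroupOf.1 hc)).2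
        have h2 := relIndex_mul (inf_le_left : Z ⊓ S0 ≤ Z)
        rw [h1] at h2
        exact h2.symm
      have hX2 := hidx hX' f hfX hf0
      have hsec0 := hsec.inf S0
      rcases h.section_S0 c S.isPGroup' ha hF inf_le_right hsec0 with h1 | ⟨i, h1, h2⟩ | ⟨h1, h2, h2'⟩
      · have h3 : Nat.card (Y' ⊓ S0 : Subgroup G) ≤ Nat.card Y' :=
          Subgroup.card_le_of_le inf_le_left
        omega
      · -- `X ∩ S₀ = Q_i`, `Y ∩ S₀ = 1`
        have h3 : Nat.card (pr Q₁ Q₂ i : Subgroup G) = 16 := by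
          cases i
          · show Nat.card Q₁ = 16
            rw [Ctx.card_eq c.D₁ h.hx, hF, h.card_D, hF]
          · show Nat.card Q₂ = 16
            rw [Ctx.card_eq c.D₂ h.hy, hF, h.card_D, hF]
        by_cases hY : Nat.card Y' = 1
        · exfalso
          have hY' : Y' = ⊥ := Subgroup.card_eq_one.1 hY
          obtain ⟨d, hd, hfd⟩ := ha.exists_moveD hfF
          apply hfd
          have hdX : d ∈ X' := by
            have : d ∈ X' ⊓ S0 := by rw [h1]; exact ha.D_le i hd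
            exact (Subgroup.mem_inf.1 this).1
          have := hsec.comm f hfX d hdX
          rw [hY', Subgroup.mem_bot, mul_inv_eq_one] at this
          exact this
        · have h4 : Nat.card Y' ≠ 0 := Nat.card_pos.ne'
          rw [h1, h3] at hX2
          omega
      · -- `X ∩ S₀ = S₀`, `Y ∩ S₀ = D`
        have h3 := h.card_S0 c
        rw [hF, Ctx.card_eq c.D₁ h.hx, hF, h.card_D, hF] at h3
        have h4 : Nat.card (Y' ⊓ S0 : Subgroup G) ≤ Nat.card Y' :=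
          Subgroup.card_le_of_le inf_le_left
        by_cases hY : Nat.card Y' = 4
        · exfalso
          have h5 : Y' ⊓ S0 = Y' := Subgroup.eq_of_le_of_card_ge inf_le_left (by rw [hY, h2])
          have h6 : D = Y' := by
            rw [← h5]
            exact Subgroup.eq_of_le_of_card_ge h2' (by rw [h2, h.card_D, hF])
          obtain ⟨a, haQ, hfa⟩ := ha.exists_move hfF false
          apply hfa
          have haX : a ∈ X' := by
            have : a ∈ X' ⊓ S0 := by rw [h1]; exact ha.Q_le false haQ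
            exact (Subgroup.mem_inf.1 this).1
          have := hsec.comm f hfX a haX
          rw [← h6, ha.inv_eq haQ] at this
          exact this
        · have h5 : Nat.card X' ≤ 128 := by
            rw [h1] at hX2
            omega
          -- `card Y'` is a power of two `≥ 8`
          obtain ⟨n, hn⟩ := (S.isPGroup'.to_le (hsec.le.trans hX')).exists_card_eq
          have h6 : 3 ≤ n := by
            by_contra hlt
            have h8 : 2 ^ n ≤ 2 ^ 2 := Nat.pow_le_pow_right (by norm_num) (by omega)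
            rw [← hn] at h8
            omega
          have h7 : 2 ^ 3 ≤ 2 ^ n := Nat.pow_le_pow_right (by norm_num) h6
          rw [← hn] at h7
          omega
  have h4 : Nat.card X * Nat.card Y' ≤ (2 ^ 4 * Nat.card Y) * Nat.card Y' := by
    rw [hc]
    calc Nat.card X' * Nat.card Y ≤ (16 * Nat.card Y') * Nat.card Y :=
          Nat.mul_le_mul_right _ key
      _ = (2 ^ 4 * Nat.card Y) * Nat.card Y' := by ring
  exact Nat.le_of_mul_le_mul_right h4 Nat.card_pos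

end Cfsg.Agent.Omega.CloseA

end
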